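import Cfsg.Agent.Lib.Chev.E6Two.CertTables

/-! The commutators which define the lifts (generated data). -/

set_option autoImplicit false

namespace CfsgLib.E6Two

/-- For each generator from 6 on: a pair with its commutator word after the leading letter. -/
def liftTab : List (ℕ × ℕ × List ℕ) :=
  [(2, 0, []),
   (2, 1, []),
   (4, 2, [13]),
   (4, 3, [13]),
   (5, 4, []),
   (8, 0, []),
   (8, 1, []),
   (8, 3, []),
   (8, 5, [23]),
   (9, 5, [23]),
   (8, 6, []),
   (8, 7, []),
   (14, 0, []),
   (14, 1, []),
   (13, 5, []),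
   (14, 6, []),
   (14, 7, []),
   (13, 10, []),
   (11, 7, []),
   (14, 11, []),
   (14, 12, []),
   (18, 7, []),
   (16, 14, []),
   (16, 15, []),
   (18, 12, []),
   (18, 16, []),
   (19, 16, []),
   (21, 17, []),
   (24, 23, []),
   (25, 22, [])]

end CfsgLib.E6Two
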