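import Cfsg.Agent.Lib.Chev.E6Two.CertTables

/-!
Two involutions carry all central defects, by propagation through the equations.
-/

set_option autoImplicit false
set_option maxRecDepth 100000
set_option linter.unusedSectionVars false

namespace CfsgLib.E6Two

open Pres

/-- The exponents of a defect. -/
def valOf (k : ℕ) : List (ℕ × ℤ) := (valRows.getD (k / 32) []).getD (k % 32) []

/-- The total exponent at a seed. -/
def tot (s : ℕ) : List (ℕ × ℤ) → ℤ
  | [] => 0
  | p :: l => if p.1 = s then p.2 + tot s l else tot s l

/-- Negation of the exponents. -/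
def negL (l : List (ℕ × ℤ)) : List (ℕ × ℤ) := l.map fun p => (p.1, -p.2)

/-- The exponents vanish. -/
def isZero (l : List (ℕ × ℤ)) : Bool := l.all fun p => tot p.1 l == 0

/-- Removal of the common defects of two sides. -/
def cancelSides : List ℕ → List ℕ → List ℕ × List ℕ
  | [], R => ([], R)
  | a :: L, R =>
    if R.contains a then cancelSides L (R.erase a)
    else (a :: (cancelSides L R).1, (cancelSides L R).2)

/-- An equation without common defects. -/
def eqnNet (e : Eqn) : Option (List ℕ × List ℕ) := (eqnOf e).map fun p => cancelSides p.1 p.2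

/-- The exponents of a list of defects. -/
def valSum (L : List ℕ) : List (ℕ × ℤ) := L.flatMap valOf

/-- One step: a new defect with coefficient `±1`. -/
def chkStep (known : ℕ) (e : Eqn) (u : ℕ) : Bool :=
  match eqnNet e with
  | none => false
  | some (L, R) =>
    ((L ++ R).all fun q => known.testBit q || q == u) &&
      ((((L.count u : ℕ) : ℤ) - (R.count u : ℕ)).natAbs == 1) &&
      isZero (valSum L ++ negL (valSum R))

/-- All steps in their order. -/
def chkSteps : ℕ → List (Eqn × ℕ) → Option ℕ
  | known, [] => some known
  | known, (e, u) :: st =>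
    if chkStep known e u then chkSteps (known ||| 2 ^ u) st else none

/-- The set of the defects given at the start. -/
def startSet : ℕ := (fixedList ++ seedList).foldr (fun k a => a ||| 2 ^ k) 0

/-- The whole check. -/
def chkCert : Bool :=
  (fixedList.all fun k => (valOf k).isEmpty) &&
  ((List.range 37).all fun s => valOf (seedList.getD s 0) == [(s, 1)]) &&
  decide (seedList.length = 37) &&
  match chkSteps startSet stepsList with
  | none => false
  | some known =>
    ((List.range 666).all fun k => known.testBit k &&
      (valOf k).all fun p => decide (p.1 < 2) || decide ((tot p.1 (valOf k)) % 2 = 0)) &&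
    decide (orderList.length = 37) &&
    (List.range 37).all fun s =>
      match eqnNet (orderList.getD s (.assoc 99 99 99, 0)).1 with
      | none => false
      | some (L, R) =>
        ((L ++ R).all fun q => known.testBit q) &&
          ((orderList.getD s (.assoc 99 99 99, 0)).2.natAbs == 1) &&
          isZero (valSum L ++ negL (valSum R) ++ [(s, -2 * (orderList.getD s (.assoc 99 99 99, 0)).2)])

theorem chkCert_eq : chkCert = true := by decide +kernel

section Sound

variable {A : Type*} [CommGroup A] (g : ℕ → A)

/-- The value of exponents. -/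
def mval (l : List (ℕ × ℤ)) : A := (l.map fun p => g p.1 ^ p.2).prod

@[simp] lemma mval_nil : mval g [] = 1 := rfl
@[simp] lemma mval_cons (p : ℕ × ℤ) (l : List (ℕ × ℤ)) : mval g (p :: l) = g p.1 ^ p.2 * mval g l := by
  simp [mval]
@[simp] lemma mval_append (l m : List (ℕ × ℤ)) : mval g (l ++ m) = mval g l * mval g m := by
  simp [mval]

lemma mval_negL (l : List (ℕ × ℤ)) : mval g (negL l) = (mval g l)⁻¹ := by
  induction l with
  | nil => simp [negL]
  | cons p l ih =>
    rw [negL, List.map_cons, mval_cons, show l.map (fun p => (p.1, -p.2)) = negL l from rfl, ih,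
      mval_cons, mul_inv, zpow_neg]

lemma mval_valSum (L : List ℕ) : mval g (valSum L) = (L.map fun k => mval g (valOf k)).prod := by
  induction L with
  | nil => simp [valSum]
  | cons a L ih => simp [valSum, ← ih]

lemma mval_eq_prod (l : List (ℕ × ℤ)) (S : Finset ℕ) (hS : ∀ p ∈ l, p.1 ∈ S) :
    mval g l = ∏ s ∈ S, g s ^ tot s l := by
  induction l with
  | nil => simp [tot]
  | cons p l ih =>
    have hp := hS p List.mem_cons_self
    rw [mval_cons, ih fun q hq => hS q (List.mem_cons_of_mem _ hq), ← Finset.mul_prod_erase S
      (fun s => g s ^ tot s (p :: l)) hp, ← Finset.mul_prod_erase S (fun s => g s ^ tot s l) hp,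
      ← mul_assoc, ← zpow_add, show tot p.1 (p :: l) = p.2 + tot p.1 l by simp [tot]]
    congr 1
    refine Finset.prod_congr rfl fun s hs => ?_
    rw [show tot s (p :: l) = tot s l by simp [tot, Ne.symm (Finset.ne_of_mem_erase hs)]]

lemma mval_isZero {l : List (ℕ × ℤ)} (h : isZero l = true) : mval g l = 1 := by
  simp only [isZero, List.all_eq_true, beq_iff_eq] at h
  rw [mval_eq_prod g l (l.map Prod.fst).toFinset fun p hp =>
    List.mem_toFinset.2 (List.mem_map.2 ⟨p, hp, rfl⟩)]
  refine Finset.prod_eq_one fun s hs => ?_
  obtain ⟨p, hp, rfl⟩ := List.mem_map.1 (List.mem_toFinset.1 hs)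
  rw [h p hp, zpow_zero]

lemma cancelSides_sound (c : ℕ → A) : ∀ (L R : List ℕ), (L.map c).prod = (R.map c).prod →
    ((cancelSides L R).1.map c).prod = ((cancelSides L R).2.map c).prod := by
  suffices ∀ (L R : List ℕ), (L.map c).prod * ((cancelSides L R).2.map c).prod =
      (R.map c).prod * ((cancelSides L R).1.map c).prod by
    intro L R h
    have := this L R
    rw [h] at this
    exact (mul_left_cancel this).symm
  intro L
  induction L with
  | nil => intro R; simp [cancelSides]
  | cons a L ih =>
    intro R
    rw [cancelSides]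
    split_ifs with h
    · rw [List.contains_iff_mem] at h
      rw [((List.perm_cons_erase h).map c).prod_eq, List.map_cons, List.prod_cons, List.map_cons,
        List.prod_cons, mul_assoc, mul_assoc, ih]
    · rw [List.map_cons, List.prod_cons, List.map_cons, List.prod_cons, mul_assoc, ih,
        mul_left_comm]

variable {c : ℕ → A}
  (heq : ∀ {e : Eqn} {L R : List ℕ}, eqnNet e = some (L, R) → (L.map c).prod = (R.map c).prod)
include heq

lemma prod_off {L : List ℕ} {u : ℕ} (hL : ∀ q ∈ L, c q = mval g (valOf q) ∨ q = u) :
    (L.map c).prod = mval g (valSum L) * (c u / mval g (valOf u)) ^ L.count u := by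
  clear heq
  induction L with
  | nil => simp [valSum]
  | cons a L ih =>
    have ih' := ih fun q hq => hL q (List.mem_cons_of_mem _ hq)
    rw [List.map_cons, List.prod_cons, ih', show valSum (a :: L) = valOf a ++ valSum L from rfl,
      mval_append]
    rcases hL a List.mem_cons_self with h | rfl
    · rw [h]
      by_cases hau : a = u
      · subst hau
        rw [h, div_self', one_pow, one_pow, mul_one, mul_one]
      · rw [List.count_cons_of_ne hau, mul_assoc]
    · rw [List.count_cons_self, pow_succ']
      rw [mul_mul_mul_comm, mul_div_cancel]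

lemma step_sound {known u : ℕ} {e : Eqn} (hk : ∀ q, known.testBit q = true → c q = mval g (valOf q))
    (hc : chkStep known e u = true) : c u = mval g (valOf u) := by
  rw [chkStep] at hc
  split at hc
  · exact absurd hc Bool.false_ne_true
  next L R he =>
  simp only [Bool.and_eq_true, List.all_eq_true, Bool.or_eq_true, beq_iff_eq] at hc
  obtain ⟨⟨hall, hnet⟩, hz⟩ := hc
  have h1 := heq he
  have hmem : ∀ q ∈ L ++ R, c q = mval g (valOf q) ∨ q = u := fun q hq =>
    (hall q hq).imp (hk q) id
  rw [prod_off g heq (fun q hq => hmem q (List.mem_append_left _ hq)),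
    prod_off g heq (fun q hq => hmem q (List.mem_append_right _ hq))] at h1
  have h2 := mval_isZero g hz
  rw [mval_append, mval_negL, mul_inv_eq_one] at h2
  rw [h2] at h1
  have h3 := mul_left_cancel h1
  set d := c u / mval g (valOf u)
  have h4 : d ^ (((L.count u : ℕ) : ℤ) - (R.count u : ℕ)) = 1 := by
    rw [zpow_sub, zpow_natCast, zpow_natCast, h3, mul_inv_cancel]
  rcases Int.natAbs_eq (((L.count u : ℕ) : ℤ) - (R.count u : ℕ)) with e | e <;> rw [e, hnet] at h4
  · exact div_eq_one.1 (by simpa using h4)
  · exact div_eq_one.1 (by simpa using h4)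

lemma steps_sound : ∀ (st : List (Eqn × ℕ)) {known out : ℕ},
    (∀ q, known.testBit q = true → c q = mval g (valOf q)) →
    chkSteps known st = some out → ∀ q, out.testBit q = true → c q = mval g (valOf q)
  | [], known, out, hk, e => by
    simp only [chkSteps, Option.some.injEq] at e
    exact e ▸ hk
  | (e', u) :: st, known, out, hk, e => by
    simp only [chkSteps] at e
    split_ifs at e with hc
    refine steps_sound st (fun q hq => ?_) e
    rw [Nat.testBit_lor, Bool.or_eq_true, Nat.testBit_two_pow, decide_eq_true_eq] at hq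
    rcases hq with hq | rfl
    · exact hk q hq
    · exact step_sound g heq hk hc

end Sound

/-- The defects of the presentation lie in a four-group. -/
theorem defects_in_four {A : Type*} [CommGroup A] {c : ℕ → A}
    (heq0 : ∀ {e : Eqn} {L R : List ℕ}, eqnOf e = some (L, R) → (L.map c).prod = (R.map c).prod)
    (hfix : ∀ k ∈ fixedList, c k = 1) :
    ∃ a b : A, a ^ 2 = 1 ∧ b ^ 2 = 1 ∧ ∀ k < 666, ∃ i j : ℕ, c k = a ^ i * b ^ j := by
  classical
  have heq : ∀ {e : Eqn} {L R : List ℕ}, eqnNet e = some (L, R) →
      (L.map c).prod = (R.map c).prod := by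
    intro e L R he
    obtain ⟨⟨L', R'⟩, h1, h2⟩ := Option.map_eq_some_iff.1 he
    have h3 := cancelSides_sound c L' R' (heq0 h1)
    rw [h2] at h3
    exact h3
  set g : ℕ → A := fun s => c (seedList.getD s 0) with hg
  have h := chkCert_eq
  simp only [chkCert, Bool.and_eq_true, List.all_eq_true, List.mem_range, decide_eq_true_eq,
    beq_iff_eq, List.isEmpty_iff] at h
  obtain ⟨⟨⟨hf, hseed⟩, hlen⟩, h⟩ := h
  split at h
  · exact absurd h Bool.false_ne_true
  next known hknown =>
  simp only [Bool.and_eq_true, List.all_eq_true, List.mem_range, decide_eq_true_eq,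
    Bool.or_eq_true] at h
  obtain ⟨⟨hval, -⟩, hord⟩ := h
  have hstart : ∀ q, startSet.testBit q = true → c q = mval g (valOf q) := by
    have : ∀ (l : List ℕ) q, (l.foldr (fun k a => a ||| 2 ^ k) 0).testBit q = true → q ∈ l := by
      intro l q
      induction l with
      | nil => simp
      | cons a l ih =>
        rw [List.foldr_cons, Nat.testBit_lor, Bool.or_eq_true, Nat.testBit_two_pow, decide_eq_true_eq]
        rintro (h | rfl)
        · exact List.mem_cons_of_mem _ (ih h)
        · exact List.mem_cons_self
    intro q hq
    rcases List.mem_append.1 (this _ q hq) with hq | hq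
    · rw [hf q hq, mval_nil, hfix q hq]
    · obtain ⟨s, hs, rfl⟩ := List.getElem_of_mem hq
      rw [← List.getD_eq_getElem seedList 0 hs, hseed s (by omega), mval_cons, mval_nil, mul_one,
        zpow_one]
  have hk := steps_sound g heq stepsList hstart hknown
  have hsq : ∀ s < 37, g s ^ 2 = 1 := by
    intro s hs
    have h0 := hord s hs
    split at h0
    · exact absurd h0 Bool.false_ne_true
    next L R he =>
    simp only [Bool.and_eq_true, List.all_eq_true, beq_iff_eq] at h0
    obtain ⟨⟨hall, hab⟩, hz⟩ := h0
    have h1 := heq he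
    have hp : ∀ M : List ℕ, (∀ q ∈ M, known.testBit q = true) →
        (M.map c).prod = mval g (valSum M) := fun M hM => by
      rw [mval_valSum]
      exact congrArg List.prod (List.map_congr_left fun q hq => hk q (hM q hq))
    rw [hp L fun q hq => hall q (List.mem_append_left _ hq),
      hp R fun q hq => hall q (List.mem_append_right _ hq)] at h1
    have h2 := mval_isZero g hz
    rw [mval_append, mval_append, mval_negL, h1, mul_inv_cancel, one_mul, mval_cons, mval_nil,
      mul_one] at h2
    rcases Int.natAbs_eq ((orderList.getD s (.assoc 99 99 99, 0)).2) with e | e <;>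
      · rw [e, hab] at h2
        simpa using h2
  refine ⟨g 0, g 1, hsq 0 (by omega), hsq 1 (by omega), fun k hk6 => ?_⟩
  obtain ⟨hkn, hev⟩ := hval k hk6
  rw [hk k hkn]
  have hlt : ∀ p ∈ valOf k, p.1 < 37 := by
    intro p hp
    have hc : ((List.range 666).all fun k => (valOf k).all fun p => decide (p.1 < 37)) = true := by
      decide +kernel
    simp only [List.all_eq_true, List.mem_range, decide_eq_true_eq] at hc
    exact hc k hk6 p hp
  have hodd : ∀ (x : A) (m : ℤ), x ^ 2 = 1 → x ^ m = x ^ (m % 2).toNat := by
    intro x m hx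
    conv_lhs => rw [← Int.mul_ediv_add_emod m 2]
    rw [zpow_add, zpow_mul, zpow_ofNat, hx, one_zpow, one_mul,
      ← zpow_natCast, Int.toNat_of_nonneg (Int.emod_nonneg m (by norm_num))]
  refine ⟨((tot 0 (valOf k)) % 2).toNat, ((tot 1 (valOf k)) % 2).toNat, ?_⟩
  rw [← hodd _ _ (hsq 0 (by omega)), ← hodd _ _ (hsq 1 (by omega)),
    mval_eq_prod g (valOf k) (Finset.range 37) fun p hp => Finset.mem_range.2 (hlt p hp),
    ← Finset.prod_sdiff (show Finset.range 2 ⊆ Finset.range 37 by simp),
    Finset.prod_range_succ, Finset.prod_range_one]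
  refine mul_eq_right.2 (Finset.prod_eq_one fun s hs => ?_)
  simp only [Finset.mem_sdiff, Finset.mem_range, not_lt] at hs
  by_cases hp : ∃ p ∈ valOf k, p.1 = s
  · obtain ⟨p, hp, rfl⟩ := hp
    rcases hev p hp with h2 | h2
    · omega
    · rw [hodd _ _ (hsq p.1 hs.1), h2]; simp
  · push Not at hp
    have : ∀ l : List (ℕ × ℤ), (∀ p ∈ l, p.1 ≠ s) → tot s l = 0 := by
      intro l hl
      induction l with
      | nil => rfl
      | cons p l ih =>
        rw [tot, if_neg (hl p List.mem_cons_self), ih fun q hq => hl q (List.mem_cons_of_mem _ hq)]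
    rw [this _ hp, zpow_zero]

end CfsgLib.E6Two
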