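import Cfsg.Agent.Lib.Chev.E6Two.Conj
import Cfsg.Agent.Lib.Chev.E6Two.Propagate
import Cfsg.Agent.Lib.Chev.E6Two.LiftData
import Cfsg.Agent.Lib.Schur.SylowCriterion

/-!
The two-part of the kernel of a stem extension of `²E₆(2)` is generated by two involutions.
-/

set_option autoImplicit false
set_option maxRecDepth 100000
set_option linter.unusedSectionVars false
set_option linter.style.haveILetI false

open scoped commutatorElement

namespace CfsgLib.E6Two

open Cfsg.Lie CfsgLib.Chev

/-- The pairs in the numbering of the defects. -/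
def pairList : List (ℕ × ℕ) :=
  (List.range 36).flatMap fun h => (List.range (h + 1)).map fun g => (h, g)

/-- The entry of a generator. -/
def liftRow (k : ℕ) : ℕ × ℕ × List ℕ := liftTab.getD (k - 6) (0, 0, [])

/-- The check of the numbering and of the lifts. -/
def chkBoundData : Bool :=
  ((List.range 36).all fun h => (List.range (h + 1)).all fun g =>
    pairList.getD (PU.idx h g) (99, 99) == (h, g) && decide (PU.idx h g < 666)) &&
  ((List.range 30).all fun i =>
    decide ((liftRow (i + 6)).1 < 36 ∧ (liftRow (i + 6)).2.1 < (liftRow (i + 6)).1) &&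
      (PU.rel (liftRow (i + 6)).1 (liftRow (i + 6)).2.1 == (i + 6) :: (liftRow (i + 6)).2.2) &&
      ((liftRow (i + 6)).2.2.all fun q => decide (i + 6 < q ∧ q < 36))) &&
  decide (pairList.length = 666) &&
  decide (cimg 3 4 = [10] ∧ cimg 2 5 = [10] ∧ cimg 4 0 = [0, 1] ∧ cimg 4 1 = [0] ∧
    cimg 5 2 = [2, 3] ∧ cimg 5 3 = [2] ∧ cdom 3 4 = true ∧ cdom 2 5 = true ∧ cdom 4 0 = true ∧
    cdom 4 1 = true ∧ cdom 5 2 = true ∧ cdom 5 3 = true) &&
  decide (fixedList = (List.range 30).map (fun i => PU.idx (liftRow (i + 6)).1 (liftRow (i + 6)).2.1) ++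
    [cix 3 4, cix 2 5, cix 4 0, cix 4 1, cix 5 2, cix 5 3])

theorem chkBoundData_eq : chkBoundData = true := by decide +kernel

section Lifts

variable {Δ : Type*} [Group Δ] (s t : ℕ → Δ)

/-- The lift from a commutator, the later letters first. -/
def xhi : ℕ → ℕ → Δ
  | 0, _ => 1
  | fuel + 1, k =>
    (s (liftRow k).2.1 * s (liftRow k).1)⁻¹ * (s (liftRow k).1 * s (liftRow k).2.1) *
      (Pres.ev (fun q => xhi fuel q) (liftRow k).2.2)⁻¹

/-- The first defect of a torus on a short simple root. -/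
def tc0 (n i : ℕ) : Δ := (s i * s (i + 1))⁻¹ * (t n * s i * (t n)⁻¹)

/-- The second defect of a torus on a short simple root. -/
def tc1 (n i : ℕ) : Δ := (s i)⁻¹ * (t n * s (i + 1) * (t n)⁻¹)

/-- The lifts of the generators. -/
def mkx (k : ℕ) : Δ :=
  if k < 4 then
    if k = 0 then s 0 * (tc1 s t 4 0 * tc0 s t 4 0)
    else if k = 1 then s 1 * tc0 s t 4 0
    else if k = 2 then s 2 * (tc1 s t 5 2 * tc0 s t 5 2)
    else s 3 * tc0 s t 5 2
  else if k = 4 then (t 3)⁻¹ * xhi s 36 10 * t 3
  else if k = 5 then (t 2)⁻¹ * xhi s 36 10 * t 2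
  else xhi s 36 k

lemma xhi_stable : ∀ (fuel k : ℕ), 6 ≤ k → k < 36 → 36 ≤ k + fuel →
    xhi s (fuel + 1) k = xhi s fuel k
  | 0, k, _, h1, h2 => absurd h1 (by omega)
  | fuel + 1, k, h6, h1, h2 => by
    have h := chkBoundData_eq
    simp only [chkBoundData, Bool.and_eq_true, List.all_eq_true, List.mem_range,
      decide_eq_true_eq] at h
    have hq := (h.1.1.1.2 (k - 6) (by omega)).2
    rw [show k - 6 + 6 = k by omega] at hq
    show _ * _ * (Pres.ev (fun q => xhi s (fuel + 1) q) _)⁻¹ = _ * _ * (Pres.ev (fun q => xhi s fuel q) _)⁻¹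
    congr 2
    refine congrArg List.prod (List.map_congr_left fun q hq' => ?_)
    obtain ⟨hlt, hlt'⟩ := hq q hq'
    exact xhi_stable fuel q (by omega) hlt' (by omega)

lemma mkx_hi {k : ℕ} (h6 : 6 ≤ k) : mkx s t k = xhi s 36 k := by
  rw [mkx, if_neg (by omega), if_neg (by omega), if_neg (by omega)]

lemma mkx_comm {k : ℕ} (h6 : 6 ≤ k) (hk : k < 36) :
    mkx s t k * Pres.ev (mkx s t) (liftRow k).2.2 =
      (s (liftRow k).2.1 * s (liftRow k).1)⁻¹ * (s (liftRow k).1 * s (liftRow k).2.1) := by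
  have h := chkBoundData_eq
  simp only [chkBoundData, Bool.and_eq_true, List.all_eq_true, List.mem_range,
    decide_eq_true_eq] at h
  have hq := (h.1.1.1.2 (k - 6) (by omega)).2
  rw [show k - 6 + 6 = k by omega] at hq
  have e : Pres.ev (mkx s t) (liftRow k).2.2 = Pres.ev (fun q => xhi s 36 q) (liftRow k).2.2 :=
    congrArg List.prod (List.map_congr_left fun q hq' => mkx_hi s t (by have := hq q hq'; omega))
  rw [mkx_hi s t h6, ← xhi_stable s 36 k h6 hk (by omega), e, xhi, inv_mul_cancel_right]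

end Lifts

variable {K : Type*} [Field K] [Fintype K]

set_option maxHeartbeats 800000 in
/-- The four-group bound. -/
theorem two_bound (X : Ctx4 K) {Δ : Type*} [Group Δ] [Finite Δ] (σ : Δ →* ↥X.E.fix)
    (hσ : Cfsg.IsStemExtension σ) :
    ∃ a b : Δ, a ^ 2 = 1 ∧ b ^ 2 = 1 ∧ a ∈ Subgroup.center Δ ∧ b ∈ Subgroup.center Δ ∧
      ∀ z ∈ σ.ker, (∃ m : ℕ, z ^ 2 ^ m = 1) → ∃ i j : ℕ, z = a ^ i * b ^ j := by
  classical
  obtain ⟨hs, hc, hd⟩ := hσ
  let s : ℕ → Δ := fun i => Function.surjInv hs (xg X i)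
  let t : ℕ → Δ := fun n => Function.surjInv hs (cjE X n)
  have σs : ∀ i, σ (s i) = xg X i := fun i => Function.surjInv_eq hs _
  have σt : ∀ n, σ (t n) = cjE X n := fun n => Function.surjInv_eq hs _
  set x : ℕ → Δ := mkx s t with hx
  have h := chkBoundData_eq
  simp only [chkBoundData, Bool.and_eq_true, List.all_eq_true, List.mem_range, decide_eq_true_eq,
    beq_iff_eq] at h
  obtain ⟨⟨⟨⟨hidx, hlift⟩, hlen⟩, hsimp⟩, hfixed⟩ := h
  obtain ⟨g34, g25, g40, g41, g52, g53, d34, d25, d40, d41, d52, d53⟩ := hsimp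
  have hker1 : ∀ {u v : Δ}, σ u = σ v → u⁻¹ * v ∈ σ.ker := fun e => by
    rw [MonoidHom.mem_ker, map_mul, map_inv, e, inv_mul_cancel]
  have htors : ∀ n i, cdom n i = true → n < 6 →
      σ (t n * s i * (t n)⁻¹) = Pres.ev (xg X) (cimg n i) := fun n i hd hn => by
    rw [map_mul, map_mul, map_inv, σt, σs, (conj_xg X hn hd).2]
  have hc0 : ∀ n i, cdom n i = true → cimg n i = [i, i + 1] → n < 6 → tc0 s t n i ∈ σ.ker :=
    fun n i hd he hn => hker1 (by rw [htors n i hd hn, he, map_mul, σs, σs]; simp)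
  have hc1 : ∀ n i, cdom n (i + 1) = true → cimg n (i + 1) = [i] → n < 6 → tc1 s t n i ∈ σ.ker :=
    fun n i hd he hn => hker1 (by rw [htors n (i + 1) hd hn, he, σs]; simp)
  have a40 := hc0 4 0 d40 g40 (by omega)
  have b40 := hc1 4 0 d41 g41 (by omega)
  have a52 := hc0 5 2 d52 g52 (by omega)
  have b52 := hc1 5 2 d53 g53 (by omega)
  have k1 : ∀ {z : Δ}, z ∈ σ.ker → σ z = 1 := fun hz => hz
  have σhi : ∀ fuel k, 6 ≤ k → k < 36 → 36 ≤ k + fuel → σ (xhi s fuel k) = xg X k := by
    intro fuel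
    induction fuel with
    | zero => intro k _ h1 h2; omega
    | succ fuel ih =>
      intro k h6 hk hf
      obtain ⟨⟨⟨hh, hg⟩, hrel⟩, hw⟩ := hlift (k - 6) (by omega)
      rw [show k - 6 + 6 = k by omega] at hh hg hrel hw
      have e : σ (Pres.ev (fun q => xhi s fuel q) (liftRow k).2.2) = Pres.ev (xg X) (liftRow k).2.2 := by
        rw [Pres.ev, map_list_prod, List.map_map, Pres.ev]
        exact congrArg List.prod (List.map_congr_left fun q hq => ih q (by have := hw q hq; omega)
          (hw q hq).2 (by have := hw q hq; omega))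
      have hs' := (holdsU X).swap _ hh _ hg
      rw [hrel, Pres.ev_cons, mul_one] at hs'
      rw [xhi, map_mul, map_mul, map_inv, map_mul, map_mul, map_inv, σs, σs, e, hs']
      group
  have σx : ∀ k, k < 36 → σ (x k) = xg X k := by
    intro k hk
    by_cases h6 : 6 ≤ k
    · rw [hx, mkx_hi s t h6]; exact σhi 36 k h6 hk (by omega)
    have h10 := σhi 36 10 (by omega) (by omega) (by omega)
    have hlong : ∀ n i, cdom n i = true → cimg n i = [10] → n < 6 →
        σ ((t n)⁻¹ * xhi s 36 10 * t n) = xg X i := fun n i hd he hn => by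
      have e := (conj_xg X hn hd).2
      rw [he, Pres.ev_cons, Pres.ev_nil, mul_one] at e
      rw [map_mul, map_mul, map_inv, σt, h10, ← e]; group
    have hk' : k = 0 ∨ k = 1 ∨ k = 2 ∨ k = 3 ∨ k = 4 ∨ k = 5 := by omega
    rcases hk' with rfl | rfl | rfl | rfl | rfl | rfl <;>
      simp only [hx, mkx, Nat.reduceLT, Nat.reduceEqDiff, if_true, if_false]
    · rw [map_mul, map_mul, k1 a40, k1 b40, σs, mul_one, mul_one]
    · rw [map_mul, k1 a40, σs, mul_one]
    · rw [map_mul, map_mul, k1 a52, k1 b52, σs, mul_one, mul_one]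
    · rw [map_mul, k1 a52, σs, mul_one]
    · exact hlong 3 4 d34 g34 (by omega)
    · exact hlong 2 5 d25 g25 (by omega)
  -- the defects
  have σev : ∀ w : List ℕ, (∀ q ∈ w, q < 36) → σ (Pres.ev x w) = Pres.ev (xg X) w := fun w hw => by
    rw [Pres.ev, map_list_prod, List.map_map, Pres.ev]
    exact congrArg List.prod (List.map_congr_left fun q hq => σx q (hw q hq))
  let dfct : ℕ × ℕ → Δ := fun p =>
    (if p.2 = p.1 then Pres.ev x (PU.rel p.1 p.2) else x p.2 * x p.1 * Pres.ev x (PU.rel p.1 p.2))⁻¹ *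
      (x p.1 * x p.2)
  have hdfct : ∀ h < 36, ∀ g ≤ h, dfct (h, g) ∈ σ.ker := by
    intro h hh g hg
    refine hker1 ?_
    have hw : ∀ q ∈ PU.rel h g, q < 36 := fun q hq => (aboveU h hh g hg q hq).2
    split_ifs with e
    · have := (holdsU X).sq g (show g < 36 by omega)
      obtain rfl : g = h := e
      rw [mul_one] at this
      rw [σev _ hw, map_mul, σx g hh, this]
    · have := (holdsU X).swap h hh g (lt_of_le_of_ne hg e)
      rw [mul_one] at this
      rw [map_mul, map_mul, map_mul, σev _ hw, σx g (by omega), σx h hh, this]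
  let cfct : ℕ × ℕ → Δ := fun p => (Pres.ev x (cimg p.1 p.2))⁻¹ * (t p.1 * x p.2 * (t p.1)⁻¹)
  let cD : ℕ → Δ := fun k =>
    if k < 666 then dfct (pairList.getD k (0, 0))
    else if cdom ((k - 666) / 36) ((k - 666) % 36) ∧ (k - 666) / 36 < 6 then
      cfct ((k - 666) / 36, (k - 666) % 36)
    else 1
  have hcfct : ∀ n < 6, ∀ i, cdom n i = true → cfct (n, i) ∈ σ.ker := by
    intro n hn i hd
    refine hker1 ?_
    have hi : i < 36 := by simp only [cdom, Bool.and_eq_true, decide_eq_true_eq] at hd; exact hd.1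
    rw [σev _ (conj_xg X hn hd).1, map_mul, map_mul, map_inv, σt, σx i hi, (conj_xg X hn hd).2]
  have hpair : ∀ h < 36, ∀ g ≤ h, cD (PU.idx h g) = dfct (h, g) := by
    intro h hh g hg
    obtain ⟨e1, e2⟩ := hidx h hh g (by omega)
    show (if _ then _ else _) = _
    rw [if_pos e2, List.getD_eq_getElem _ _ (by rw [hlen]; exact e2)]
    rw [List.getD_eq_getElem _ _ (by rw [hlen]; exact e2)] at e1
    rw [e1]
  have hcixv : ∀ n < 6, ∀ i, cdom n i = true → cD (cix n i) = cfct (n, i) := by
    intro n hn i hd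
    have hi : i < 36 := by simp only [cdom, Bool.and_eq_true, decide_eq_true_eq] at hd; exact hd.1
    have e1 : (cix n i - 666) / 36 = n := by simp only [cix]; omega
    have e2 : (cix n i - 666) % 36 = i := by simp only [cix]; omega
    show (if _ then _ else _) = _
    rw [if_neg (by simp [cix]; omega), e1, e2, if_pos ⟨hd, hn⟩]
  have hcen : ∀ k, cD k ∈ Subgroup.center Δ := by
    intro k
    show (if _ then _ else _) ∈ _
    split_ifs with h1 h2
    · refine hc ?_
      have hm : pairList.getD k (0, 0) ∈ pairList := by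
        rw [List.getD_eq_getElem _ _ (by rw [hlen]; exact h1)]; exact List.getElem_mem _
      simp only [pairList, List.mem_flatMap, List.mem_map, List.mem_range] at hm
      obtain ⟨h, hh, g, hg, e⟩ := hm
      rw [pairList, ← e]
      exact hdfct h hh g (by omega)
    · exact hc (hcfct _ h2.2 _ h2.1)
    · exact one_mem _
  have H : PU.Holds x cD := by
    refine ⟨fun g hg => ?_, fun h hh g hg => ?_, hcen⟩
    · rw [hpair g hg g le_rfl]
      show _ = _ * ((if g = g then _ else _)⁻¹ * (x g * x g))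
      rw [if_pos rfl, mul_inv_cancel_left]
    · rw [hpair h hh g hg.le]
      show _ = _ * ((if g = h then _ else _)⁻¹ * (x h * x g))
      rw [if_neg (by omega), mul_inv_cancel_left]
  have ht : ∀ n < 6, ∀ i, cdom n i = true →
      t n * x i * (t n)⁻¹ = Pres.ev x (cimg n i) * cD (cix n i) := fun n hn i hd => by
    rw [hcixv n hn i hd]; exact (mul_inv_cancel_left _ _).symm
  -- in the centre
  letI : CommGroup ↥(Subgroup.center Δ) :=
    { (inferInstance : Group ↥(Subgroup.center Δ)) with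
      mul_comm := fun a b => Subtype.ext (Subgroup.mem_center_iff.1 b.2 a) }
  let cA : ℕ → ↥(Subgroup.center Δ) := fun k => ⟨cD k, hcen k⟩
  have hval : ∀ L : List ℕ, (((L.map cA).prod : ↥(Subgroup.center Δ)) : Δ) = Pres.ev cD L := fun L => by
    induction L with
    | nil => simp
    | cons a L ih => rw [List.map_cons, List.prod_cons, Subgroup.coe_mul, ih, Pres.ev_cons]
  have heq : ∀ {e : Eqn} {L R : List ℕ}, eqnOf e = some (L, R) →
      (L.map cA).prod = (R.map cA).prod := fun he =>
    Subtype.ext (by rw [hval, hval]; exact eqn_sound aboveU H ht he)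
  have hfix : ∀ k ∈ fixedList, cA k = 1 := by
    intro k hk
    refine Subtype.ext ?_
    show cD k = 1
    rw [hfixed, List.mem_append, List.mem_map] at hk
    rcases hk with ⟨i, hi, rfl⟩ | hk
    · rw [List.mem_range] at hi
      obtain ⟨⟨⟨hh, hg⟩, hrel⟩, hw⟩ := hlift i hi
      rw [hpair _ hh _ hg.le]
      show (if (liftRow (i + 6)).2.1 = (liftRow (i + 6)).1 then _ else _)⁻¹ * _ = 1
      rw [if_neg hg.ne, inv_mul_eq_one, hrel, Pres.ev_cons, mkx_comm s t (by omega) (by omega)]
      -- commutators do not see central factors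
      have key : ∀ q < 36, ∃ z ∈ Subgroup.center Δ, x q = s q * z := fun q hq =>
        ⟨(s q)⁻¹ * x q, hc (hker1 (by rw [σs, σx q hq])), (mul_inv_cancel_left _ _).symm⟩
      obtain ⟨z, hz, ez⟩ := key (liftRow (i + 6)).2.1 (by omega)
      obtain ⟨z', hz', ez'⟩ := key (liftRow (i + 6)).1 hh
      rw [ez, ez']
      have cz := Subgroup.mem_center_iff.1 hz
      have cz' := Subgroup.mem_center_iff.1 hz'
      generalize s (liftRow (i + 6)).2.1 = u, s (liftRow (i + 6)).1 = v
      calc u * z * (v * z') * ((u * v)⁻¹ * (v * u))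
          = u * (z * v) * z' * ((u * v)⁻¹ * (v * u)) := by group
        _ = u * v * (z * z') * ((u * v)⁻¹ * (v * u)) := by rw [← cz v]; group
        _ = (u * v) * ((u * v)⁻¹ * (v * u)) * (z * z') := by
            rw [mul_assoc, ← Subgroup.mem_center_iff.1 (mul_mem hz hz') ((u * v)⁻¹ * (v * u)),
              ← mul_assoc]
        _ = v * u * (z' * z) := by rw [mul_inv_cancel_left, cz z']
        _ = v * (u * z') * z := by group
        _ = v * z' * (u * z) := by rw [cz' u]; group
    · simp only [List.mem_cons, List.not_mem_nil, or_false] at hk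
      have hlong : ∀ n i, cdom n i = true → cimg n i = [10] → n < 6 →
          x i = (t n)⁻¹ * xhi s 36 10 * t n → cD (cix n i) = 1 := fun n i hd he hn e => by
        rw [hcixv n hn i hd]
        show (Pres.ev x (cimg n i))⁻¹ * (t n * x i * (t n)⁻¹) = 1
        rw [he, Pres.ev_cons, Pres.ev_nil, mul_one, inv_mul_eq_one, hx, mkx_hi s t (show 6 ≤ 10 by omega),
          ← hx, e]
        group
      have hshort : ∀ n i, tc0 s t n i ∈ σ.ker → tc1 s t n i ∈ σ.ker →
          x i = s i * (tc1 s t n i * tc0 s t n i) → x (i + 1) = s (i + 1) * tc0 s t n i →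
          (t n * x i * (t n)⁻¹ = x i * x (i + 1) ∧ t n * x (i + 1) * (t n)⁻¹ = x i) := by
        intro n i ha hb e0 e1
        have ca := Subgroup.mem_center_iff.1 (hc ha)
        have cb := Subgroup.mem_center_iff.1 (hc hb)
        have cba := Subgroup.mem_center_iff.1 (mul_mem (hc hb) (hc ha))
        have f0 : t n * s i * (t n)⁻¹ = s i * s (i + 1) * tc0 s t n i :=
          (mul_inv_cancel_left _ _).symm
        have f1 : t n * s (i + 1) * (t n)⁻¹ = s i * tc1 s t n i :=
          (mul_inv_cancel_left _ _).symm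
        rw [e0, e1]
        generalize tc0 s t n i = a, tc1 s t n i = b at ca cb cba f0 f1
        constructor
        · calc t n * (s i * (b * a)) * (t n)⁻¹
              = t n * s i * ((b * a) * (t n)⁻¹) := by group
            _ = t n * s i * (t n)⁻¹ * (b * a) := by rw [← cba]; group
            _ = s i * (s (i + 1) * (a * b)) * a := by rw [f0]; group
            _ = s i * (b * a) * (s (i + 1) * a) := by
              rw [cb a, cba (s (i + 1))]; group
        · calc t n * (s (i + 1) * a) * (t n)⁻¹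
              = t n * s (i + 1) * (a * (t n)⁻¹) := by group
            _ = t n * s (i + 1) * (t n)⁻¹ * a := by rw [← ca]; group
            _ = s i * (b * a) := by rw [f1]; group
      have h0 := hshort 4 0 a40 b40 rfl rfl
      have h2 := hshort 5 2 a52 b52 rfl rfl
      rcases hk with rfl | rfl | rfl | rfl | rfl | rfl
      · exact hlong 3 4 d34 g34 (by omega) rfl
      · exact hlong 2 5 d25 g25 (by omega) rfl
      all_goals rw [hcixv _ (by omega) _ (by assumption)]
      all_goals show (Pres.ev x (cimg _ _))⁻¹ * _ = 1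
      · rw [g40, Pres.ev_cons, Pres.ev_cons, Pres.ev_nil, mul_one, h0.1, inv_mul_cancel]
      · rw [g41, Pres.ev_cons, Pres.ev_nil, mul_one, h0.2, inv_mul_cancel]
      · rw [g52, Pres.ev_cons, Pres.ev_cons, Pres.ev_nil, mul_one, h2.1, inv_mul_cancel]
      · rw [g53, Pres.ev_cons, Pres.ev_nil, mul_one, h2.2, inv_mul_cancel]
  obtain ⟨a, b, ha, hb, hall⟩ := defects_in_four (c := cA) heq hfix
  refine ⟨a, b, by simpa using congrArg Subtype.val ha, by simpa using congrArg Subtype.val hb,
    a.2, b.2, fun z hz ⟨m, hm⟩ => ?_⟩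
  -- the kernel lies in the group of the defects
  set Z : Subgroup Δ := Subgroup.closure (cD '' {k | k < 666}) with hZ
  have hZc : Z ≤ Subgroup.center Δ := (Subgroup.closure_le _).2 fun _ ⟨k, _, e⟩ => e ▸ hcen k
  have hZk : Z ≤ σ.ker := (Subgroup.closure_le _).2 fun _ ⟨k, hk, e⟩ => by
    subst e
    show (if _ then _ else _) ∈ σ.ker
    rw [if_pos (show k < 666 from hk)]
    have hm' : pairList.getD k (0, 0) ∈ pairList := by
      rw [List.getD_eq_getElem _ _ (by rw [hlen]; exact hk)]; exact List.getElem_mem _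
    simp only [pairList, List.mem_flatMap, List.mem_map, List.mem_range] at hm'
    obtain ⟨h, hh, g, hg, e⟩ := hm'
    rw [pairList, ← e]
    exact hdfct h hh g (by omega)
  have hkb := Pres.ker_le_defects aboveU H Z hZc
    (fun h hh g hg => Subgroup.subset_closure ⟨_, (hidx h hh g (by omega)).2, rfl⟩) σ hZk
    (fun v hv hlt h1 => word_inj X hv hlt (by
      rw [← h1]; exact congrArg List.prod (List.map_congr_left fun q hq => (σx q (hlt q hq)).symm)))
  have hidx2 : ¬ 2 ∣ (UG X).index := by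
    haveI : Finite ↥X.E.fix := Finite.of_surjective σ hs
    intro hdvd
    have h := (UG X).card_mul_index
    have h2 := card_twistE6 X.f X.hf X.hK Nat.prime_two.isPrimePow
    rw [← h, card_UG] at h2
    obtain ⟨w, hw⟩ := hdvd
    rw [hw] at h2
    norm_num at h2
    omega
  have hzd := CfsgLib.Schur.mem_commutator_preimage hs Nat.prime_two hz (hc hz) (hd hz) hm (UG X) hidx2
  have hle : ⁅(UG X).comap σ, (UG X).comap σ⁆ ≤ Subgroup.closure (x '' {j | j < 36}) := by
    rw [Subgroup.commutator_le]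
    intro p hp r hr
    have hdec : ∀ p ∈ (UG X).comap σ,
        ∃ u ∈ Subgroup.closure (x '' {j | j < 36}), ∃ w ∈ Subgroup.center Δ, p = u * w := by
      intro p hp
      obtain ⟨v, -, hv, e⟩ := exists_word X (Subgroup.mem_comap.1 hp)
      refine ⟨Pres.ev x v, Subgroup.list_prod_mem _ fun q hq => ?_, (Pres.ev x v)⁻¹ * p,
        hc (hker1 (by rw [σev v hv, e])), (mul_inv_cancel_left _ _).symm⟩
      obtain ⟨i, hi, rfl⟩ := List.mem_map.1 hq
      exact Subgroup.subset_closure ⟨i, hv i hi, rfl⟩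
    obtain ⟨u, hu, w, hw, rfl⟩ := hdec p hp
    obtain ⟨u', hu', w', hw', rfl⟩ := hdec r hr
    have cw := Subgroup.mem_center_iff.1 hw
    have cw' := Subgroup.mem_center_iff.1 hw'
    have : ⁅u * w, u' * w'⁆ = ⁅u, u'⁆ := by
      simp only [commutatorElement_def, mul_inv_rev]
      calc u * w * (u' * w') * (w⁻¹ * u⁻¹) * (w'⁻¹ * u'⁻¹)
          = u * (w * (u' * w')) * w⁻¹ * u⁻¹ * w'⁻¹ * u'⁻¹ := by group
        _ = u * u' * (w' * u⁻¹) * w'⁻¹ * u'⁻¹ := by rw [← cw (u' * w')]; group
        _ = _ := by rw [← cw' u⁻¹]; group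
    rw [this, commutatorElement_def]
    exact mul_mem (mul_mem (mul_mem hu hu') (inv_mem hu)) (inv_mem hu')
  have hzZ : z ∈ Z := hkb ⟨hle hzd, hz⟩
  have ha' : (a : Δ) ^ 2 = 1 := by
    have := congrArg Subtype.val ha
    simpa using this
  have hb' : (b : Δ) ^ 2 = 1 := by
    have := congrArg Subtype.val hb
    simpa using this
  have hT : Z ≤ Subgroup.closure {(a : Δ), (b : Δ)} := by
    rw [hZ, Subgroup.closure_le]
    rintro _ ⟨k, hk, rfl⟩
    obtain ⟨i, j, e⟩ := hall k hk
    have e' : cD k = (a : Δ) ^ i * (b : Δ) ^ j := (congrArg Subtype.val e).trans (by simp)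
    rw [SetLike.mem_coe, e']
    have h1 : (a : Δ) ∈ Subgroup.closure {(a : Δ), (b : Δ)} :=
      Subgroup.subset_closure (Set.mem_insert _ _)
    have h2 : (b : Δ) ∈ Subgroup.closure {(a : Δ), (b : Δ)} :=
      Subgroup.subset_closure (Set.mem_insert_of_mem _ (Set.mem_singleton _))
    exact Subgroup.mul_mem _ (Subgroup.pow_mem _ h1 i) (Subgroup.pow_mem _ h2 j)
  let S : Subgroup Δ :=
    { carrier := {y | ∃ i j : ℕ, y = (a : Δ) ^ i * (b : Δ) ^ j}
      one_mem' := ⟨0, 0, by simp⟩
      mul_mem' := by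
        rintro _ _ ⟨i, j, rfl⟩ ⟨i', j', rfl⟩
        refine ⟨i + i', j + j', ?_⟩
        rw [pow_add, pow_add]
        have hc' : (b : Δ) ^ j * (a : Δ) ^ i' = (a : Δ) ^ i' * (b : Δ) ^ j :=
          Subgroup.mem_center_iff.1 (pow_mem a.2 i') _
        calc (a : Δ) ^ i * (b : Δ) ^ j * ((a : Δ) ^ i' * (b : Δ) ^ j')
            = (a : Δ) ^ i * ((b : Δ) ^ j * (a : Δ) ^ i') * (b : Δ) ^ j' := by group
          _ = _ := by rw [hc']; group
      inv_mem' := by
        rintro _ ⟨i, j, rfl⟩
        refine ⟨i, j, ?_⟩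
        rw [mul_inv_rev, ← inv_pow, ← inv_pow, inv_eq_of_mul_eq_one_right ((sq (a : Δ)).symm.trans ha'),
          inv_eq_of_mul_eq_one_right ((sq (b : Δ)).symm.trans hb')]
        exact Subgroup.mem_center_iff.1 (pow_mem a.2 i) _ }
  have hS : Subgroup.closure {(a : Δ), (b : Δ)} ≤ S := by
    rw [Subgroup.closure_le]
    rintro y (rfl | rfl)
    · exact ⟨1, 0, by simp⟩
    · exact ⟨0, 1, by simp⟩
  exact hS (hT hzZ)

end CfsgLib.E6Two
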