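import Cfsg.Agent.Lib.Chev.E6Two.Equations

/-! The propagation through the equations (generated data). -/

set_option autoImplicit false

namespace CfsgLib.E6Two

/-- The defects fixed by the choice of the lifts. -/
def fixedList : List ℕ :=
  [3, 4, 12, 13, 19, 36, 37, 39, 41, 50, 42, 43, 105, 106, 96, 111, 112, 101, 73, 116, 117, 178, 150, 151, 183, 187, 206, 248, 323, 347, 778, 743, 810, 811, 848, 849]

/-- The seeds. -/
def seedList : List ℕ :=
  [265, 261, 668, 669, 670, 671, 672, 673, 702, 703, 706, 707, 708, 709, 710, 711, 715, 738, 739, 740, 741, 746, 747, 748, 774, 775, 776, 777, 784, 812, 813, 814, 815, 846, 847, 850, 851]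

/-- The exponents of the defects on the seeds. -/
def valRows : List (List (List (ℕ × ℤ))) :=
  [[[], [], [], [], [], [], [(1, -1)], [(0, -1), (1, -1)], [], [], [], [], [], [], [], [], [], [], [], [], [], [], [], [], [], [(1, 1)], [], [], [], [], [], []],
   [[(0, -1), (1, 1)], [], [], [], [], [], [], [], [], [], [], [], [], [(1, -1)], [(0, -1), (1, -1)], [], [], [], [], [(1, 1)], [(0, -1), (1, -1)], [], [], [], [], [], [], [], [], [(1, -1)], [(0, 1), (1, -1)], []],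
   [[], [], [], [], [], [(1, 1)], [], [(1, -1)], [], [], [], [], [], [], [], [], [], [(0, 1), (1, 1)], [], [(0, 1), (1, -1)], [], [], [], [], [], [], [], [(1, -1)], [(0, 1), (1, -1)], [], [], []],
   [[], [], [], [], [], [], [], [], [], [], [], [], [], [], [], [], [], [], [], [], [], [], [], [], [(1, -1)], [(0, -1), (1, -1)], [], [], [], [], [(1, 1)], [(0, -1), (1, -1)]],
   [[], [], [], [(1, 1)], [(0, -1), (1, -1)], [], [], [], [], [], [], [], [], [(1, -1)], [], [], [], [], [(1, -1)], [], [], [], [], [], [], [], [], [], [], [], [(0, 1), (1, 1)], []],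
   [[], [], [], [(0, 1), (1, 1)], [], [], [], [(1, 1)], [(0, 1)], [], [], [], [], [], [(1, 1)], [], [], [], [], [], [(1, 1)], [], [], [], [(1, -1)], [], [], [], [(0, -2), (1, -1)], [], [], []],
   [[], [(0, 1), (1, 1)], [], [], [], [], [], [(0, 1), (1, 1)], [], [], [], [(0, -1)], [], [], [], [(0, -1)], [], [], [(1, -1)], [(0, 1), (1, -1)], [], [], [], [], [], [], [], [], [], [(1, 1)], [(0, -1)], []],
   [[], [], [], [], [], [], [], [], [], [], [], [(1, -1)], [], [], [], [], [], [], [], [], [], [], [], [], [], [], [], [], [], [], [], []],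
   [[], [(0, 1), (1, -1)], [], [], [], [(1, 1)], [(0, 1)], [], [(0, 2), (1, 1)], [(0, 1)], [], [], [], [], [], [], [], [], [], [], [(1, -1)], [(0, 1), (1, -1)], [], [], [], [], [(1, -1)], [(0, -1)], [], [], [], []],
   [[], [], [], [], [], [], [], [], [], [], [], [], [], [], [], [], [], [], [], [], [], [], [], [], [], [], [(0, -2), (1, -1)], [(0, -1)], [], [], [], []],
   [[], [], [], [], [], [], [], [], [], [], [], [], [], [], [], [], [], [], [], [], [], [], [], [], [], [], [], [], [], [], [], []],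
   [[], [(1, -1)], [(0, -1)], [], [], [(0, -2), (1, -1)], [(0, 1)], [], [], [], [], [], [], [], [], [], [], [], [], [], [], [], [], [], [], [], [], [], [], [], [], []],
   [[], [], [(0, 2), (1, 1)], [(0, 1)], [], [], [], [], [], [], [], [], [], [], [], [], [], [], [], [], [], [], [], [(0, -2), (1, -1)], [], [], [], [], [], [], [], []],
   [[], [], [], [], [], [], [], [], [], [], [], [], [], [], [], [], [], [], [], [], [(0, -1)], [], [], [], [], [], [], [], [], [], [], []],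
   [[], [], [], [], [], [], [], [], [], [], [], [], [], [], [], [], [], [], [], [(0, -2), (1, -1)], [(0, 1)], [], [], [], [], [], [], [], [], [], [], []],
   [[], [], [], [], [], [], [], [], [], [], [], [], [], [], [], [], [], [], [], [], [], [], [], [], [], [], [], [], [], [], [], []],
   [[], [], [], [], [], [], [], [], [], [], [], [], [], [], [], [], [], [], [], [], [], [], [], [], [], [], [], [], [], [], [], []],
   [[], [], [], [], [], [], [], [], [], [], [], [], [], [], [], [], [], [], [], [], [], [], [], [], [], [], [], [], [], [], [], []],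
   [[], [], [], [], [], [], [], [], [], [], [], [], [], [], [], [], [], [], [], [], [], [], [], [], [], [], [], [], [], [], [], []],
   [[], [], [], [], [], [], [], [], [], [], [], [], [], [], [], [], [], [], [], [], [], [], [], [], [], [], [], [], [], [], [], []],
   [[], [], [], [], [], [], [], [], [], [], [], [], [], [], [], [], [], [], [], [], [], [], [], [], [], [], [], [], [(2, 1)], [(3, 1)], [(4, 1)], [(5, 1)]],
   [[(6, 1)], [(7, 1)], [(1, -1)], [(0, 1), (1, -1)], [], [(1, -1)], [(0, 1), (1, -1)], [], [(1, -1)], [(0, 1), (1, -1)], [], [(1, 1)], [(1, 1)], [(0, -1), (1, 1)], [], [], [(1, 1)], [], [], [], [(1, 1)], [], [], [], [], [], [], [], [], [], [(8, 1)], [(9, 1)]],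
   [[], [], [(10, 1)], [(11, 1)], [(12, 1)], [(13, 1)], [(14, 1)], [(15, 1)], [], [], [], [(16, 1)], [], [], [], [], [], [], [], [], [], [], [], [], [(1, -1)], [], [], [(1, -1)], [], [], [(0, 2), (1, 1)], []],
   [[], [], [(17, 1)], [(18, 1)], [(19, 1)], [(20, 1)], [], [], [], [], [(21, 1)], [(22, 1)], [(23, 1)], [], [], [], [], [], [], [], [], [], [], [], [], [], [], [], [], [], [], []],
   [[], [], [], [], [], [], [(24, 1)], [(25, 1)], [(26, 1)], [(27, 1)], [], [], [], [], [], [], [(28, 1)], [], [], [], [], [], [], [], [], [], [], [], [], [], [], []],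
   [[], [], [], [], [], [], [], [], [], [], [], [], [(29, 1)], [(30, 1)], [(31, 1)], [(32, 1)], [(0, -1), (1, -2)], [(1, -1)], [], [], [], [(0, -1)], [(1, 1)], [], [], [], [(0, -1), (1, -1)], [(0, -1)], [(0, 1)], [(1, -1)], [], [(0, -1), (1, -1)]],
   [[(0, -1)], [], [], [(0, -1), (1, -1)], [(0, -1)], [], [(0, 1), (1, 1)], [(1, 1)], [], [(0, -1)], [(0, 3), (1, 1)], [], [], [], [(33, 1)], [(34, 1)], [], [], [(35, 1)], [(36, 1)], [(0, -1), (1, -2)], [(1, -1)], [], [], [], [(0, -1)], [(1, 1)], [], [], [], [(0, -1), (1, -1)], [(0, -1)]],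
   [[(0, 1)], [(1, -1)], [], [(0, -1), (1, -1)], [(0, -1)], [], [], [(0, -1), (1, -1)], [(0, -1)], [], [(0, 1), (1, 1)], [(1, 1)], [], [(0, -1)], [(0, 3), (1, 1)], [], [], []]]

/-- Propagation steps. -/
def stepList0 : List (Eqn × ℕ) :=
  [(.assoc 5 2 0, 26),
   (.assoc 5 2 1, 33),
   (.assoc 5 4 0, 55),
   (.assoc 5 4 1, 56),
   (.assoc 6 2 1, 34),
   (.assoc 8 3 2, 93),
   (.assoc 8 4 0, 70),
   (.assoc 8 4 1, 82),
   (.assoc 8 4 2, 99),
   (.assoc 8 6 2, 138),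
   (.assoc 8 7 2, 155),
   (.assoc 8 8 3, 104),
   (.assoc 9 3 2, 94),
   (.assoc 9 4 3, 100),
   (.assoc 9 7 3, 139),
   (.assoc 10 8 0, 76),
   (.assoc 10 8 1, 88),
   (.assoc 11 3 2, 169),
   (.assoc 11 6 2, 142),
   (.assoc 11 6 3, 159),
   (.assoc 11 6 4, 311),
   (.assoc 11 7 0, 300),
   (.assoc 11 7 1, 301),
   (.assoc 11 7 6, 306),
   (.assoc 11 8 1, 89),
   (.assoc 11 8 2, 144),
   (.assoc 11 8 6, 147),
   (.assoc 11 9 6, 164),
   (.assoc 11 11 7, 324),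
   (.assoc 12 3 2, 156),
   (.assoc 12 7 2, 160),
   (.assoc 12 7 3, 143),
   (.assoc 12 7 4, 312),
   (.assoc 12 7 6, 307),
   (.assoc 12 8 2, 161),
   (.assoc 12 8 7, 165),
   (.assoc 12 9 3, 145),
   (.assoc 12 9 7, 148),
   (.assoc 13 5 2, 212),
   (.assoc 13 5 3, 213),
   (.assoc 13 6 5, 216),
   (.assoc 13 7 5, 217),
   (.assoc 13 8 6, 149),
   (.assoc 13 8 7, 166),
   (.assoc 13 10 4, 280),
   (.assoc 13 10 8, 284),
   (.assoc 13 10 9, 285),
   (.assoc 13 11 7, 313),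
   (.assoc 13 11 10, 287),
   (.assoc 13 12 10, 288),
   (.assoc 14 4 0, 175),
   (.assoc 14 4 1, 194),
   (.assoc 14 5 0, 176),
   (.assoc 14 5 1, 195),
   (.assoc 14 5 3, 215),
   (.assoc 14 5 4, 115),
   (.assoc 14 6 2, 233),
   (.assoc 14 6 5, 236),
   (.assoc 14 7 2, 255),
   (.assoc 14 7 5, 258),
   (.assoc 14 8 5, 290),
   (.assoc 14 10 0, 181),
   (.assoc 14 10 1, 200),
   (.assoc 14 10 2, 224),
   (.assoc 14 10 9, 286),
   (.assoc 14 11 4, 329),
   (.assoc 14 11 8, 333),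
   (.assoc 14 11 10, 335),
   (.assoc 14 12 4, 355),
   (.assoc 14 12 8, 359),
   (.assoc 14 12 10, 361),
   (.assoc 14 13 3, 223),
   (.assoc 14 13 6, 244),
   (.assoc 14 13 7, 266),
   (.assoc 14 13 9, 289),
   (.assoc 14 13 11, 338),
   (.assoc 14 13 12, 364),
   (.assoc 15 5 4, 130),
   (.assoc 15 7 2, 251),
   (.assoc 15 7 3, 234),
   (.assoc 15 9 5, 291),
   (.assoc 15 10 3, 225),
   (.assoc 15 12 8, 348),
   (.assoc 15 12 9, 334),
   (.assoc 16 2 1, 302),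
   (.assoc 16 3 1, 303),
   (.assoc 16 4 1, 304),
   (.assoc 16 5 2, 563),
   (.assoc 16 5 3, 564),
   (.assoc 16 6 4, 316),
   (.assoc 16 8 1, 308),
   (.assoc 16 9 1, 309),
   (.assoc 16 10 4, 599),
   (.assoc 16 10 8, 603),
   (.assoc 16 10 9, 604),
   (.assoc 16 13 1, 317),
   (.assoc 16 14 2, 408),
   (.assoc 16 14 4, 410),
   (.assoc 16 14 8, 414),
   (.assoc 16 14 13, 419)]

/-- Propagation steps. -/
def stepList1 : List (Eqn × ℕ) :=
  [(.assoc 16 15 3, 438),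
   (.assoc 16 15 4, 439),
   (.assoc 16 15 9, 444),
   (.assoc 16 15 13, 448),
   (.assoc 17 4 3, 162),
   (.assoc 17 5 3, 256),
   (.assoc 17 10 9, 360),
   (.assoc 17 14 2, 437),
   (.assoc 17 14 8, 443),
   (.assoc 17 15 3, 409),
   (.assoc 17 15 9, 415),
   (.assoc 18 3 2, 274),
   (.assoc 18 6 2, 237),
   (.assoc 18 6 3, 259),
   (.assoc 18 7 0, 378),
   (.assoc 18 7 1, 379),
   (.assoc 18 7 5, 383),
   (.assoc 18 7 6, 384),
   (.assoc 18 9 8, 376),
   (.assoc 18 10 6, 396),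
   (.assoc 18 11 5, 483),
   (.assoc 18 11 8, 336),
   (.assoc 18 11 9, 362),
   (.assoc 18 12 0, 465),
   (.assoc 18 12 1, 466),
   (.assoc 18 12 4, 469),
   (.assoc 18 12 10, 475),
   (.assoc 18 12 11, 476),
   (.assoc 18 13 4, 634),
   (.assoc 18 14 1, 208),
   (.assoc 18 14 2, 245),
   (.assoc 18 14 6, 249),
   (.assoc 18 14 8, 339),
   (.assoc 18 14 11, 343),
   (.assoc 18 15 6, 271),
   (.assoc 18 15 11, 369),
   (.assoc 18 16 0, 496),
   (.assoc 18 16 4, 500),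
   (.assoc 18 16 6, 502),
   (.assoc 18 16 11, 507),
   (.assoc 18 17 4, 532),
   (.assoc 18 17 6, 534),
   (.assoc 18 17 11, 539),
   (.assoc 18 18 7, 405),
   (.assoc 18 18 12, 495),
   (.assoc 19 7 2, 260),
   (.assoc 19 7 3, 238),
   (.assoc 19 7 6, 385),
   (.assoc 19 10 7, 397),
   (.assoc 19 12 5, 484),
   (.assoc 19 12 8, 363),
   (.assoc 19 12 9, 337),
   (.assoc 19 12 11, 477),
   (.assoc 19 14 2, 267),
   (.assoc 19 14 3, 229),
   (.assoc 19 14 7, 272),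
   (.assoc 19 14 8, 365),
   (.assoc 19 14 9, 295),
   (.assoc 19 14 12, 370),
   (.assoc 19 15 3, 246),
   (.assoc 19 15 7, 250),
   (.assoc 19 15 9, 340),
   (.assoc 19 15 12, 344),
   (.assoc 19 16 0, 528),
   (.assoc 19 16 7, 535),
   (.assoc 19 16 12, 540),
   (.assoc 19 17 1, 497),
   (.assoc 19 17 7, 503),
   (.assoc 19 17 12, 508),
   (.assoc 20 2 0, 380),
   (.assoc 20 3 0, 381),
   (.assoc 20 8 5, 296),
   (.assoc 20 8 6, 226),
   (.assoc 20 8 7, 227),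
   (.assoc 20 10 7, 398),
   (.assoc 20 13 11, 608),
   (.assoc 20 14 1, 392),
   (.assoc 20 14 7, 273),
   (.assoc 20 15 0, 393),
   (.assoc 20 16 4, 292),
   (.assoc 20 16 5, 581),
   (.assoc 20 16 14, 426),
   (.assoc 20 16 15, 455),
   (.assoc 20 17 4, 293),
   (.assoc 20 18 4, 294),
   (.assoc 20 18 8, 345),
   (.assoc 20 18 9, 371),
   (.assoc 20 18 13, 650),
   (.assoc 20 18 16, 516),
   (.assoc 20 18 17, 548),
   (.assoc 21 9 8, 463),
   (.assoc 21 10 1, 388),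
   (.assoc 21 10 4, 640),
   (.assoc 21 10 6, 399),
   (.assoc 21 10 8, 416),
   (.assoc 21 10 9, 445),
   (.assoc 21 11 10, 506),
   (.assoc 21 12 10, 538),
   (.assoc 21 12 11, 559),
   (.assoc 21 13 4, 643)]

/-- Propagation steps. -/
def stepList2 : List (Eqn × ℕ) :=
  [(.assoc 21 13 10, 297),
   (.assoc 21 13 11, 509),
   (.assoc 21 13 12, 541),
   (.assoc 21 14 4, 644),
   (.assoc 21 14 8, 420),
   (.assoc 21 15 4, 645),
   (.assoc 21 15 9, 450),
   (.assoc 21 16 5, 582),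
   (.assoc 21 16 8, 422),
   (.assoc 21 16 9, 451),
   (.assoc 21 16 11, 512),
   (.assoc 21 16 12, 544),
   (.assoc 21 16 14, 427),
   (.assoc 21 16 15, 456),
   (.assoc 21 17 6, 567),
   (.assoc 21 17 7, 568),
   (.assoc 21 17 13, 574),
   (.assoc 21 17 16, 577),
   (.assoc 21 18 4, 648),
   (.assoc 21 18 11, 514),
   (.assoc 21 18 13, 651),
   (.assoc 21 18 16, 517),
   (.assoc 21 19 4, 649),
   (.assoc 21 19 12, 547),
   (.assoc 21 19 16, 549),
   (.assoc 21 20 1, 400),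
   (.assoc 21 20 4, 653),
   (.assoc 21 21 17, 594),
   (.assoc 22 10 3, 268),
   (.assoc 22 11 1, 529),
   (.assoc 22 13 10, 298),
   (.assoc 22 14 8, 449),
   (.assoc 22 15 4, 366),
   (.assoc 22 15 8, 458),
   (.assoc 22 15 9, 421),
   (.assoc 22 17 5, 583),
   (.assoc 22 17 8, 452),
   (.assoc 22 17 9, 423),
   (.assoc 22 17 12, 513),
   (.assoc 22 17 14, 457),
   (.assoc 22 17 15, 428),
   (.assoc 22 17 16, 578),
   (.assoc 22 18 11, 546),
   (.assoc 22 18 13, 652),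
   (.assoc 22 19 12, 515),
   (.assoc 22 19 17, 518),
   (.assoc 22 20 4, 374),
   (.assoc 22 21 4, 372),
   (.assoc 22 21 12, 550),
   (.assoc 23 8 0, 473),
   (.assoc 23 8 6, 569),
   (.assoc 23 9 0, 474),
   (.assoc 23 9 6, 570),
   (.assoc 23 11 5, 488),
   (.assoc 23 14 0, 479),
   (.assoc 23 14 6, 575),
   (.assoc 23 15 0, 480),
   (.assoc 23 15 6, 576),
   (.assoc 23 16 5, 584),
   (.assoc 23 16 10, 618),
   (.assoc 23 16 14, 429),
   (.assoc 23 18 16, 519),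
   (.assoc 23 18 17, 551),
   (.assoc 24 18 2, 321),
   (.assoc 24 18 3, 322),
   (.assoc 24 18 7, 402),
   (.assoc 24 18 8, 349),
   (.assoc 24 18 9, 375),
   (.assoc 24 18 12, 489),
   (.assoc 24 18 16, 520),
   (.assoc 24 18 17, 552),
   (.assoc 24 20 18, 579),
   (.assoc 24 20 19, 580),
   (.assoc 24 21 4, 654),
   (.assoc 24 21 8, 430),
   (.assoc 24 21 9, 459),
   (.assoc 24 21 10, 486),
   (.assoc 24 21 17, 585),
   (.assoc 24 22 10, 487),
   (.assoc 24 23 2, 597),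
   (.assoc 24 23 3, 598),
   (.assoc 24 23 11, 606),
   (.assoc 24 23 12, 607),
   (.assoc 24 23 16, 611),
   (.assoc 24 23 17, 612),
   (.assoc 24 23 18, 613),
   (.assoc 24 23 19, 614),
   (.assoc 24 23 21, 616),
   (.assoc 24 23 22, 617),
   (.assoc 24 23 23, 629),
   (.assoc 24 24 23, 619),
   (.assoc 25 5 1, 470),
   (.assoc 25 5 2, 411),
   (.assoc 25 5 3, 440),
   (.assoc 25 6 5, 501),
   (.assoc 25 7 5, 533),
   (.assoc 25 11 5, 490),
   (.assoc 25 13 0, 341),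
   (.assoc 25 16 1, 481),
   (.assoc 25 16 10, 620)]

/-- Propagation steps. -/
def stepList3 : List (Eqn × ℕ) :=
  [(.assoc 25 16 14, 431),
   (.assoc 25 16 15, 460),
   (.assoc 25 17 0, 595),
   (.assoc 25 17 2, 623),
   (.assoc 25 17 3, 624),
   (.assoc 25 17 14, 609),
   (.assoc 25 17 15, 610),
   (.assoc 25 18 13, 655),
   (.assoc 25 18 16, 521),
   (.assoc 25 19 16, 553),
   (.assoc 25 19 17, 626),
   (.assoc 25 20 17, 615),
   (.assoc 25 22 4, 656),
   (.assoc 25 22 5, 635),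
   (.assoc 25 22 22, 665),
   (.assoc 25 23 1, 491),
   (.assoc 25 24 5, 403),
   (.assoc 25 24 20, 586),
   (.assoc 26 13 1, 368),
   (.assoc 26 16 0, 625),
   (.assoc 26 16 1, 596),
   (.assoc 26 16 7, 602),
   (.assoc 26 16 14, 432),
   (.assoc 26 16 15, 461),
   (.assoc 26 17 0, 482),
   (.assoc 26 17 6, 545),
   (.assoc 26 17 10, 621),
   (.assoc 26 18 16, 522),
   (.assoc 26 18 17, 554),
   (.assoc 26 19 16, 627),
   (.assoc 26 24 5, 404),
   (.assoc 26 24 20, 587),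
   (.assoc 27 8 0, 389),
   (.assoc 27 8 1, 390),
   (.assoc 27 8 2, 498),
   (.assoc 27 8 4, 526),
   (.assoc 27 8 7, 395),
   (.assoc 27 9 3, 531),
   (.assoc 27 9 4, 558),
   (.assoc 27 9 7, 394),
   (.assoc 27 10 8, 605),
   (.assoc 27 11 5, 492),
   (.assoc 27 13 0, 561),
   (.assoc 27 13 1, 562),
   (.assoc 27 13 5, 566),
   (.assoc 27 13 11, 572),
   (.assoc 27 13 12, 573),
   (.assoc 27 14 8, 510),
   (.assoc 27 15 9, 543),
   (.assoc 27 16 5, 588),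
   (.assoc 27 16 10, 622),
   (.assoc 27 16 14, 433),
   (.assoc 27 16 15, 462),
   (.assoc 27 18 16, 523),
   (.assoc 27 18 17, 555),
   (.assoc 27 21 8, 524),
   (.assoc 27 21 9, 557),
   (.assoc 27 22 8, 525),
   (.assoc 27 22 9, 556),
   (.assoc 27 23 2, 632),
   (.assoc 27 23 3, 633),
   (.assoc 27 23 4, 660),
   (.assoc 27 23 11, 641),
   (.assoc 27 23 12, 642),
   (.assoc 27 23 13, 663),
   (.assoc 27 23 16, 646),
   (.assoc 27 23 17, 647),
   (.assoc 27 24 14, 657),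
   (.assoc 27 24 23, 664),
   (.assoc 28 2 0, 412),
   (.assoc 28 6 4, 417),
   (.assoc 28 7 0, 592),
   (.assoc 28 7 1, 593),
   (.assoc 28 8 0, 504),
   (.assoc 28 10 6, 424),
   (.assoc 28 11 5, 493),
   (.assoc 28 12 6, 601),
   (.assoc 28 12 7, 628),
   (.assoc 28 16 5, 589),
   (.assoc 28 18 13, 658),
   (.assoc 28 19 6, 636),
   (.assoc 28 19 7, 637),
   (.assoc 28 19 8, 638),
   (.assoc 28 19 9, 639),
   (.assoc 28 19 13, 659),
   (.assoc 28 19 16, 662),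
   (.assoc 28 19 17, 661),
   (.assoc 28 23 7, 590),
   (.assoc 29 2 1, 442),
   (.assoc 29 7 4, 447),
   (.assoc 29 9 0, 537),
   (.assoc 29 10 7, 454),
   (.assoc 29 12 5, 494),
   (.assoc 29 18 0, 630),
   (.assoc 29 18 1, 631),
   (.assoc 30 2 0, 471),
   (.assoc 30 2 1, 472),
   (.assoc 30 16 5, 591),
   (.conj 0 3 2, 8),
   (.conj 0 5 2, 17)]

/-- Propagation steps. -/
def stepList4 : List (Eqn × ℕ) :=
  [(.conj 0 5 3, 18),
   (.conj 0 5 4, 676),
   (.conj 0 8 3, 679),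
   (.conj 0 8 4, 40),
   (.conj 0 9 4, 49),
   (.conj 0 9 8, 53),
   (.conj 0 10 8, 63),
   (.conj 0 10 9, 64),
   (.conj 0 11 7, 690),
   (.conj 0 13 4, 95),
   (.conj 0 13 6, 97),
   (.conj 0 13 7, 98),
   (.conj 0 13 11, 102),
   (.conj 0 13 12, 103),
   (.conj 0 14 4, 109),
   (.conj 0 14 5, 110),
   (.conj 0 15 4, 124),
   (.conj 0 15 5, 125),
   (.conj 0 15 14, 134),
   (.conj 0 17 4, 140),
   (.conj 0 20 8, 218),
   (.conj 0 20 9, 219),
   (.conj 0 20 10, 220),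
   (.conj 0 20 18, 228),
   (.conj 0 22 10, 241),
   (.conj 0 23 2, 278),
   (.conj 0 23 3, 279),
   (.conj 0 23 5, 281),
   (.conj 0 25 17, 700),
   (.conj 0 26 5, 330),
   (.conj 0 26 22, 346),
   (.conj 0 30 13, 478),
   (.conj 0 33 10, 701),
   (.conj 1 1 0, 1),
   (.conj 1 4 0, 10),
   (.conj 1 4 1, 11),
   (.conj 1 5 0, 15),
   (.conj 1 5 1, 16),
   (.conj 1 8 0, 713),
   (.conj 1 8 1, 714),
   (.conj 1 8 6, 718),
   (.conj 1 8 7, 719),
   (.conj 1 10 4, 59),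
   (.conj 1 10 5, 60),
   (.conj 1 11 0, 66),
   (.conj 1 11 1, 67),
   (.conj 1 11 8, 74),
   (.conj 1 11 9, 75),
   (.conj 1 12 0, 78),
   (.conj 1 12 1, 79),
   (.conj 1 12 8, 86),
   (.conj 1 12 9, 87),
   (.conj 1 13 12, 157),
   (.conj 1 14 0, 720),
   (.conj 1 14 1, 721),
   (.conj 1 14 4, 118),
   (.conj 1 14 6, 723),
   (.conj 1 14 7, 724),
   (.conj 1 15 4, 133),
   (.conj 1 18 0, 171),
   (.conj 1 18 1, 172),
   (.conj 1 18 12, 732),
   (.conj 1 18 14, 185),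
   (.conj 1 18 15, 186),
   (.conj 1 19 0, 190),
   (.conj 1 19 1, 191),
   (.conj 1 19 14, 204),
   (.conj 1 19 15, 205),
   (.conj 1 20 19, 263),
   (.conj 1 21 17, 735),
   (.conj 1 24 5, 729),
   (.conj 1 24 18, 318),
   (.conj 1 24 19, 319),
   (.conj 1 24 23, 736),
   (.conj 1 25 0, 325),
   (.conj 1 26 1, 352),
   (.conj 1 26 5, 356),
   (.conj 1 26 22, 373),
   (.conj 1 27 8, 733),
   (.conj 1 27 23, 737),
   (.conj 1 28 19, 425),
   (.conj 1 29 18, 453),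
   (.conj 1 30 13, 565),
   (.conj 2 2 0, 744),
   (.conj 2 2 1, 745),
   (.conj 2 6 0, 21),
   (.conj 2 6 1, 22),
   (.conj 2 6 2, 23),
   (.conj 2 6 3, 24),
   (.conj 2 7 0, 28),
   (.conj 2 7 1, 29),
   (.conj 2 7 2, 30),
   (.conj 2 7 3, 31),
   (.conj 2 8 0, 749),
   (.conj 2 8 1, 750),
   (.conj 2 13 5, 758),
   (.conj 2 13 10, 761),
   (.conj 2 14 0, 756),
   (.conj 2 14 1, 757),
   (.conj 2 14 6, 759)]

/-- Propagation steps. -/
def stepList5 : List (Eqn × ℕ) :=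
  [(.conj 2 14 7, 760),
   (.conj 2 14 11, 763),
   (.conj 2 14 12, 764),
   (.conj 2 16 1, 762),
   (.conj 2 16 14, 766),
   (.conj 2 16 15, 767),
   (.conj 2 18 7, 765),
   (.conj 2 18 12, 768),
   (.conj 2 18 13, 773),
   (.conj 2 18 16, 769),
   (.conj 2 18 17, 770),
   (.conj 2 21 0, 231),
   (.conj 2 21 16, 247),
   (.conj 2 22 1, 254),
   (.conj 2 22 17, 270),
   (.conj 3 2 0, 780),
   (.conj 3 2 1, 781),
   (.conj 3 8 0, 785),
   (.conj 3 8 1, 786),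
   (.conj 3 8 6, 790),
   (.conj 3 8 7, 791),
   (.conj 3 11 7, 798),
   (.conj 3 14 0, 792),
   (.conj 3 14 1, 793),
   (.conj 3 14 6, 795),
   (.conj 3 14 7, 796),
   (.conj 3 16 0, 136),
   (.conj 3 17 1, 154),
   (.conj 3 18 7, 801),
   (.conj 3 25 1, 804),
   (.conj 3 25 2, 802),
   (.conj 3 25 3, 803),
   (.conj 3 25 6, 805),
   (.conj 3 25 7, 806),
   (.conj 3 28 7, 807),
   (.conj 4 0 0, 2),
   (.conj 4 1 1, 0),
   (.conj 4 5 4, 820),
   (.conj 4 13 5, 830),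
   (.conj 4 13 10, 833),
   (.conj 4 21 16, 269),
   (.conj 4 21 17, 843),
   (.conj 4 24 5, 837),
   (.conj 4 24 10, 840),
   (.conj 4 24 23, 844),
   (.conj 4 25 22, 845),
   (.conj 5 2 2, 9),
   (.conj 5 3 3, 5),
   (.conj 5 5 4, 856),
   (.conj 5 13 5, 866),
   (.conj 5 13 10, 869),
   (.conj 5 21 17, 879),
   (.conj 5 24 5, 873),
   (.conj 5 24 10, 876),
   (.conj 5 24 23, 880),
   (.conj 5 25 22, 881),
   (.assoc 2 0 0, 27),
   (.assoc 2 1 1, 35),
   (.assoc 4 3 2, 47),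
   (.assoc 4 4 2, 44),
   (.assoc 4 4 3, 54),
   (.assoc 5 4 4, 65),
   (.assoc 7 6 4, 84),
   (.assoc 8 0 0, 77),
   (.assoc 8 1 1, 90),
   (.assoc 8 5 2, 107),
   (.assoc 8 5 3, 108),
   (.assoc 8 6 0, 72),
   (.assoc 8 6 1, 137),
   (.assoc 8 6 6, 152),
   (.assoc 8 7 0, 153),
   (.assoc 8 7 1, 85),
   (.assoc 8 7 7, 170),
   (.assoc 9 5 2, 122),
   (.assoc 9 5 3, 123),
   (.assoc 10 6 2, 173),
   (.assoc 10 7 2, 192),
   (.assoc 10 7 6, 196),
   (.assoc 10 8 2, 113),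
   (.assoc 10 8 3, 128),
   (.assoc 10 9 2, 114),
   (.assoc 10 9 3, 129),
   (.assoc 11 6 5, 177),
   (.assoc 11 7 5, 305),
   (.assoc 11 8 5, 179),
   (.assoc 11 10 6, 182),
   (.assoc 12 7 5, 197),
   (.assoc 12 8 5, 198),
   (.assoc 12 10 6, 310),
   (.assoc 12 10 7, 202),
   (.assoc 12 11 5, 201),
   (.assoc 13 5 4, 214),
   (.assoc 13 5 5, 230),
   (.assoc 13 10 10, 299),
   (.assoc 14 0 0, 189),
   (.assoc 14 1 1, 209),
   (.assoc 14 2 0, 252),
   (.assoc 14 2 1, 275),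
   (.assoc 14 6 1, 232),
   (.assoc 14 7 0, 253)]

/-- Propagation steps. -/
def stepList6 : List (Eqn × ℕ) :=
  [(.assoc 14 8 0, 350),
   (.assoc 14 8 1, 377),
   (.assoc 14 8 6, 239),
   (.assoc 14 11 1, 326),
   (.assoc 14 12 0, 351),
   (.assoc 15 9 7, 240),
   (.assoc 16 8 5, 434),
   (.assoc 16 9 5, 464),
   (.assoc 16 10 2, 327),
   (.assoc 16 10 3, 328),
   (.assoc 16 11 5, 242),
   (.assoc 16 12 5, 243),
   (.assoc 16 14 7, 413),
   (.assoc 16 15 6, 441),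
   (.assoc 18 7 4, 382),
   (.assoc 18 8 6, 331),
   (.assoc 18 11 2, 527),
   (.assoc 18 13 0, 406),
   (.assoc 18 13 7, 391),
   (.assoc 18 13 12, 418),
   (.assoc 18 16 3, 499),
   (.assoc 18 16 15, 511),
   (.assoc 18 17 2, 530),
   (.assoc 18 17 14, 542),
   (.assoc 19 9 7, 332),
   (.assoc 19 12 3, 560),
   (.assoc 19 13 0, 435),
   (.assoc 19 13 11, 446),
   (.assoc 20 11 7, 320),
   (.assoc 20 18 12, 485),
   (.assoc 21 11 9, 505),
   (.assoc 21 12 8, 536),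
   (.assoc 21 17 4, 342),
   (.assoc 21 17 10, 571),
   (.assoc 22 16 4, 367),
   (.assoc 23 10 6, 401),
   (.assoc 24 23 5, 600),
   (.conj 0 8 2, 38),
   (.conj 0 9 3, 48),
   (.conj 0 13 5, 686),
   (.conj 0 13 10, 689),
   (.conj 0 14 6, 687),
   (.conj 0 14 11, 691),
   (.conj 0 16 5, 699),
   (.conj 0 16 14, 694),
   (.conj 0 16 15, 695),
   (.conj 0 18 7, 693),
   (.conj 0 18 12, 696),
   (.conj 0 18 16, 697),
   (.conj 0 19 16, 698),
   (.conj 1 5 4, 712),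
   (.conj 1 11 7, 726),
   (.conj 1 13 5, 722),
   (.conj 1 13 10, 725),
   (.conj 1 14 11, 727),
   (.conj 1 16 14, 730),
   (.conj 2 5 5, 20),
   (.conj 2 8 3, 751),
   (.conj 2 13 0, 754),
   (.conj 2 13 1, 755),
   (.conj 2 21 17, 771),
   (.conj 2 24 23, 772),
   (.conj 3 4 4, 14),
   (.conj 3 8 3, 787),
   (.conj 3 11 2, 68),
   (.conj 3 12 2, 80),
   (.conj 3 13 10, 797),
   (.conj 3 14 3, 794),
   (.conj 3 14 11, 799),
   (.conj 3 14 12, 800),
   (.conj 3 24 23, 808),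
   (.conj 3 25 22, 809),
   (.conj 4 8 3, 823),
   (.conj 4 8 5, 824),
   (.conj 4 9 5, 825),
   (.conj 4 10 2, 58),
   (.conj 4 10 3, 57),
   (.conj 4 11 7, 834),
   (.conj 4 14 14, 135),
   (.conj 4 15 15, 119),
   (.conj 5 8 3, 859),
   (.conj 5 8 5, 860),
   (.conj 5 9 5, 861),
   (.conj 5 11 7, 870),
   (.conj 0 8 6, 682),
   (.conj 1 8 5, 716),
   (.conj 1 9 5, 717),
   (.conj 2 8 5, 752),
   (.conj 2 9 5, 753),
   (.conj 3 4 2, 782),
   (.conj 3 4 3, 783),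
   (.conj 3 10 2, 788),
   (.conj 3 10 3, 789),
   (.conj 4 4 2, 818),
   (.conj 4 4 3, 819),
   (.conj 5 4 2, 854),
   (.conj 5 4 3, 855),
   (.assoc 14 12 7, 358),
   (.assoc 15 11 7, 315),
   (.assoc 15 13 0, 203)]

/-- Propagation steps. -/
def stepList7 : List (Eqn × ℕ) :=
  [(.assoc 16 15 1, 436),
   (.assoc 17 10 7, 207),
   (.assoc 18 9 7, 387),
   (.assoc 18 12 3, 468),
   (.assoc 19 8 3, 354),
   (.assoc 19 9 2, 262),
   (.assoc 20 9 0, 222),
   (.assoc 23 3 0, 283),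
   (.conj 0 17 15, 168),
   (.conj 4 18 16, 841),
   (.conj 5 18 16, 877),
   (.assoc 14 8 7, 167),
   (.assoc 14 9 6, 282),
   (.assoc 14 11 3, 221),
   (.assoc 14 12 2, 353),
   (.assoc 14 13 1, 314),
   (.assoc 16 14 1, 407),
   (.assoc 17 14 0, 188),
   (.assoc 18 8 3, 184),
   (.assoc 18 8 7, 386),
   (.assoc 18 9 6, 357),
   (.assoc 18 11 3, 264),
   (.assoc 18 12 2, 467),
   (.assoc 19 4 2, 257),
   (.assoc 20 4 1, 277),
   (.conj 1 14 12, 728),
   (.conj 1 15 11, 131),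
   (.conj 1 15 12, 132),
   (.conj 1 16 10, 146),
   (.conj 1 16 15, 731),
   (.conj 1 17 10, 163),
   (.conj 1 18 9, 180),
   (.conj 1 18 13, 235),
   (.conj 1 18 17, 734),
   (.conj 1 19 9, 199),
   (.conj 1 23 0, 276),
   (.conj 2 15 6, 126),
   (.conj 2 15 7, 127),
   (.conj 2 16 5, 141),
   (.conj 2 17 5, 158),
   (.conj 2 18 3, 174),
   (.conj 2 19 3, 193),
   (.conj 2 20 0, 210),
   (.conj 2 20 1, 211),
   (.conj 3 9 6, 51),
   (.conj 3 9 7, 52),
   (.conj 3 11 3, 69),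
   (.conj 3 12 3, 81),
   (.conj 3 13 0, 91),
   (.conj 3 13 1, 92),
   (.conj 4 8 6, 826),
   (.conj 4 8 7, 827),
   (.conj 4 14 6, 831),
   (.conj 4 14 7, 832),
   (.conj 4 14 11, 835),
   (.conj 4 14 12, 836),
   (.conj 4 16 14, 838),
   (.conj 4 16 15, 839),
   (.conj 4 18 17, 842),
   (.conj 5 8 6, 862),
   (.conj 5 8 7, 863),
   (.conj 5 14 6, 867),
   (.conj 5 14 7, 868),
   (.conj 5 14 11, 871),
   (.conj 5 14 12, 872),
   (.conj 5 16 14, 874),
   (.conj 5 16 15, 875),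
   (.conj 5 18 17, 878),
   (.assoc 4 2 0, 25),
   (.assoc 4 2 1, 32),
   (.assoc 4 3 0, 45),
   (.assoc 4 3 1, 46),
   (.assoc 8 5 0, 71),
   (.assoc 8 5 1, 83),
   (.assoc 9 5 0, 120),
   (.assoc 9 5 1, 121),
   (.assoc 10 2 0, 61),
   (.assoc 10 2 1, 62),
   (.conj 0 4 2, 674),
   (.conj 0 4 3, 675),
   (.conj 0 6 4, 677),
   (.conj 0 7 4, 678),
   (.conj 0 8 5, 680),
   (.conj 0 8 7, 683),
   (.conj 0 9 5, 681),
   (.conj 0 10 6, 684),
   (.conj 0 10 7, 685),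
   (.conj 0 14 7, 688),
   (.conj 0 14 12, 692),
   (.conj 2 3 0, 6),
   (.conj 2 3 1, 7),
   (.conj 4 2 0, 816),
   (.conj 4 2 1, 817),
   (.conj 4 6 4, 821),
   (.conj 4 7 4, 822),
   (.conj 4 10 6, 828),
   (.conj 4 10 7, 829),
   (.conj 5 2 0, 852),
   (.conj 5 2 1, 853),
   (.conj 5 6 4, 857)]

/-- Propagation steps. -/
def stepList8 : List (Eqn × ℕ) :=
  [(.conj 5 7 4, 858),
   (.conj 5 10 6, 864),
   (.conj 5 10 7, 865)]

/-- All steps. -/
def stepsList : List (Eqn × ℕ) :=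
  stepList0 ++ stepList1 ++ stepList2 ++ stepList3 ++ stepList4 ++ stepList5 ++ stepList6 ++ stepList7 ++ stepList8

/-- Equations showing the seeds to be involutions. -/
def orderList : List (Eqn × ℤ) :=
  [(.assoc 8 7 5, 1),
   (.assoc 3 0 0, -1),
   (.conj 0 2 2, 1),
   (.conj 0 3 3, 1),
   (.conj 0 4 4, 1),
   (.conj 0 5 5, 1),
   (.conj 0 6 6, 1),
   (.conj 0 7 7, 1),
   (.conj 1 0 0, 1),
   (.conj 1 1 1, 1),
   (.conj 1 4 4, 1),
   (.conj 1 5 5, 1),
   (.conj 1 6 6, 1),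
   (.conj 1 7 7, 1),
   (.conj 1 8 8, 1),
   (.conj 1 9 9, 1),
   (.conj 1 13 13, 1),
   (.conj 2 0 0, 1),
   (.conj 2 1 1, 1),
   (.conj 2 2 2, 1),
   (.conj 2 3 3, 1),
   (.conj 2 8 8, 1),
   (.conj 2 9 9, 1),
   (.conj 2 10 10, 1),
   (.conj 3 0 0, 1),
   (.conj 3 1 1, 1),
   (.conj 3 2 2, 1),
   (.conj 3 3 3, 1),
   (.conj 3 10 10, 1),
   (.conj 4 2 2, 1),
   (.conj 4 3 3, 1),
   (.conj 4 4 4, 1),
   (.conj 4 5 5, 1),
   (.conj 5 0 0, 1),
   (.conj 5 1 1, 1),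
   (.conj 5 4 4, 1),
   (.conj 5 5 5, 1)]

end CfsgLib.E6Two
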