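import Cfsg.Agent.Lib.Chev.E6Two.Data

/-! The action of the Weyl representatives and of two torus elements (generated data). -/

set_option autoImplicit false

namespace CfsgLib.E6Two

/-- The positions of the reflected roots, 36 for a negative root. -/
def posTab : List (List ℕ) :=
  [[36, 36, 6, 7, 4, 5, 2, 3, 11, 12, 10, 8, 9, 24, 18, 19, 17, 16, 14, 15, 27, 22, 21, 30, 13, 26, 25, 20, 31, 32, 23, 28, 29, 33, 34, 35],
   [6, 7, 36, 36, 13, 5, 0, 1, 9, 8, 20, 16, 17, 4, 15, 14, 11, 12, 21, 22, 10, 18, 19, 23, 24, 28, 29, 27, 25, 26, 33, 32, 31, 30, 34, 35],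
   [0, 1, 8, 9, 36, 10, 11, 12, 2, 3, 5, 6, 7, 13, 14, 15, 16, 17, 18, 19, 23, 25, 26, 20, 24, 21, 22, 30, 28, 29, 27, 31, 32, 34, 33, 35],
   [0, 1, 2, 3, 10, 36, 6, 7, 14, 15, 4, 18, 19, 20, 8, 9, 21, 22, 11, 12, 13, 16, 17, 23, 27, 25, 26, 24, 28, 29, 30, 31, 32, 33, 35, 34]]

/-- The exponents of the two torus elements. -/
def expTab : List (List ℕ) :=
  [[2, 1, 2, 1, 0, 0, 1, 2, 2, 1, 0, 1, 2, 0, 2, 1, 2, 1, 1, 2, 0, 2, 1, 0, 0, 2, 1, 0, 1, 2, 0, 2, 1, 0, 0, 0],
   [2, 1, 2, 1, 0, 0, 1, 2, 2, 1, 0, 1, 2, 0, 2, 1, 2, 1, 1, 2, 0, 2, 1, 0, 0, 2, 1, 0, 1, 2, 0, 2, 1, 0, 0, 0]]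

/-- The images of the generators, empty outside the domain. -/
def imgTab : List (List (List ℕ)) :=
  [[[], [], [6], [7], [4], [5], [2], [3], [11], [12], [10], [8], [9], [24], [18], [19], [16], [16, 17], [14], [15], [27], [21], [21, 22], [30], [13], [25], [25, 26], [20], [31], [32], [23], [28], [29], [33], [34], [35]],
   [[6], [7], [], [], [13], [5], [0], [1], [8], [8, 9], [20], [16], [17], [4], [14], [14, 15], [11], [12], [21], [22], [10], [18], [19], [23], [24], [28], [29], [27], [25], [26], [33], [31], [31, 32], [30], [34], [35]],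
   [[0], [1], [8], [9], [], [10], [11], [12], [2], [3], [5], [6], [7], [13], [14], [15], [16], [17], [18], [19], [23], [25], [26], [20], [24], [21], [22], [30], [28], [29], [27], [31], [32], [34], [33], [35]],
   [[0], [1], [2], [3], [10], [], [6], [7], [14], [15], [4], [18], [19], [20], [8], [9], [21], [22], [11], [12], [13], [16], [17], [23], [27], [25], [26], [24], [28], [29], [30], [31], [32], [33], [35], [34]],
   [[0, 1], [0], [2, 3], [2], [4], [5], [7], [6, 7], [8, 9], [8], [10], [12], [11, 12], [13], [14, 15], [14], [16, 17], [16], [19], [18, 19], [20], [21, 22], [21], [23], [24], [25, 26], [25], [27], [29], [28, 29], [30], [31, 32], [31], [33], [34], [35]],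
   [[0, 1], [0], [2, 3], [2], [4], [5], [7], [6, 7], [8, 9], [8], [10], [12], [11, 12], [13], [14, 15], [14], [16, 17], [16], [19], [18, 19], [20], [21, 22], [21], [23], [24], [25, 26], [25], [27], [29], [28, 29], [30], [31, 32], [31], [33], [34], [35]]]

/-- The image of a generator. -/
def cimg (j i : ℕ) : List ℕ := (imgTab.getD j []).getD i []

/-- The domain of a conjugation. -/
def cdom (j i : ℕ) : Bool := i < 36 && !(cimg j i).isEmpty

/-- The number of the central defect of the image of a generator. -/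
def cix (j i : ℕ) : ℕ := 666 + 36 * j + i

end CfsgLib.E6Two
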