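import Cfsg.Agent.Lib.Chev.E6Two.Gens
import Cfsg.Agent.Lib.Chev.E6Two.ConjData

/-!
The Weyl representatives and two torus elements of `²E₆(2)` acting on the generators.
-/

set_option autoImplicit false
set_option maxRecDepth 100000
set_option linter.unusedSectionVars false

namespace CfsgLib.E6Two

open Cfsg.Lie CfsgLib.Chev Matrix
open Cert (torusHom extC extC_ne_zero)

/-- The words of the four classes. -/
def clsW : List (List ℕ) := [[0, 5], [2, 4], [3], [1]]

/-- The pairs of simple indices of the two torus elements. -/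
def torIJ : List (ℕ × ℕ) := [(0, 5), (2, 4)]

/-- The power of the root of unity. -/
def wpow (e : ℕ) : ℕ := ([1, 2, 3] : List ℕ).getD e 0

/-- The model of a conjugation on one root element. -/
def mcj (j : ℕ) (p : ℕ × ℕ) : ℕ × ℕ :=
  if j < 4 then ((posTab.getD j []).getD p.1 36, p.2)
  else (p.1, fmul (wpow ((expTab.getD (j - 4) []).getD p.1 0)) p.2)

/-- The check of the tables of positions and exponents. -/
noncomputable def chkPos : Bool :=
  ((List.range 4).all fun j => (List.range 36).all fun r =>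
    decide (((posTab.getD j []).getD r 36 < 36 →
      rword tabE6 (clsW.getD j []) (prRoot r) = prRoot ((posTab.getD j []).getD r 36)))) &&
  (List.range 2).all fun k => (List.range 36).all fun r =>
    decide ((expTab.getD k []).getD r 0 < 3 ∧
      (tabE6.car (torIJ.getD k (0, 0)).1 (prRoot r) +
        2 * tabE6.car (torIJ.getD k (0, 0)).2 (prRoot r) -
          ((expTab.getD k []).getD r 0 : ℤ)) % 3 = 0)

theorem chkPos_eq : chkPos = true := by decide +kernel

variable {K : Type*} [Field K] [Fintype K] (X : Ctx4 K)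

include X in
/-- Reflections carry root elements to root elements in characteristic two. -/
lemma nW_conj_X (w : List ℕ) (hw : WordOK tabE6 w) {r : ℕ} (hr : r < tabE6.n) (t : K) :
    nW chevE6 K w * CfsgLib.Chev.X chevE6 r t * (nW chevE6 K w)⁻¹ =
      CfsgLib.Chev.X chevE6 (rword tabE6 w r) t := by
  induction w with
  | nil => simp [nW, rword]
  | cons i w ih =>
    have hi := hw i List.mem_cons_self
    have hw' : WordOK tabE6 w := fun a ha => hw a (List.mem_cons_of_mem _ ha)
    have e : nW chevE6 K (i :: w) = nS chevE6 K i * nW chevE6 K w := by simp [nW]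
    rw [e, show nS chevE6 K i * nW chevE6 K w * CfsgLib.Chev.X chevE6 r t *
        (nS chevE6 K i * nW chevE6 K w)⁻¹ =
      nS chevE6 K i * (nW chevE6 K w * CfsgLib.Chev.X chevE6 r t * (nW chevE6 K w)⁻¹) *
        (nS chevE6 K i)⁻¹ by group, ih hw', certE6.nS_conj_X hi (certE6.rword_lt hw' hr)]
    have he : ((tabE6.eta i (rword tabE6 w r) : ℤ) : K) = 1 := by
      rcases tabE6.eta_cases i (rword tabE6 w r) with e | e <;> rw [e] <;> simp [neg_self X.o]
    rw [he, one_mul]
    rfl

lemma clsW_ok {j : ℕ} (hj : j < 4) : WordOK tabE6 (clsW.getD j []) := by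
  intro a ha
  interval_cases j <;> simp [clsW] at ha <;> rcases ha with rfl | rfl <;> decide

lemma nW_fix {j : ℕ} (hj : j < 4) : nW chevE6 K (clsW.getD j []) ∈ X.E.fix := by
  rw [fix_eq_twistedE6 X.f X.hf X.hK Nat.prime_two.isPrimePow]
  have hnS : ∀ i, i < tabE6.l → nS chevE6 K i = nU chevE6 (tabE6.simple i) 1 :=
    fun i hi => nS_simpleE6 X.f X.hf hi
  interval_cases j
  · have := nU_pair_memE6 X.f X.hf (r := e6p1) (s := e6p6) (r' := e6m1) (s' := e6m6) (by decide)
      (by decide +kernel) (1 : K)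
    rw [one_pow] at this
    simpa [clsW, nW, hnS 0 (by decide), hnS 5 (by decide),
      show tabE6.simple 0 = e6p1 by decide +kernel,
      show tabE6.simple 5 = e6p6 by decide +kernel] using this
  · have := nU_pair_memE6 X.f X.hf (r := e6p3) (s := e6p5) (r' := e6m3) (s' := e6m5) (by decide)
      (by decide +kernel) (1 : K)
    rw [one_pow] at this
    simpa [clsW, nW, hnS 2 (by decide), hnS 4 (by decide),
      show tabE6.simple 2 = e6p3 by decide +kernel,
      show tabE6.simple 4 = e6p5 by decide +kernel] using this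
  · have := nU_single_memE6 X.f X.hf (r := e6p4) (by decide) (by decide +kernel) (one_pow 2 : (1:K) ^ 2 = 1)
    simpa [clsW, nW, hnS 3 (by decide),
      show tabE6.simple 3 = e6p4 by decide +kernel] using this
  · have := nU_single_memE6 X.f X.hf (r := e6p2) (by decide) (by decide +kernel) (one_pow 2 : (1:K) ^ 2 = 1)
    simpa [clsW, nW, hnS 1 (by decide),
      show tabE6.simple 1 = e6p2 by decide +kernel] using this

/-- The root of unity as a unit. -/
noncomputable def wu : Kˣ :=
  ⟨X.o.w, X.o.w + 1, by linear_combination X.o.eq - X.o.two,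
    by linear_combination X.o.eq - X.o.two⟩

/-- The parameter of a torus element. -/
noncomputable def torC (k : ℕ) : Fin tabE6.l → Kˣ :=
  if k = 0 then Pi.mulSingle ⟨0, by decide⟩ (wu X) * Pi.mulSingle ⟨5, by decide⟩ (wu X ^ 2)
  else Pi.mulSingle ⟨2, by decide⟩ (wu X) * Pi.mulSingle ⟨4, by decide⟩ (wu X ^ 2)

lemma torC_fix (k : ℕ) :
    torusHom (D := chevE6) (T := tabE6) (torC X k) ∈ X.E.fix := by
  refine (X.E.torusHom_mem_fix ?_).1
  rw [torC]
  split
  · exact tor_pairE6 X.f X.hf X.hK (i := ⟨0, by decide⟩) (j := ⟨5, by decide⟩) (by decide) _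
  · exact tor_pairE6 X.f X.hf X.hK (i := ⟨2, by decide⟩) (j := ⟨4, by decide⟩) (by decide) _

lemma torus_conj_X (c : Fin tabE6.l → Kˣ) {r : ℕ} (hr : r < tabE6.n) (t : K) :
    torusHom (D := chevE6) (T := tabE6) c * CfsgLib.Chev.X chevE6 r t *
      (torusHom (D := chevE6) (T := tabE6) c)⁻¹ =
      CfsgLib.Chev.X chevE6 r (charOf tabE6 (extC tabE6 c) r * t) := by
  rw [mul_inv_eq_iff_eq_mul]
  refine Units.ext ?_
  rw [Units.val_mul, Units.val_mul, certE6.coe_X, certE6.coe_X]
  exact certE6.torus_mul_x (certE6.isChar_charOf fun i _ => extC_ne_zero c i) hr t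

lemma fv_wpow {e : ℕ} (he : e < 3) : fv X.o (wpow e) = ((wu X ^ e : Kˣ) : K) := by
  interval_cases e
  · simp [wpow]
  · simp [wpow, wu]
  · simp only [wpow, List.getD_cons_succ, List.getD_cons_zero, fv_three, Units.val_pow_eq_pow_val]
    show X.o.w + 1 = X.o.w ^ 2
    linear_combination -X.o.eq + (X.o.w + 1) * X.o.two

lemma char_torC {k : ℕ} (hk : k < 2) (r : ℕ) :
    charOf tabE6 (extC tabE6 (torC X k)) r =
      ((wu X ^ (tabE6.car (torIJ.getD k (0, 0)).1 r + 2 * tabE6.car (torIJ.getD k (0, 0)).2 r) : Kˣ) : K) := by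
  rw [charOf, show tabE6.l = 6 from rfl, Units.val_zpow_eq_zpow_val]
  interval_cases k <;>
    simp [Finset.prod_range_succ, extC, torC, torIJ, show tabE6.l = 6 from rfl,
      Units.val_pow_eq_pow_val, Units.val_zpow_eq_zpow_val] <;>
    rw [zpow_add₀ (wu X).ne_zero, _root_.zpow_mul] <;>
    simp

/-- The conjugating elements. -/
noncomputable def cjE (j : ℕ) : ↥X.E.fix :=
  if h : j < 4 then ⟨_, nW_fix X h⟩ else ⟨_, torC_fix X (j - 4)⟩

lemma conj_Xm {j : ℕ} (hj : j < 6) {p : ℕ × ℕ} (hp : p.1 < 36 ∧ p.2 < 4) (h : (mcj j p).1 < 36) :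
    (cjE X j : GL chevE6.Idx K) * Xm X.o p.1 p.2 * (cjE X j : GL chevE6.Idx K)⁻¹ =
      Xm X.o (mcj j p).1 (mcj j p).2 := by
  have hc := chkPos_eq
  simp only [chkPos, Bool.and_eq_true, List.all_eq_true, List.mem_range, decide_eq_true_eq] at hc
  by_cases h4 : j < 4
  · simp only [mcj, if_pos h4] at h
    simp only [mcj, cjE, if_pos h4, dif_pos h4, Xm]
    rw [nW_conj_X X _ (clsW_ok h4) (prRoot_lt hp.1), hc.1 j h4 p.1 hp.1 h]
  · obtain ⟨he, hmod⟩ := hc.2 (j - 4) (by omega) p.1 hp.1
    rw [cjE, dif_neg h4]; simp only [mcj, if_neg h4, Xm]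
    rw [torus_conj_X _ (prRoot_lt hp.1), char_torC X (by omega)]
    congr 1
    have hlt := fmul_lt
    simp only [List.all_eq_true, List.mem_range, decide_eq_true_eq] at hlt
    have hw4 : wpow ((expTab.getD (j - 4) []).getD p.1 0) < 4 := by
      generalize (expTab.getD (j - 4) []).getD p.1 0 = e at he
      interval_cases e <;> simp [wpow]
    rw [fv_mul X.o hw4 hp.2, fv_wpow X he]
    congr 2
    have h3 : wu X ^ (3 : ℕ) = 1 := Units.ext (by
      show X.o.w ^ 3 = 1
      linear_combination (X.o.w - 1) * X.o.eq)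
    obtain ⟨m, hm⟩ := Int.dvd_of_emod_eq_zero hmod
    rw [← _root_.zpow_natCast (wu X) ((expTab.getD (j - 4) []).getD p.1 0),
      show tabE6.car (torIJ.getD (j - 4) (0, 0)).1 (prRoot p.1) +
        2 * tabE6.car (torIJ.getD (j - 4) (0, 0)).2 (prRoot p.1) =
          ((3 : ℕ) : ℤ) * m + ((expTab.getD (j - 4) []).getD p.1 0 : ℤ) by
        push_cast; omega,
      _root_.zpow_add, _root_.zpow_mul, _root_.zpow_natCast (wu X) 3, h3, _root_.one_zpow, one_mul]

/-- The check of the images. -/
def chkImgs : Bool :=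
  (List.range 6).all fun j => (List.range 36).all fun i =>
    !cdom j i || (((gw i).all fun p => decide ((mcj j p).1 < 36)) &&
      ((cimg j i).all fun q => decide (q < 36)) &&
      sameNF ((gw i).map (mcj j)) ((cimg j i).flatMap gw))

theorem chkImgs_eq : chkImgs = true := by decide +kernel

/-- The images of the generators. -/
theorem conj_xg {j i : ℕ} (hj : j < 6) (hd : cdom j i = true) :
    (∀ q ∈ cimg j i, q < 36) ∧
    cjE X j * xg X i * (cjE X j)⁻¹ = Pres.ev (xg X) (cimg j i) := by
  have hi : i < 36 := by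
    simp only [cdom, Bool.and_eq_true, decide_eq_true_eq] at hd; exact hd.1
  have h := chkImgs_eq
  simp only [chkImgs, List.all_eq_true, List.mem_range, Bool.or_eq_true, Bool.and_eq_true,
    Bool.not_eq_true', decide_eq_true_eq] at h
  obtain ⟨⟨h1, h2⟩, h3⟩ := (h j hj i hi).resolve_left (by rw [hd]; exact Bool.noConfusion)
  refine ⟨h2, Subtype.ext ?_⟩
  rw [Subgroup.coe_mul, Subgroup.coe_mul, Subgroup.coe_inv, coe_xg X hi, coe_ev X _ h2,
    ← sameNF_sound X.o h3]
  have key : ∀ w : List (ℕ × ℕ), (∀ p ∈ w, (p.1 < 36 ∧ p.2 < 4) ∧ (mcj j p).1 < 36) →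
      (cjE X j : GL chevE6.Idx K) * mev X.o w * (cjE X j : GL chevE6.Idx K)⁻¹ =
        mev X.o (w.map (mcj j)) := by
    intro w hw
    induction w with
    | nil => simp
    | cons p w ih =>
      rw [List.map_cons, mev_cons, mev_cons, ← conj_Xm X hj (hw p List.mem_cons_self).1
        (hw p List.mem_cons_self).2, ← ih fun q hq => hw q (List.mem_cons_of_mem _ hq)]
      group
  exact key _ fun p hp => ⟨((gens_spec hi).2.1 p hp).1, h1 p hp⟩

end CfsgLib.E6Two
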