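import Cfsg.Agent.Lib.Chev.E6Two.Equations
import Cfsg.Agent.Lib.Chev.E6Two.PermData

/-!
A permutation group in which the relations of the unipotent group hold up to two commuting
involutions.
-/

set_option autoImplicit false
set_option maxRecDepth 100000
set_option linter.unusedSectionVars false

namespace CfsgLib.E6Two

/-- The image of a point under a packed permutation. -/
def pget (v p : ℕ) : ℕ := (v >>> (8 * p)) % 256

/-- The exchange of the two points over one coset. -/
def flipPt (p : ℕ) : ℕ := if p % 2 = 0 then p + 1 else p - 1

/-- The tables of one representation. -/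
def permTab (b : Bool) : List ℕ := if b then permTab1 else permTab0

/-- The tables of the inverses. -/
def permTabI (b : Bool) : List ℕ := if b then permTab1Inv else permTab0Inv

/-- The bits of the defects in one representation. -/
def defBits (b : Bool) : ℕ := if b then defBits1 else defBits0

/-- The check of the inverses and of the exchange. -/
def chkInvs (b : Bool) : Bool :=
  (List.range 36).all fun i => (List.range 256).all fun p =>
    pget ((permTabI b).getD i 0) (pget ((permTab b).getD i 0) p) == p &&
      pget ((permTab b).getD i 0) (pget ((permTabI b).getD i 0) p) == p &&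
      pget ((permTab b).getD i 0) (flipPt p) == flipPt (pget ((permTab b).getD i 0) p)

/-- A word on a point. -/
def appPts (b : Bool) (w : List ℕ) (p : ℕ) : ℕ :=
  w.foldr (fun i q => pget ((permTab b).getD i 0) q) p

/-- The check of the relations of one generator with the earlier ones. -/
def chkPermRel (b : Bool) (h : ℕ) : Bool :=
  (List.range (h + 1)).all fun g => (List.range 256).all fun p =>
    appPts b [h, g] p ==
      appPts b (if g = h then PU.rel h g else g :: h :: PU.rel h g)
        (if (defBits b).testBit (PU.idx h g) then flipPt p else p)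

theorem chkInvs_false : chkInvs false = true := by decide +kernel

theorem chkInvs_true : chkInvs true = true := by decide +kernel

theorem chkPermRel_false : ((List.range 36).all (chkPermRel false)) = true := by decide +kernel

theorem chkPermRel_true : ((List.range 36).all (chkPermRel true)) = true := by decide +kernel

lemma chkInvs_eq (b : Bool) : chkInvs b = true := by
  cases b
  exacts [chkInvs_false, chkInvs_true]

lemma chkPermRel_eq (b : Bool) : ((List.range 36).all (chkPermRel b)) = true := by
  cases b
  exacts [chkPermRel_false, chkPermRel_true]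

lemma inv_spec (b : Bool) {i : ℕ} (hi : i < 36) {p : ℕ} (hp : p < 256) :
    pget ((permTabI b).getD i 0) (pget ((permTab b).getD i 0) p) = p ∧
      pget ((permTab b).getD i 0) (pget ((permTabI b).getD i 0) p) = p ∧
      pget ((permTab b).getD i 0) (flipPt p) = flipPt (pget ((permTab b).getD i 0) p) := by
  have h := chkInvs_eq b
  simp only [chkInvs, List.all_eq_true, List.mem_range, Bool.and_eq_true, beq_iff_eq] at h
  obtain ⟨⟨h1, h2⟩, h3⟩ := h i hi p hp
  exact ⟨h1, h2, h3⟩

lemma pget_lt (v p : ℕ) : pget v p < 256 := Nat.mod_lt _ (by omega)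

/-- The exchange as a permutation. -/
def flipPerm : Equiv.Perm (Fin 256) where
  toFun p := ⟨flipPt p, by simp only [flipPt]; split_ifs <;> omega⟩
  invFun p := ⟨flipPt p, by simp only [flipPt]; split_ifs <;> omega⟩
  left_inv p := Fin.ext (by simp only [flipPt]; split_ifs <;> omega)
  right_inv p := Fin.ext (by simp only [flipPt]; split_ifs <;> omega)

/-- The permutations commuting with the exchange. -/
def CW : Subgroup (Equiv.Perm (Fin 256)) := Subgroup.centralizer {flipPerm}

/-- A generator as a permutation. -/
def gperm (b : Bool) (i : ℕ) : Equiv.Perm (Fin 256) :=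
  if hi : i < 36 then
    { toFun := fun p => ⟨pget ((permTab b).getD i 0) p, pget_lt _ _⟩
      invFun := fun p => ⟨pget ((permTabI b).getD i 0) p, pget_lt _ _⟩
      left_inv := fun p => Fin.ext (inv_spec b hi p.2).1
      right_inv := fun p => Fin.ext (inv_spec b hi p.2).2.1 }
  else 1

lemma gperm_mem (b : Bool) (i : ℕ) : gperm b i ∈ CW := by
  rw [CW, Subgroup.mem_centralizer_iff]
  intro a ha
  rw [Set.mem_singleton_iff.1 ha]
  by_cases hi : i < 36
  · refine Equiv.ext fun p => Fin.ext ?_
    rw [gperm, dif_pos hi]
    exact ((inv_spec b hi p.2).2.2).symm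
  · rw [gperm, dif_neg hi]; simp

/-- The generators in the centraliser. -/
def gw' (b : Bool) (i : ℕ) : ↥CW := ⟨gperm b i, gperm_mem b i⟩

/-- The exchange in the centraliser. -/
def zfl : ↥CW := ⟨flipPerm, by
  rw [CW, Subgroup.mem_centralizer_iff]
  intro a ha
  rw [Set.mem_singleton_iff.1 ha]⟩

/-- The defects. -/
def gdef (b : Bool) (k : ℕ) : ↥CW := if (defBits b).testBit k then zfl else 1

lemma zfl_central : zfl ∈ Subgroup.center ↥CW :=
  Subgroup.mem_center_iff.2 fun a => Subtype.ext
    ((Subgroup.mem_centralizer_iff.1 a.2 flipPerm (Set.mem_singleton _)).symm)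

lemma zfl_sq : zfl * zfl = 1 := Subtype.ext (Equiv.ext fun p => flipPerm.left_inv p)

lemma zfl_ne : zfl ≠ 1 := fun h => by
  have := congrArg (fun x : ↥CW => ((x : Equiv.Perm (Fin 256)) 0).val) h
  simp [zfl, flipPerm, flipPt] at this

lemma gdef_central (b : Bool) (k : ℕ) : gdef b k ∈ Subgroup.center ↥CW := by
  unfold gdef; split_ifs
  · exact zfl_central
  · exact one_mem _

lemma gdef_sq (b : Bool) (k : ℕ) : gdef b k * gdef b k = 1 := by
  unfold gdef; split_ifs
  · exact zfl_sq
  · exact one_mul 1

lemma ev_app (b : Bool) : ∀ (w : List ℕ), (∀ i ∈ w, i < 36) → ∀ p : Fin 256,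
    (((Pres.ev (gw' b) w : ↥CW) : Equiv.Perm (Fin 256)) p).val = appPts b w p
  | [], _, p => rfl
  | i :: w, hw, p => by
    rw [Pres.ev_cons, Subgroup.coe_mul, Equiv.Perm.mul_apply]
    have hi := hw i List.mem_cons_self
    show (gperm b i _).val = _
    rw [gperm, dif_pos hi]
    show pget _ (((Pres.ev (gw' b) w : ↥CW) : Equiv.Perm (Fin 256)) p).val = _
    rw [ev_app b w (fun j hj => hw j (List.mem_cons_of_mem _ hj)) p]
    rfl

/-- The relations hold with the defects. -/
theorem holds_perm (b : Bool) : PU.Holds (gw' b) (gdef b) := by
  have hab : PU.Above := Pres.above_of_chk PU (by decide +kernel)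
  have hc := chkPermRel_eq b
  simp only [List.all_eq_true, List.mem_range, chkPermRel, beq_iff_eq] at hc
  have key : ∀ h < 36, ∀ g ≤ h, gw' b h * gw' b g =
      Pres.ev (gw' b) (if g = h then PU.rel h g else g :: h :: PU.rel h g) *
        gdef b (PU.idx h g) := by
    intro h hh g hg
    have hw : ∀ i ∈ (if g = h then PU.rel h g else g :: h :: PU.rel h g), i < 36 := by
      intro i hi
      split_ifs at hi with e
      · exact (hab h hh g hg i hi).2
      · rcases List.mem_cons.1 hi with rfl | hi
        · omega
        rcases List.mem_cons.1 hi with rfl | hi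
        · exact hh
        · exact (hab h hh g hg i hi).2
    refine Subtype.ext (Equiv.ext fun p => Fin.ext ?_)
    have e1 := ev_app b [h, g] (by
      intro i hi
      simp only [List.mem_cons, List.not_mem_nil, or_false] at hi
      rcases hi with rfl | rfl <;> omega) p
    rw [Pres.ev_cons, Pres.ev_cons, Pres.ev_nil, mul_one] at e1
    rw [e1, hc h hh g (by omega) p p.2, Subgroup.coe_mul, Equiv.Perm.mul_apply, ev_app b _ hw]
    congr 1
    by_cases ht : (defBits b).testBit (PU.idx h g) = true
    · rw [if_pos ht, gdef, if_pos ht]; rfl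
    · rw [if_neg ht, gdef, if_neg ht]; rfl
  refine ⟨fun g hg => ?_, fun h hh g hg => ?_, gdef_central b⟩
  · have := key g hg g le_rfl
    rwa [if_pos rfl] at this
  · have := key h hh g hg.le
    rwa [if_neg (by omega), Pres.ev_cons, Pres.ev_cons, ← mul_assoc (gw' b g)] at this

/-- The check of the equations of the conjugations. -/
def chkConjPar (b : Bool) : Bool :=
  (List.range 6).all fun n => (List.range 36).all fun h => (List.range (h + 1)).all fun g =>
    !(cdom n h && cdom n g) ||
      match eqnOf (.conj n h g) with
      | none => false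
      | some (L, R) =>
        (L.countP fun k => (defBits b).testBit k) % 2 ==
          (R.countP fun k => (defBits b).testBit k) % 2

theorem chkConjPar_false : chkConjPar false = true := by decide +kernel

theorem chkConjPar_true : chkConjPar true = true := by decide +kernel

lemma ev_gdef (b : Bool) (L : List ℕ) :
    Pres.ev (gdef b) L = zfl ^ ((L.countP fun k => (defBits b).testBit k) % 2) := by
  have hp : ∀ n : ℕ, zfl ^ (n % 2) = zfl ^ n := fun n => by
    conv_rhs => rw [← Nat.mod_add_div n 2, pow_add, pow_mul, pow_two, zfl_sq, one_pow, mul_one]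
  rw [hp]
  induction L with
  | nil => simp
  | cons a L ih =>
    rw [Pres.ev_cons, ih, List.countP_cons]
    by_cases ht : (defBits b).testBit a = true
    · rw [gdef, if_pos ht, if_pos ht, pow_succ']
    · rw [gdef, if_neg ht, if_neg ht, one_mul, add_zero]

/-- The equations of the conjugations hold. -/
theorem conj_defects (b : Bool) {n h g : ℕ} (hn : n < 6) (hh : h < 36) (hg : g ≤ h)
    (hdh : cdom n h = true) (hdg : cdom n g = true) :
    ∃ L R, eqnOf (.conj n h g) = some (L, R) ∧ Pres.ev (gdef b) L = Pres.ev (gdef b) R := by
  have hc : chkConjPar b = true := by cases b; exacts [chkConjPar_false, chkConjPar_true]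
  simp only [chkConjPar, List.all_eq_true, List.mem_range, Bool.or_eq_true,
    Bool.not_eq_true'] at hc
  have h1 := (hc n hn h hh g (by omega)).resolve_left (by simp [hdh, hdg])
  split at h1
  · exact absurd h1 Bool.false_ne_true
  next L R he =>
    refine ⟨L, R, he, ?_⟩
    rw [ev_gdef, ev_gdef, beq_iff_eq.1 h1]

end CfsgLib.E6Two
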