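import Cfsg.Agent.Lib.Chev.E6Two.Conj
import Cfsg.Agent.Lib.Chev.E6Two.Perms

/-!
The fourfold central extension of the unipotent group of `²E₆(2)`, and the invariance of its
commutators under the conjugations.
-/

set_option autoImplicit false
set_option maxRecDepth 100000
set_option linter.unusedSectionVars false

open scoped commutatorElement

namespace CfsgLib.E6Two

open Cfsg.Lie CfsgLib.Chev

/-- The product of the two permutation groups. -/
abbrev RR : Type := ↥CW × ↥CW

/-- The generators in the two representations. -/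
def rr (i : ℕ) : RR := (gw' false i, gw' true i)

/-- The defects in the two representations. -/
def rd (k : ℕ) : RR := (gdef false k, gdef true k)

lemma ev_rr (w : List ℕ) : Pres.ev rr w = (Pres.ev (gw' false) w, Pres.ev (gw' true) w) := by
  induction w with
  | nil => rfl
  | cons a w ih => simp only [Pres.ev_cons, ih]; rfl

lemma ev_rd (w : List ℕ) : Pres.ev rd w = (Pres.ev (gdef false) w, Pres.ev (gdef true) w) := by
  induction w with
  | nil => rfl
  | cons a w ih => simp only [Pres.ev_cons, ih]; rfl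

variable {K : Type*} [Field K] [Fintype K] (X : Ctx4 K)

/-- The ambient group. -/
abbrev Ctx4.Amb : Type _ := ↥X.E.fix × RR

/-- The generators of the extension. -/
noncomputable def xh (i : ℕ) : X.Amb := (xg X i, rr i)

/-- Its defects. -/
noncomputable def ch (k : ℕ) : X.Amb := (1, rd k)

lemma ev_xh (w : List ℕ) : Pres.ev (xh X) w = (Pres.ev (xg X) w, Pres.ev rr w) := by
  induction w with
  | nil => rfl
  | cons a w ih => simp only [Pres.ev_cons, ih]; rfl

lemma ev_ch (w : List ℕ) : Pres.ev (ch X) w = (1, Pres.ev rd w) := by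
  induction w with
  | nil => rfl
  | cons a w ih => simp only [Pres.ev_cons, ih, ch, Prod.mk_mul_mk, one_mul]

lemma ch_central (k : ℕ) : ch X k ∈ Subgroup.center X.Amb := by
  refine Subgroup.mem_center_iff.2 fun a => Prod.ext (by simp [ch]) (Prod.ext ?_ ?_)
  · exact Subgroup.mem_center_iff.1 (gdef_central false k) a.2.1
  · exact Subgroup.mem_center_iff.1 (gdef_central true k) a.2.2

theorem holdsH : PU.Holds (xh X) (ch X) := by
  refine ⟨fun g hg => ?_, fun h hh g hg => ?_, ch_central X⟩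
  · refine Prod.ext ?_ ?_
    · simpa [ev_xh, ch, xh] using (holdsU X).sq g hg
    · refine Prod.ext ?_ ?_
      · simpa [ev_xh, ev_rr, ch, rd, rr, xh] using (holds_perm false).sq g hg
      · simpa [ev_xh, ev_rr, ch, rd, rr, xh] using (holds_perm true).sq g hg
  · refine Prod.ext ?_ ?_
    · simpa [ev_xh, ch, xh] using (holdsU X).swap h hh g hg
    · refine Prod.ext ?_ ?_
      · simpa [ev_xh, ev_rr, ch, rd, rr, xh] using (holds_perm false).swap h hh g hg
      · simpa [ev_xh, ev_rr, ch, rd, rr, xh] using (holds_perm true).swap h hh g hg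

/-- The group of the defects. -/
noncomputable def Zamb : Subgroup X.Amb :=
  (⊥ : Subgroup ↥X.E.fix).prod ((Subgroup.zpowers zfl).prod (Subgroup.zpowers zfl))

lemma zfl_cases {a : ↥CW} (ha : a ∈ Subgroup.zpowers zfl) : a = 1 ∨ a = zfl := by
  obtain ⟨m, rfl⟩ := Subgroup.mem_zpowers_iff.1 ha
  rcases Int.even_or_odd m with ⟨j, rfl⟩ | ⟨j, rfl⟩
  · left
    rw [show j + j = 2 * j by ring, zpow_mul, zpow_two, zfl_sq, one_zpow]
  · right
    rw [zpow_add, zpow_mul, zpow_two, zfl_sq, one_zpow, one_mul, zpow_one]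

lemma Zamb_sq {z : X.Amb} (hz : z ∈ Zamb X) : z * z = 1 := by
  obtain ⟨h1, h2, h3⟩ := hz
  refine Prod.ext ?_ (Prod.ext ?_ ?_)
  · simp [Subgroup.mem_bot.1 h1]
  · rcases zfl_cases h2 with e | e <;> simp [e, zfl_sq]
  · rcases zfl_cases h3 with e | e <;> simp [e, zfl_sq]

lemma Zamb_central : Zamb X ≤ Subgroup.center X.Amb := by
  rintro z ⟨h1, h2, h3⟩
  refine Subgroup.mem_center_iff.2 fun a => Prod.ext ?_ (Prod.ext ?_ ?_)
  · simp [Subgroup.mem_bot.1 h1]
  · rcases zfl_cases h2 with e | e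
    · simp [e]
    · simp only [Prod.fst_mul, Prod.snd_mul, e]
      exact Subgroup.mem_center_iff.1 zfl_central a.2.1
  · rcases zfl_cases h3 with e | e
    · simp [e]
    · simp only [Prod.snd_mul, e]
      exact Subgroup.mem_center_iff.1 zfl_central a.2.2

lemma ch_mem (k : ℕ) : ch X k ∈ Zamb X := by
  refine ⟨Subgroup.one_mem _, ?_, ?_⟩
  · show gdef false k ∈ _
    unfold gdef; split_ifs
    exacts [Subgroup.mem_zpowers _, one_mem _]
  · show gdef true k ∈ _
    unfold gdef; split_ifs
    exacts [Subgroup.mem_zpowers _, one_mem _]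

/-- The extension of the unipotent group. -/
noncomputable def GU : Subgroup X.Amb :=
  Subgroup.closure (xh X '' {i | i < 36}) ⊔ Zamb X

/-- Its projection. -/
noncomputable def proU : ↥(GU X) →* ↥X.E.fix := (MonoidHom.fst _ _).comp (GU X).subtype

lemma GU_normal {s : X.Amb} (hs : s ∈ GU X) :
    ∃ v : List ℕ, v.Pairwise (· < ·) ∧ (∀ a ∈ v, a < 36) ∧ ∃ z ∈ Zamb X, s = Pres.ev (xh X) v * z := by
  obtain ⟨v, hv, hvi, z, hz, e⟩ := Pres.exists_normal aboveU (holdsH X) (Zamb X) (Zamb_central X)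
    (fun h _ g _ => ch_mem X _) 0 s (by simpa [Pres.genFrom, GU, show PU.n = 36 from rfl] using hs)
  exact ⟨v, hv, fun a ha => (hvi a ha).2, z, hz, e⟩

lemma ker_mem {s : X.Amb} (hs : s ∈ GU X) (h1 : s.1 = 1) : s ∈ Zamb X := by
  obtain ⟨v, hv, hvi, z, hz, rfl⟩ := GU_normal X hs
  have hz1 : z.1 = 1 := Subgroup.mem_bot.1 hz.1
  obtain rfl := word_inj X hv hvi (by simpa [ev_xh, hz1] using h1)
  simpa using hz

lemma proU_ker : (proU X).ker ≤ Subgroup.center ↥(GU X) := fun a ha =>
  Subgroup.mem_center_iff.2 fun b =>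
    Subtype.ext (Subgroup.mem_center_iff.1 (Zamb_central X (ker_mem X a.2 ha)) b)

lemma proU_sq : ∀ z ∈ (proU X).ker, z * z = 1 := fun z hz =>
  Subtype.ext (Zamb_sq X (ker_mem X z.2 hz))

lemma xh_mem {i : ℕ} (hi : i < 36) : xh X i ∈ GU X :=
  Subgroup.mem_sup_left (Subgroup.subset_closure ⟨i, hi, rfl⟩)

lemma evh_mem {w : List ℕ} (hw : ∀ i ∈ w, i < 36) : Pres.ev (xh X) w ∈ GU X :=
  Subgroup.list_prod_mem _ fun a ha => by
    obtain ⟨i, hi, rfl⟩ := List.mem_map.1 ha
    exact xh_mem X (hw i hi)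

theorem proU_range : (proU X).range = UG X := by
  apply le_antisymm
  · rintro _ ⟨s, rfl⟩
    obtain ⟨v, -, -, z, hz, e⟩ := GU_normal X s.2
    show (s : X.Amb).1 ∈ UG X
    rw [e, ev_xh, Prod.fst_mul, Subgroup.mem_bot.1 hz.1, mul_one]
    exact Subgroup.list_prod_mem _ fun a ha => by
      obtain ⟨i, -, rfl⟩ := List.mem_map.1 ha
      exact xg_mem X i
  · intro g hg
    obtain ⟨v, -, hv, rfl⟩ := exists_word X hg
    exact ⟨⟨_, evh_mem X hv⟩, by show (Pres.ev (xh X) v).1 = _; rw [ev_xh]⟩

/-- The fusion by `g` preserves the commutators of the lifts. -/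
def InvAt (g : ↥X.E.fix) : Prop :=
  ∀ a b a' b' : ↥(GU X), proU X a * proU X b = proU X b * proU X a →
    proU X a' = g * proU X a * g⁻¹ → proU X b' = g * proU X b * g⁻¹ → ⁅a', b'⁆ = ⁅a, b⁆

lemma comm_congr {a b a' b' : ↥(GU X)} (ha : proU X a' = proU X a) (hb : proU X b' = proU X b) :
    ⁅a', b'⁆ = ⁅a, b⁆ := by
  have k1 : a⁻¹ * a' ∈ Subgroup.center ↥(GU X) := proU_ker X (by
    rw [MonoidHom.mem_ker, map_mul, map_inv, ha, inv_mul_cancel])
  have k2 : b⁻¹ * b' ∈ Subgroup.center ↥(GU X) := proU_ker X (by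
    rw [MonoidHom.mem_ker, map_mul, map_inv, hb, inv_mul_cancel])
  rw [show a' = a * (a⁻¹ * a') by group, show b' = b * (b⁻¹ * b') by group]
  generalize a⁻¹ * a' = u, b⁻¹ * b' = v at k1 k2
  have cu := Subgroup.mem_center_iff.1 k1
  have cv := Subgroup.mem_center_iff.1 k2
  simp only [commutatorElement_def, mul_inv_rev]
  calc a * u * (b * v) * (u⁻¹ * a⁻¹) * (v⁻¹ * b⁻¹)
      = a * (u * (b * v)) * u⁻¹ * a⁻¹ * v⁻¹ * b⁻¹ := by group
    _ = a * b * (v * a⁻¹) * v⁻¹ * b⁻¹ := by rw [← cu (b * v)]; group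
    _ = _ := by rw [← cv a⁻¹]; group

lemma invAt_unip {g : ↥X.E.fix} (hg : g ∈ UG X) : InvAt X g := by
  intro a b a' b' hab ha hb
  obtain ⟨w, rfl⟩ : g ∈ (proU X).range := by rw [proU_range]; exact hg
  have h1 : ⁅a', b'⁆ = ⁅w * a * w⁻¹, w * b * w⁻¹⁆ :=
    comm_congr X (by rw [ha, map_mul, map_mul, map_inv]) (by rw [hb, map_mul, map_mul, map_inv])
  have hz : ⁅a, b⁆ ∈ Subgroup.center ↥(GU X) := proU_ker X (by
    rw [MonoidHom.mem_ker, map_commutatorElement, commutatorElement_def, hab]; group)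
  rw [h1, show ⁅w * a * w⁻¹, w * b * w⁻¹⁆ = w * ⁅a, b⁆ * w⁻¹ by
    simp only [commutatorElement_def]; group, Subgroup.mem_center_iff.1 hz w, mul_inv_cancel_right]

lemma InvAt.inv {g : ↥X.E.fix} (h : InvAt X g) : InvAt X g⁻¹ := by
  intro a b a' b' hab ha hb
  refine (h a' b' a b ?_ ?_ ?_).symm
  · rw [ha, hb]
    calc g⁻¹ * proU X a * g⁻¹⁻¹ * (g⁻¹ * proU X b * g⁻¹⁻¹)
        = g⁻¹ * (proU X a * proU X b) * g⁻¹⁻¹ := by group
      _ = _ := by rw [hab]; group
  · rw [ha]; group
  · rw [hb]; group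

/-- The presentation restricted to the domain of a conjugation. -/
def PUd (n : ℕ) : Pres where
  n := 36
  rel h g := if cdom n h && cdom n g then PU.rel h g else []
  idx h g := if cdom n h && cdom n g then PU.idx h g else 999

lemma above_PUd (n : ℕ) : (PUd n).Above := by
  intro h hh g hg k hk
  change k ∈ (if _ then _ else _) at hk
  split_ifs at hk with hd
  · exact aboveU h hh g hg k hk
  · simp at hk

/-- The pairs of a generator with its image. -/
noncomputable def x2 (n i : ℕ) : X.Amb × X.Amb :=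
  if cdom n i then (xh X i, Pres.ev (xh X) (cimg n i) * ch X (cix n i)) else 1

/-- The defects of the pairs. -/
noncomputable def c2 (k : ℕ) : X.Amb × X.Amb := if k < 666 then (ch X k, ch X k) else 1

lemma ev_img (n : ℕ) : ∀ w : List ℕ,
    Pres.ev (fun i => Pres.ev (xh X) (cimg n i) * ch X (cix n i)) w =
      Pres.ev (xh X) (w.flatMap (cimg n)) * Pres.ev (ch X) (w.map (cix n))
  | [] => by simp
  | i :: w => by
    simp only [Pres.ev_cons, List.flatMap_cons, List.map_cons, Pres.ev_append, ev_img n w]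
    rw [mul_assoc, ← mul_assoc (ch X _), ← Subgroup.mem_center_iff.1 (ch_central X _)]
    simp only [mul_assoc]

/-- The images satisfy the relations. -/
lemma img_rel {n h g : ℕ} (hn : n < 6) (hh : h < 36) (hg : g ≤ h) (hdh : cdom n h = true)
    (hdg : cdom n g = true) :
    (∀ q ∈ PU.rel h g, cdom n q = true) ∧
    Pres.ev (fun i => Pres.ev (xh X) (cimg n i) * ch X (cix n i)) [h, g] =
      Pres.ev (fun i => Pres.ev (xh X) (cimg n i) * ch X (cix n i))
        (if g = h then PU.rel h g else g :: h :: PU.rel h g) * ch X (PU.idx h g) := by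
  obtain ⟨L, R, he, hf⟩ := conj_defects false hn hh hg hdh hdg
  obtain ⟨L', R', he', ht⟩ := conj_defects true hn hh hg hdh hdg
  rw [he, Option.some.injEq, Prod.mk.injEq] at he'
  obtain ⟨rfl, rfl⟩ := he'
  have hch : Pres.ev (ch X) L = Pres.ev (ch X) R := by rw [ev_ch, ev_ch, ev_rd, ev_rd, hf, ht]
  simp only [eqnOf, Option.bind_eq_bind] at he
  split_ifs at he with h1
  all_goals simp only [Option.bind_eq_some_iff] at he
  all_goals obtain ⟨a, ha, b, hb, he⟩ := he
  all_goals split_ifs at he with h2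
  all_goals simp only [Option.some.injEq, Prod.mk.injEq] at he
  all_goals obtain ⟨rfl, rfl⟩ := he
  all_goals obtain ⟨-, -, -, -, -, hdr⟩ := h1
  all_goals simp only [List.all_eq_true, List.mem_append, decide_eq_true_eq] at hdr h2
  all_goals obtain ⟨heq, hall⟩ := h2
  all_goals refine ⟨hdr, ?_⟩
  all_goals have hl : ∀ q ∈ cimg n h ++ cimg n g, q < PU.n := fun q hq => hall q (by
    rcases List.mem_append.1 hq with hq | hq <;> tauto)
  · next hgh =>
    rw [if_pos hgh, ev_img, ev_img]
    simp only [List.flatMap_cons, List.flatMap_nil, List.append_nil, List.map_cons, List.map_nil]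
    rw [Pres.collW_sound aboveU (holdsH X) hl ha,
      Pres.collW_sound aboveU (holdsH X) (w := (PU.rel h g).flatMap (cimg n))
        (fun q hq => hall q (Or.inr hq)) (by simpa using hb), heq, mul_assoc, mul_assoc, mul_assoc,
      ← Pres.ev_append, hch]
    simp [mul_assoc]
  · next hgh =>
    rw [if_neg hgh, ev_img, ev_img]
    have hw : (g :: h :: PU.rel h g).flatMap (cimg n) =
        cimg n g ++ cimg n h ++ (PU.rel h g).flatMap (cimg n) := by simp
    rw [hw]
    simp only [List.flatMap_cons, List.flatMap_nil, List.append_nil, List.map_cons, List.map_nil]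
    rw [Pres.collW_sound aboveU (holdsH X) hl ha,
      Pres.collW_sound aboveU (holdsH X) (w := cimg n g ++ cimg n h ++ (PU.rel h g).flatMap (cimg n))
        (fun q hq => hall q (by simp only [List.mem_append] at hq ⊢; tauto)) hb, heq, mul_assoc,
      mul_assoc, mul_assoc, ← Pres.ev_append, hch]
    simp [mul_assoc]

theorem idx_lt : ((List.range 36).all fun h => (List.range (h + 1)).all fun g =>
    decide (PU.idx h g < 666)) = true := by decide +kernel

lemma holds2 {n : ℕ} (hn : n < 6) : (PUd n).Holds (x2 X n) (c2 X) := by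
  have hidx : ∀ h < 36, ∀ g ≤ h, PU.idx h g < 666 := fun h hh g hg => by
    have := idx_lt
    simp only [List.all_eq_true, List.mem_range, decide_eq_true_eq] at this
    exact this h hh g (by omega)
  have hev : ∀ w : List ℕ, (∀ q ∈ w, cdom n q = true) → Pres.ev (x2 X n) w =
      (Pres.ev (xh X) w, Pres.ev (fun i => Pres.ev (xh X) (cimg n i) * ch X (cix n i)) w) := by
    intro w hw
    induction w with
    | nil => rfl
    | cons a w ih =>
      rw [Pres.ev_cons, ih fun q hq => hw q (List.mem_cons_of_mem _ hq), x2,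
        if_pos (hw a List.mem_cons_self)]
      simp [Pres.ev_cons]
  have key : ∀ h < 36, ∀ g ≤ h, x2 X n h * x2 X n g =
      (if g = h then 1 else x2 X n g * x2 X n h) * Pres.ev (x2 X n) ((PUd n).rel h g) *
        c2 X ((PUd n).idx h g) := by
    intro h hh g hg
    have er : (PUd n).rel h g = if cdom n h && cdom n g then PU.rel h g else [] := rfl
    have ei : (PUd n).idx h g = if cdom n h && cdom n g then PU.idx h g else 999 := rfl
    rw [er, ei]
    by_cases hd : (cdom n h && cdom n g) = true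
    · obtain ⟨hdh, hdg⟩ := Bool.and_eq_true_iff.1 hd
      obtain ⟨hdr, himg⟩ := img_rel X hn hh hg hdh hdg
      rw [if_pos hd, if_pos hd, c2, if_pos (hidx h hh g hg), hev _ hdr]
      simp only [x2, hdh, hdg, if_true]
      by_cases hgh : g = h
      · subst hgh
        rw [if_pos rfl] at himg ⊢
        simp only [Pres.ev_cons, Pres.ev_nil, mul_one] at himg
        refine Prod.ext ?_ ?_
        · simpa using (holdsH X).sq g hh
        · simpa using himg
      · rw [if_neg hgh] at himg ⊢
        simp only [Pres.ev_cons, Pres.ev_nil, mul_one] at himg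
        refine Prod.ext ?_ ?_
        · simpa using (holdsH X).swap h hh g (lt_of_le_of_ne hg hgh)
        · simpa [mul_assoc] using himg
    · rw [if_neg hd, if_neg hd, c2, if_neg (show ¬(999 : ℕ) < 666 by omega), Pres.ev_nil, mul_one, mul_one]
      simp only [Bool.and_eq_true, not_and] at hd
      by_cases hgh : g = h
      · subst hgh
        have : cdom n g ≠ true := fun h => hd h h
        simp [x2, this]
      · rw [if_neg hgh]
        by_cases hdh : cdom n h = true
        · simp [x2, hd hdh]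
        · simp [x2, hdh]
  refine ⟨fun g hg => ?_, fun h hh g hg => ?_, fun k => ?_⟩
  · rw [key g hg g le_rfl, if_pos rfl, one_mul]
  · rw [key h hh g hg.le, if_neg (by omega)]
  · unfold c2
    split_ifs
    · exact Subgroup.mem_center_iff.2 fun a => Prod.ext
        (Subgroup.mem_center_iff.1 (ch_central X k) a.1) (Subgroup.mem_center_iff.1 (ch_central X k) a.2)
    · exact one_mem _

/-- The generators in the domain. -/
noncomputable def domG (n : ℕ) : Subgroup ↥X.E.fix :=
  Subgroup.closure (xg X '' {i | cdom n i = true})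

/-- Conjugation of commuting elements of the domain preserves the commutators of their lifts. -/
theorem invAt_dom {n : ℕ} (hn : n < 6) {a b a' b' : ↥(GU X)}
    (hab : proU X a * proU X b = proU X b * proU X a) (ha : proU X a ∈ domG X n)
    (hb : proU X b ∈ domG X n) (ha' : proU X a' = cjE X n * proU X a * (cjE X n)⁻¹)
    (hb' : proU X b' = cjE X n * proU X b * (cjE X n)⁻¹) : ⁅a', b'⁆ = ⁅a, b⁆ := by
  let D : Subgroup (X.Amb × X.Amb) := (Zamb X).map (MonoidHom.prod (MonoidHom.id _) (MonoidHom.id _))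
  have hDc : D ≤ Subgroup.center _ := by
    rintro _ ⟨z, hz, rfl⟩
    exact Subgroup.mem_center_iff.2 fun a => Prod.ext
      (Subgroup.mem_center_iff.1 (Zamb_central X hz) a.1)
      (Subgroup.mem_center_iff.1 (Zamb_central X hz) a.2)
  set Γ2 := Pres.genFrom (x2 X n) 36 0 D with hΓ2
  have hnormal : ∀ s ∈ Γ2, s.1.1 = 1 → s.1 = s.2 := by
    intro s hs h1
    obtain ⟨v, hv, hvi, z, hz, e⟩ := Pres.exists_normal (above_PUd n) (holds2 X hn) D hDc
      (fun h _ g _ => by
        unfold c2
        split_ifs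
        · exact ⟨_, ch_mem X _, rfl⟩
        · exact one_mem _) 0 s hs
    obtain ⟨w, hw, rfl⟩ := hz
    have hfil : ∀ v : List ℕ, Pres.ev (x2 X n) v = Pres.ev (x2 X n) (v.filter (cdom n)) := by
      intro v
      induction v with
      | nil => rfl
      | cons a v ih =>
        rw [Pres.ev_cons, ih, List.filter_cons]
        by_cases hd : cdom n a = true
        · rw [if_pos hd, Pres.ev_cons]
        · rw [if_neg hd, x2, if_neg hd, one_mul]
    have hfst : ∀ v : List ℕ, (∀ q ∈ v, cdom n q = true) →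
        (Pres.ev (x2 X n) v).1 = Pres.ev (xh X) v := by
      intro v hv
      induction v with
      | nil => rfl
      | cons a v ih =>
        rw [Pres.ev_cons, Pres.ev_cons, Prod.fst_mul, ih fun q hq => hv q (List.mem_cons_of_mem _ hq),
          x2, if_pos (hv a List.mem_cons_self)]
    rw [hfil] at e
    subst e
    have hw1 : w.1 = 1 := Subgroup.mem_bot.1 hw.1
    have h2 : Pres.ev (xg X) (v.filter (cdom n)) = 1 := by
      have h3 : ((Pres.ev (x2 X n) (v.filter (cdom n))).1 * w).1 = 1 := h1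
      rwa [hfst _ (fun q hq => (List.mem_filter.1 hq).2), Prod.fst_mul, hw1, mul_one, ev_xh] at h3
    have hnil := word_inj X (hv.filter _) (fun q hq => (hvi q (List.mem_filter.1 hq).1).2) h2
    rw [hnil]
    rfl
  -- lifts in the pairs
  let Q : Subgroup ↥X.E.fix :=
    { carrier := {u | ∃ s ∈ Γ2, s.1 ∈ GU X ∧ s.2 ∈ GU X ∧ s.1.1 = u ∧
        s.2.1 = cjE X n * u * (cjE X n)⁻¹}
      one_mem' := ⟨1, one_mem _, one_mem _, one_mem _, rfl, by simp⟩
      mul_mem' := by
        rintro u v ⟨s, hs, s1, s2, e1, e2⟩ ⟨t, ht, t1, t2, f1, f2⟩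
        refine ⟨s * t, mul_mem hs ht, mul_mem s1 t1, mul_mem s2 t2, ?_, ?_⟩
        · simp [e1, f1]
        · simp only [Prod.snd_mul, Prod.fst_mul, e2, f2]; group
      inv_mem' := by
        rintro u ⟨s, hs, s1, s2, e1, e2⟩
        refine ⟨s⁻¹, inv_mem hs, inv_mem s1, inv_mem s2, by simp [e1], ?_⟩
        simp only [Prod.snd_inv, Prod.fst_inv, e2]; group }
  have hQ : domG X n ≤ Q := by
    rw [domG, Subgroup.closure_le]
    rintro _ ⟨i, hi, rfl⟩
    have hi36 : i < 36 := by
      have h : cdom n i = true := hi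
      simp only [cdom, Bool.and_eq_true, decide_eq_true_eq] at h
      exact h.1
    obtain ⟨hlt, hc⟩ := conj_xg X hn hi
    refine ⟨x2 X n i, Subgroup.mem_sup_left (Subgroup.subset_closure ⟨i, ⟨Nat.zero_le _, hi36⟩, rfl⟩),
      ?_, ?_, ?_, ?_⟩
    all_goals simp only [x2, show cdom n i = true from hi, if_true]
    · exact xh_mem X hi36
    · exact mul_mem (evh_mem X hlt) (Subgroup.mem_sup_right (ch_mem X _))
    · rfl
    · rw [Prod.fst_mul, ev_xh, hc]; simp [ch]
  obtain ⟨s, hs, s1, s2, es1, es2⟩ := hQ ha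
  obtain ⟨t, ht, t1, t2, et1, et2⟩ := hQ hb
  have hst : ⁅s, t⁆.1.1 = 1 := by
    show ⁅s.1.1, t.1.1⁆ = 1
    rw [es1, et1, commutatorElement_eq_one_iff_commute]
    exact hab
  have heq := hnormal ⁅s, t⁆ (by
    rw [commutatorElement_def]
    exact mul_mem (mul_mem (mul_mem hs ht) (inv_mem hs)) (inv_mem ht)) hst
  have e1 : ⁅a, b⁆ = ⁅(⟨s.1, s1⟩ : ↥(GU X)), ⟨t.1, t1⟩⁆ := comm_congr X es1.symm et1.symm
  have e2 : ⁅a', b'⁆ = ⁅(⟨s.2, s2⟩ : ↥(GU X)), ⟨t.2, t2⟩⁆ :=
    comm_congr X (ha'.trans es2.symm) (hb'.trans et2.symm)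
  rw [e1, e2]
  exact Subtype.ext heq.symm

end CfsgLib.E6Two
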