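import Cfsg.Agent.Lib.Chev.E6Two.Pc

/-! Tables of the unipotent group of `²E₆(2)` (generated data). -/

set_option autoImplicit false

namespace CfsgLib.E6Two

/-- The roots of the model in the numbering of the packed tables. -/
def rootTab : List ℕ :=
  [56, 36, 42, 37, 39, 46, 57, 38, 43, 40, 47, 58, 41, 44, 50, 48, 59, 45, 61, 49, 51, 62, 52, 53, 60, 64, 54, 63, 67, 55, 65, 68, 66, 69, 70, 71]

/-- The root of the position `r`. -/
def prRoot (r : ℕ) : ℕ := rootTab.getD r 0

/-- The sums of roots, with 36 when the sum is no root. -/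
def sumTab : List (List ℕ) :=
  [[],
   [36],
   [6, 36],
   [36, 7, 36],
   [36, 36, 8, 9],
   [36, 36, 36, 36, 10],
   [36, 36, 36, 36, 11, 36],
   [36, 36, 36, 36, 12, 36, 36],
   [11, 36, 36, 13, 36, 14, 36, 17],
   [36, 12, 13, 36, 36, 15, 16, 36, 36],
   [36, 36, 14, 15, 36, 36, 18, 19, 36, 36],
   [36, 36, 36, 16, 36, 18, 36, 24, 36, 36, 36],
   [36, 36, 17, 36, 36, 19, 24, 36, 36, 36, 36, 36],
   [16, 17, 36, 36, 36, 20, 36, 36, 36, 36, 23, 36, 36],
   [18, 36, 36, 20, 36, 36, 36, 22, 36, 23, 36, 36, 26, 36],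
   [36, 19, 20, 36, 36, 36, 21, 36, 23, 36, 36, 25, 36, 36, 36],
   [36, 24, 36, 36, 36, 21, 36, 36, 36, 36, 25, 36, 36, 36, 28, 36],
   [24, 36, 36, 36, 36, 22, 36, 36, 36, 36, 26, 36, 36, 36, 36, 29, 36],
   [36, 36, 36, 21, 36, 36, 36, 27, 36, 25, 36, 36, 30, 28, 36, 36, 36, 31],
   [36, 36, 22, 36, 36, 36, 27, 36, 26, 36, 36, 30, 36, 29, 36, 36, 32, 36, 36],
   [21, 22, 36, 36, 23, 36, 36, 36, 36, 36, 36, 28, 29, 36, 36, 36, 36, 36, 36, 36],
   [36, 27, 36, 36, 25, 36, 36, 36, 28, 36, 36, 36, 32, 36, 36, 36, 36, 33, 36, 36, 36],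
   [27, 36, 36, 36, 26, 36, 36, 36, 36, 29, 36, 31, 36, 36, 36, 36, 33, 36, 36, 36, 36, 36],
   [25, 26, 36, 36, 36, 36, 28, 29, 36, 36, 36, 36, 36, 36, 36, 36, 36, 36, 36, 36, 36, 36, 36],
   [36, 36, 36, 36, 36, 27, 36, 36, 36, 36, 30, 36, 36, 36, 31, 32, 36, 36, 36, 36, 33, 36, 36, 34],
   [36, 30, 28, 36, 36, 36, 36, 32, 36, 36, 36, 36, 36, 36, 36, 36, 36, 34, 36, 36, 36, 36, 35, 36, 36],
   [30, 36, 36, 29, 36, 36, 31, 36, 36, 36, 36, 36, 36, 36, 36, 36, 34, 36, 36, 36, 36, 35, 36, 36, 36, 36],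
   [36, 36, 36, 36, 30, 36, 36, 36, 31, 32, 36, 36, 36, 33, 36, 36, 36, 36, 36, 36, 36, 36, 36, 35, 36, 36, 36],
   [36, 31, 36, 36, 36, 36, 36, 33, 36, 36, 36, 36, 34, 36, 36, 36, 36, 36, 36, 35, 36, 36, 36, 36, 36, 36, 36, 36],
   [32, 36, 36, 36, 36, 36, 33, 36, 36, 36, 36, 34, 36, 36, 36, 36, 36, 36, 35, 36, 36, 36, 36, 36, 36, 36, 36, 36, 36],
   [36, 36, 31, 32, 36, 36, 36, 36, 36, 36, 36, 36, 36, 34, 36, 36, 36, 36, 36, 36, 35, 36, 36, 36, 36, 36, 36, 36, 36, 36],
   [36, 36, 36, 33, 36, 36, 36, 36, 36, 34, 36, 36, 36, 36, 36, 35, 36, 36, 36, 36, 36, 36, 36, 36, 36, 36, 36, 36, 36, 36, 36],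
   [36, 36, 33, 36, 36, 36, 36, 36, 34, 36, 36, 36, 36, 36, 35, 36, 36, 36, 36, 36, 36, 36, 36, 36, 36, 36, 36, 36, 36, 36, 36, 36],
   [36, 36, 36, 36, 34, 36, 36, 36, 36, 36, 35, 36, 36, 36, 36, 36, 36, 36, 36, 36, 36, 36, 36, 36, 36, 36, 36, 36, 36, 36, 36, 36, 36],
   [36, 36, 36, 36, 36, 35, 36, 36, 36, 36, 36, 36, 36, 36, 36, 36, 36, 36, 36, 36, 36, 36, 36, 36, 36, 36, 36, 36, 36, 36, 36, 36, 36, 36],
   [36, 36, 36, 36, 36, 36, 36, 36, 36, 36, 36, 36, 36, 36, 36, 36, 36, 36, 36, 36, 36, 36, 36, 36, 36, 36, 36, 36, 36, 36, 36, 36, 36, 36, 36]]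

/-- The root `j + r` for `r < j`. -/
def sumIx (j r : ℕ) : ℕ := (sumTab.getD j []).getD r 36

/-- The generators: long root elements and two elements in each short root group. -/
def genTab : List (List (ℕ × ℕ)) :=
  [[(0, 1), (1, 1)],
   [(0, 2), (1, 3)],
   [(2, 1), (3, 1)],
   [(2, 2), (3, 3)],
   [(4, 1)],
   [(5, 1)],
   [(6, 1), (7, 1)],
   [(6, 2), (7, 3)],
   [(8, 1), (9, 1)],
   [(8, 2), (9, 3)],
   [(10, 1)],
   [(11, 1), (12, 1)],
   [(11, 2), (12, 3)],
   [(13, 1)],
   [(14, 1), (15, 1)],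
   [(14, 2), (15, 3)],
   [(16, 1), (17, 1)],
   [(16, 2), (17, 3)],
   [(18, 1), (19, 1)],
   [(18, 2), (19, 3)],
   [(20, 1)],
   [(21, 1), (22, 1)],
   [(21, 2), (22, 3)],
   [(23, 1)],
   [(24, 1)],
   [(25, 1), (26, 1)],
   [(25, 2), (26, 3)],
   [(27, 1)],
   [(28, 1), (29, 1)],
   [(28, 2), (29, 3)],
   [(30, 1)],
   [(31, 1), (32, 1)],
   [(31, 2), (32, 3)],
   [(33, 1)],
   [(34, 1)],
   [(35, 1)]]

/-- The word of a generator. -/
def gw (i : ℕ) : List (ℕ × ℕ) := genTab.getD i []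

/-- The layer of a generator. -/
def genLayer : List ℕ :=
  [0, 0, 1, 1, 2, 3, 4, 4, 5, 5, 6, 7, 7, 8, 9, 9, 10, 10, 11, 11, 12, 13, 13, 14, 15, 16, 16, 17, 18, 18, 19, 20, 20, 21, 22, 23]

/-- The words of the squares and commutators. -/
def relTab : List (List (List ℕ)) :=
  [[[]],
   [[], []],
   [[6], [7], []],
   [[7], [6, 7], [], []],
   [[], [], [8, 13], [9, 13], []],
   [[], [], [], [], [10], []],
   [[], [], [], [], [11, 24], [], []],
   [[], [], [], [], [12, 24], [], [], []],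
   [[11], [12], [], [13], [], [14, 23], [16], [17], []],
   [[12], [11, 12], [13], [], [], [15, 23], [16, 17], [16], [], []],
   [[], [], [14, 20], [15, 20], [], [], [18, 27], [19, 27], [], [], []],
   [[], [], [16], [16, 17], [], [18, 30], [], [24], [], [], [], []],
   [[], [], [17], [16], [], [19, 30], [24], [], [], [], [], [], []],
   [[16, 24], [17, 24], [], [], [], [20], [], [], [], [], [23], [], [], []],
   [[18], [19], [], [20], [], [], [21], [22], [], [23], [], [25], [26], [], []],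
   [[19], [18, 19], [20], [], [], [], [21, 22], [21], [23], [], [], [25, 26], [25], [], [], []],
   [[], [24], [], [], [], [21, 33], [], [], [], [], [25, 34], [], [], [], [28], [29], []],
   [[24], [], [], [], [], [22, 33], [], [], [], [], [26, 34], [], [], [], [29], [28, 29], [], []],
   [[], [], [21], [21, 22], [], [], [], [27], [25], [25, 26], [], [], [30], [28, 35], [], [], [31], [31, 32], []],
   [[], [], [22], [21], [], [], [27], [], [26], [25], [], [30], [], [29, 35], [], [], [32], [31], [], []],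
   [[21, 27], [22, 27], [], [], [23], [], [], [], [], [], [], [28, 34], [29, 34], [], [], [], [], [], [], [], []],
   [[], [27], [], [], [25, 35], [], [], [], [28], [29], [], [31], [32], [], [], [], [], [33], [], [], [], []],
   [[27], [], [], [], [26, 35], [], [], [], [29], [28, 29], [], [31, 32], [31], [], [], [], [33], [], [], [], [], [], []],
   [[25, 30], [26, 30], [], [], [], [], [28, 33], [29, 33], [], [], [], [], [], [], [], [], [], [], [], [], [], [], [], []],
   [[], [], [], [], [], [27], [], [], [], [], [30], [], [], [], [31, 35], [32, 35], [], [], [], [], [33], [], [], [34], []],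
   [[], [30], [28], [29], [], [], [31], [32], [], [], [], [], [], [], [], [], [], [34], [], [], [], [], [35], [], [], []],
   [[30], [], [29], [28, 29], [], [], [31, 32], [31], [], [], [], [], [], [], [], [], [34], [], [], [], [], [35], [], [], [], [], []],
   [[], [], [], [], [30], [], [], [], [31, 34], [32, 34], [], [], [], [33], [], [], [], [], [], [], [], [], [], [35], [], [], [], []],
   [[31], [31, 32], [], [], [], [], [], [33], [], [], [], [], [34], [], [], [], [], [], [], [35], [], [], [], [], [], [], [], [], []],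
   [[32], [31], [], [], [], [], [33], [], [], [], [], [34], [], [], [], [], [], [], [35], [], [], [], [], [], [], [], [], [], [], []],
   [[], [], [31, 33], [32, 33], [], [], [], [], [], [], [], [], [], [34], [], [], [], [], [], [], [35], [], [], [], [], [], [], [], [], [], []],
   [[], [], [], [33], [], [], [], [], [], [34], [], [], [], [], [], [35], [], [], [], [], [], [], [], [], [], [], [], [], [], [], [], []],
   [[], [], [33], [], [], [], [], [], [34], [], [], [], [], [], [35], [], [], [], [], [], [], [], [], [], [], [], [], [], [], [], [], [], []],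
   [[], [], [], [], [34], [], [], [], [], [], [35], [], [], [], [], [], [], [], [], [], [], [], [], [], [], [], [], [], [], [], [], [], [], []],
   [[], [], [], [], [], [35], [], [], [], [], [], [], [], [], [], [], [], [], [], [], [], [], [], [], [], [], [], [], [], [], [], [], [], [], []],
   [[], [], [], [], [], [], [], [], [], [], [], [], [], [], [], [], [], [], [], [], [], [], [], [], [], [], [], [], [], [], [], [], [], [], [], []]]

/-- The presentation. -/
def PU : Pres where
  n := 36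
  rel h g := (relTab.getD h []).getD g []
  idx h g := h * (h + 1) / 2 + g

end CfsgLib.E6Two
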