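import Cfsg.Agent.Lib.Chev.E6Two.ConjData

/-!
The linear equations between central defects, and the check of a propagation through them.
-/

set_option autoImplicit false
set_option linter.unusedSectionVars false

namespace CfsgLib.E6Two

open Pres

/-- The two kinds of equations. -/
inductive Eqn
  | assoc (k j i : ℕ)
  | conj (n h g : ℕ)

/-- The two sides of an equation in the defects. -/
def eqnOf : Eqn → Option (List ℕ × List ℕ)
  | .assoc k j i => do
    if ¬ (k < 36 ∧ j < 36 ∧ i < 36) then none
    else
      let a ← PU.collW [k, j]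
      let b ← PU.collW (a.1 ++ [i])
      let a' ← PU.collW [j, i]
      let b' ← PU.collW (k :: a'.1)
      if b.1 = b'.1 ∧ ((a.1 ++ b.1 ++ a'.1 ++ b'.1).all fun q => decide (q < 36)) then
        some (b.2 ++ a.2, b'.2 ++ a'.2)
      else none
  | .conj n h g => do
    if ¬ (n < 6 ∧ h < 36 ∧ g ≤ h ∧ cdom n h ∧ cdom n g ∧ ((PU.rel h g).all fun q => cdom n q)) then none
    else
      let rw' := (PU.rel h g).flatMap (cimg n)
      let pre := if g = h then [] else cimg n g ++ cimg n h
      let cpre := if g = h then [] else [cix n g, cix n h]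
      let a ← PU.collW (cimg n h ++ cimg n g)
      let b ← PU.collW (pre ++ rw')
      if a.1 = b.1 ∧ ((cimg n h ++ cimg n g ++ pre ++ rw').all fun q => decide (q < 36)) then
        some (a.2 ++ [cix n h, cix n g], b.2 ++ (cpre ++ (PU.rel h g).map (cix n) ++ [PU.idx h g]))
      else none

section Sound

variable {Δ : Type*} [Group Δ] {x c t : ℕ → Δ}

lemma ev_c_comm (H : PU.Holds x c) (d : List ℕ) : ev c d ∈ Subgroup.center Δ :=
  Subgroup.list_prod_mem _ fun a ha => by
    obtain ⟨k, -, rfl⟩ := List.mem_map.1 ha
    exact H.central k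

lemma conj_ev (ht : ∀ n < 6, ∀ i, cdom n i = true → t n * x i * (t n)⁻¹ = ev x (cimg n i) * c (cix n i))
    (H : PU.Holds x c) {n : ℕ} (hn : n < 6) : ∀ w : List ℕ, (∀ i ∈ w, cdom n i = true) →
      t n * ev x w * (t n)⁻¹ = ev x (w.flatMap (cimg n)) * ev c (w.map (cix n))
  | [], _ => by simp
  | i :: w, hw => by
    have ih := conj_ev ht H hn w fun j hj => hw j (List.mem_cons_of_mem _ hj)
    have e : t n * ev x (i :: w) * (t n)⁻¹ = (t n * x i * (t n)⁻¹) * (t n * ev x w * (t n)⁻¹) := by
      simp only [ev_cons]; group
    rw [e, ih, ht n hn i (hw i List.mem_cons_self), List.flatMap_cons, ev_append, List.map_cons,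
      ev_cons]
    rw [mul_assoc, ← mul_assoc (c _), ← comm_c H, mul_assoc (ev x (w.flatMap _)), ← mul_assoc]

/-- The equations hold. -/
theorem eqn_sound (hA : PU.Above) (H : PU.Holds x c)
    (ht : ∀ n < 6, ∀ i, cdom n i = true → t n * x i * (t n)⁻¹ = ev x (cimg n i) * c (cix n i))
    {e : Eqn} {L R : List ℕ} (he : eqnOf e = some (L, R)) : ev c L = ev c R := by
  cases e with
  | assoc k j i =>
    simp only [eqnOf, Option.bind_eq_bind] at he
    split_ifs at he with h1
    simp only [Option.bind_eq_some_iff] at he
    obtain ⟨a, ha, b, hb, a', ha', b', hb', he⟩ := he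
    split_ifs at he with h2
    simp only [Option.some.injEq, Prod.mk.injEq] at he
    obtain ⟨rfl, rfl⟩ := he
    obtain ⟨h2, hall⟩ := h2
    have hn : PU.n = 36 := rfl
    obtain ⟨hk, hj, hi⟩ := h1
    simp only [List.all_eq_true, decide_eq_true_eq, List.mem_append] at hall
    have e1 := collW_sound hA H (w := [k, j]) (by simp [hn, hk, hj]) ha
    have e2 := collW_sound hA H (w := a.1 ++ [i]) (by
      intro q hq
      rcases List.mem_append.1 hq with hq | hq
      · exact hall q (Or.inl (Or.inl (Or.inl hq)))
      · rw [List.mem_singleton.1 hq, hn]; exact hi) hb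
    have e3 := collW_sound hA H (w := [j, i]) (by simp [hn, hj, hi]) ha'
    have e4 := collW_sound hA H (w := k :: a'.1) (by
      intro q hq
      rcases List.mem_cons.1 hq with rfl | hq
      · exact hk
      · exact hall q (Or.inl (Or.inr hq))) hb'
    simp only [ev_cons, ev_nil, ev_append, mul_one] at e1 e2 e3 e4
    have key : ev x b.1 * (ev c b.2 * ev c a.2) = ev x b.1 * (ev c b'.2 * ev c a'.2) := by
      calc ev x b.1 * (ev c b.2 * ev c a.2) = ev x a.1 * x i * ev c a.2 := by
            rw [← mul_assoc, ← e2]
        _ = ev x a.1 * ev c a.2 * x i := by rw [mul_assoc, dprod_central H, ← mul_assoc]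
        _ = x k * (x j * x i) := by rw [← e1, mul_assoc]
        _ = ev x b'.1 * ev c b'.2 * ev c a'.2 := by rw [e3, ← mul_assoc, e4]
        _ = _ := by rw [h2, mul_assoc]
    rw [ev_append, ev_append]
    exact mul_left_cancel key
  | conj n h g =>
    simp only [eqnOf, Option.bind_eq_bind] at he
    split_ifs at he with h1
    all_goals simp only [Option.bind_eq_some_iff] at he
    all_goals obtain ⟨a, ha, b, hb, he⟩ := he
    all_goals split_ifs at he with h2
    all_goals simp only [Option.some.injEq, Prod.mk.injEq] at he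
    all_goals obtain ⟨rfl, rfl⟩ := he
    all_goals obtain ⟨hn6, hh, hg, hdh, hdg, hdr⟩ := h1
    all_goals simp only [List.all_eq_true, List.mem_append] at hdr h2
    all_goals obtain ⟨heq, hall⟩ := h2
    all_goals simp only [decide_eq_true_eq] at hall
    all_goals
      have eL : t n * (x h * x g) * (t n)⁻¹ = ev x a.1 * ev c (a.2 ++ [cix n h, cix n g]) := by
        have := conj_ev ht H hn6 [h, g] (by simp [hdh, hdg])
        simp only [ev_cons, ev_nil, mul_one, List.flatMap_cons, List.flatMap_nil, List.append_nil,
          List.map_cons, List.map_nil] at this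
        rw [this, collW_sound hA H (w := cimg n h ++ cimg n g) (fun q hq => hall q (by
          rcases List.mem_append.1 hq with hq | hq <;> tauto)) ha]
        simp only [ev_append, ev_cons, ev_nil, mul_one, mul_assoc]
    · next hgh =>
      subst hgh
      rw [H.sq g hh] at eL
      have hc : t n * (ev x (PU.rel g g) * c (PU.idx g g)) * (t n)⁻¹ =
          ev x b.1 * ev c (b.2 ++ ([] ++ (PU.rel g g).map (cix n) ++ [PU.idx g g])) := by
        have h3 : t n * (ev x (PU.rel g g) * c (PU.idx g g)) * (t n)⁻¹ =
            t n * ev x (PU.rel g g) * (t n)⁻¹ * c (PU.idx g g) := by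
          rw [mul_assoc (t n * ev x _), comm_c H (PU.idx g g) (t n)⁻¹]; group
        rw [h3, conj_ev ht H hn6 _ hdr, collW_sound hA H (w := (PU.rel g g).flatMap (cimg n))
          (fun q hq => hall q (Or.inr hq)) (by simpa using hb)]
        simp only [List.nil_append, ev_append, ev_cons, ev_nil, mul_one, mul_assoc]
      rw [hc, heq] at eL
      exact (mul_left_cancel eL).symm
    · next hgh =>
      rw [H.swap h hh g (lt_of_le_of_ne hg hgh)] at eL
      have hc : t n * (x g * x h * ev x (PU.rel h g) * c (PU.idx h g)) * (t n)⁻¹ =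
          ev x b.1 * ev c (b.2 ++ ([cix n g, cix n h] ++ (PU.rel h g).map (cix n) ++ [PU.idx h g])) := by
        have h3 : t n * (x g * x h * ev x (PU.rel h g) * c (PU.idx h g)) * (t n)⁻¹ =
            t n * ev x (g :: h :: PU.rel h g) * (t n)⁻¹ * c (PU.idx h g) := by
          simp only [ev_cons]
          rw [← mul_assoc (x g) (x h), mul_assoc _ (t n)⁻¹ (c _), comm_c H (PU.idx h g) (t n)⁻¹]
          group
        rw [h3, conj_ev ht H hn6 _ (by
          intro q hq
          rcases List.mem_cons.1 hq with rfl | hq
          · exact hdg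
          rcases List.mem_cons.1 hq with rfl | hq
          · exact hdh
          · exact hdr q hq)]
        have hw : (g :: h :: PU.rel h g).flatMap (cimg n) =
            cimg n g ++ cimg n h ++ (PU.rel h g).flatMap (cimg n) := by simp
        rw [hw, collW_sound hA H (fun q hq => hall q (by
          simp only [List.mem_append] at hq ⊢; tauto)) hb]
        simp only [List.map_cons, ev_append, ev_cons, ev_nil, mul_one, mul_assoc]
      rw [hc, heq] at eL
      exact (mul_left_cancel eL).symm

end Sound

end CfsgLib.E6Two
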