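import Cfsg.Agent.Lib.Chev.E6Two.Cover

/-!
All fusion in the unipotent group of `²E₆(2)` preserves the commutators of the lifts.
-/

set_option autoImplicit false
set_option maxRecDepth 100000
set_option linter.unusedSectionVars false

open scoped commutatorElement

namespace CfsgLib.E6Two

open Cfsg.Lie CfsgLib.Chev Matrix
open CfsgLib.Chev.E6Root (layersE6 lay0_eqE6)
open Cert (torusHom conj_gen_le Maps_inv posList_set sortedLT_posList mem_posList Maps_mul)

/-- The check of the domains. -/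
noncomputable def chkDoms : Bool :=
  ((List.range 36).all fun i => PU.rel i i == [] && cdom 4 i && cdom 5 i) &&
  (List.range 4).all fun n => (List.range 36).all fun i => cdom n i ||
    ((gw i).all fun p => decide (rword tabE6 (clsW.getD n []) (prRoot p.1) < tabE6.half)) &&
      (List.range 36).all fun q => !cdom n q || (PU.rel (max q i) (min q i)).all (cdom n)

theorem chkDoms_eq : chkDoms = true := by decide +kernel

variable {K : Type*} [Field K] [Fintype K] (X : Ctx4 K)

lemma mem_UG {g : ↥X.E.fix} : g ∈ UG X ↔ (g : GL chevE6.Idx K) ∈ chevE6.posUnipotent K := by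
  rw [UG, lay0_eqE6]
  exact Subgroup.mem_subgroupOf

lemma range_mem (a : ↥(GU X)) : proU X a ∈ UG X := proU_range X ▸ ⟨a, rfl⟩

/-- An element kept positive by a monomial element lies on the roots kept positive. -/
lemma keep_pos {m : GL chevE6.Idx K} {w : List ℕ} (hw : WordOK tabE6 w)
    (hM : ∀ r < tabE6.n, Maps chevE6 m r (rword tabE6 w r)) {x : GL chevE6.Idx K}
    (hx : x ∈ chevE6.posUnipotent K) (hx' : m * x * m⁻¹ ∈ chevE6.posUnipotent K) :
    x ∈ gen chevE6 K (posSet tabE6 ∩ {r | tabE6.half ≤ rword tabE6 w r}) := by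
  rw [certE6.posUnipotent_eq, ← posList_set] at hx
  obtain ⟨a, ha, b, hb, rfl⟩ := certE6.exists_split {r | tabE6.half ≤ rword tabE6 w r}
    (posList tabE6) sortedLT_posList (fun r hr => mem_posList.1 hr)
    (by rw [posList_set]; exact certE6.commClosed_posSet) x hx
  rw [posList_set] at ha hb
  have h1 : m * a * m⁻¹ ∈ chevE6.posUnipotent K := by
    rw [certE6.posUnipotent_eq]
    exact conj_gen_le (S' := posSet tabE6)
      (fun r hr => ⟨_, ⟨hr.2, certE6.rword_lt hw hr.1.2⟩, hM r hr.1.2⟩) ha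
  have h2 : m * b * m⁻¹ ∈ chevE6.negUnipotent K := by
    rw [certE6.negUnipotent_eq]
    exact conj_gen_le (S' := {r | r < tabE6.half})
      (fun r hr => ⟨_, not_le.1 (show ¬ tabE6.half ≤ rword tabE6 w r from hr.2), hM r hr.1.2⟩) hb
  have h3 : m * b * m⁻¹ ∈ chevE6.borelSubgroup K ⊓ chevE6.negUnipotent K := by
    refine Subgroup.mem_inf.2 ⟨Subgroup.mem_sup_left ?_, h2⟩
    have := mul_mem (inv_mem h1) hx'
    rwa [show (m * a * m⁻¹)⁻¹ * (m * (a * b) * m⁻¹) = m * b * m⁻¹ by group] at this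
  rw [certE6.borel_inf_negUnipotent, Subgroup.mem_bot, mul_inv_eq_one, mul_eq_left] at h3
  rwa [h3, mul_one]

lemma dom_conj_mem {n : ℕ} (hn : n < 6) {h : ↥X.E.fix} (hh : h ∈ domG X n) :
    cjE X n * h * (cjE X n)⁻¹ ∈ UG X := by
  have h1 : domG X n ≤ (UG X).comap (MulAut.conj (cjE X n)).toMonoidHom := by
    rw [domG, Subgroup.closure_le]
    rintro _ ⟨i, hi, rfl⟩
    show cjE X n * xg X i * (cjE X n)⁻¹ ∈ UG X
    rw [(conj_xg X hn hi).2]
    exact Subgroup.list_prod_mem _ fun a ha => by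
      obtain ⟨k, -, rfl⟩ := List.mem_map.1 ha
      exact xg_mem X k
  exact h1 hh

/-- An element which stays unipotent lies in the domain. -/
lemma mem_dom {n : ℕ} (hn : n < 6) {u : ↥X.E.fix} (hu : u ∈ UG X)
    (hu' : cjE X n * u * (cjE X n)⁻¹ ∈ UG X) : u ∈ domG X n := by
  have hc := chkDoms_eq
  simp only [chkDoms, Bool.and_eq_true, List.all_eq_true, List.mem_range, Bool.or_eq_true,
    beq_iff_eq, decide_eq_true_eq] at hc
  obtain ⟨hall, hcase⟩ := hc
  obtain ⟨v, -, hv, rfl⟩ := exists_word X hu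
  by_cases h4 : 4 ≤ n
  · refine Subgroup.list_prod_mem _ fun a ha => ?_
    obtain ⟨i, hi, rfl⟩ := List.mem_map.1 ha
    refine Subgroup.subset_closure ⟨i, ?_, rfl⟩
    obtain ⟨⟨-, h1⟩, h2⟩ := hall i (hv i hi)
    show cdom n i = true
    interval_cases n
    exacts [h1, h2]
  have hn4 : n < 4 := by omega
  have hd36 : ∀ q, cdom n q = true → q < 36 := fun q hq => by
    simp only [cdom, Bool.and_eq_true, decide_eq_true_eq] at hq; exact hq.1
  set E0 : Subgroup ↥X.E.fix := Subgroup.closure (xg X '' {i | i < 36 ∧ cdom n i = false})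
  set H := domG X n
  have hev : ∀ w : List ℕ, (∀ q ∈ w, cdom n q = true) → Pres.ev (xg X) w ∈ H := fun w hw =>
    Subgroup.list_prod_mem _ fun a ha => by
      obtain ⟨q, hq, rfl⟩ := List.mem_map.1 ha
      exact Subgroup.subset_closure ⟨q, hw q hq, rfl⟩
  have hnorm : ∀ i < 36, cdom n i = false → ∀ h ∈ H, xg X i * h * (xg X i)⁻¹ ∈ H := by
    intro i hi hdi
    obtain ⟨-, hrel⟩ := (hcase n hn4 i hi).resolve_left (by simp [hdi])
    have hinv : (xg X i)⁻¹ = xg X i := inv_eq_of_mul_eq_one_right (by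
      rw [(holdsU X).sq i hi, (hall i hi).1.1]; simp)
    suffices H ≤ H.comap (MulAut.conj (xg X i)).toMonoidHom from fun h hh => this hh
    refine (Subgroup.closure_le (k := xg X '' {q | cdom n q = true}) _).2 ?_
    rintro _ ⟨q, hq, rfl⟩
    show xg X i * xg X q * (xg X i)⁻¹ ∈ H
    have hqH : xg X q ∈ H := Subgroup.subset_closure ⟨q, hq, rfl⟩
    have hq36 := hd36 q hq
    have hw : ∀ k ∈ PU.rel (max q i) (min q i), cdom n k = true := by
      intro k hk
      rcases (hrel q hq36) with h | h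
      · simp [show cdom n q = true from hq] at h
      · exact h k hk
    rcases lt_trichotomy q i with hlt | rfl | hlt
    · rw [max_eq_right hlt.le, min_eq_left hlt.le] at hw
      have e := (holdsU X).swap i hi q hlt
      rw [mul_one] at e
      set W := Pres.ev (xg X) (PU.rel i q)
      have e1 : (xg X q)⁻¹ * xg X i * xg X q = xg X i * W := by
        rw [mul_assoc, e]; group
      have e2 : (xg X i * W) * (xg X i * W) = 1 := by
        rw [← e1]
        calc (xg X q)⁻¹ * xg X i * xg X q * ((xg X q)⁻¹ * xg X i * xg X q)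
            = (xg X q)⁻¹ * (xg X i * xg X i) * xg X q := by group
          _ = 1 := by rw [(holdsU X).sq i hi, (hall i hi).1.1]; simp
      have e3 : xg X i * W * (xg X i)⁻¹ = W⁻¹ := by
        rw [eq_inv_iff_mul_eq_one, hinv, ← e2]
        simp only [mul_assoc]
      rw [e, show xg X q * xg X i * W * (xg X i)⁻¹ = xg X q * (xg X i * W * (xg X i)⁻¹) by group, e3]
      exact mul_mem hqH (inv_mem (hev _ hw))
    · exact absurd (show cdom n q = true from hq) (by simp [hdi])
    · rw [max_eq_left hlt.le, min_eq_right hlt.le] at hw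
      have e := (holdsU X).swap q hq36 i hlt
      rw [mul_one] at e
      rw [hinv]
      rw [show xg X i * xg X q * xg X i = xg X i * (xg X q * xg X i) by group, e, ← mul_assoc,
        ← mul_assoc, (holdsU X).sq i hi, (hall i hi).1.1]
      simpa using mul_mem hqH (hev _ hw)
  have hnormE : ∀ e ∈ E0, ∀ h ∈ H, e⁻¹ * h * e ∈ H := by
    intro e he
    induction he using Subgroup.closure_induction with
    | mem e he =>
      obtain ⟨i, ⟨hi, hdi⟩, rfl⟩ := he
      intro h hh
      have hinv : (xg X i)⁻¹ = xg X i := inv_eq_of_mul_eq_one_right (by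
        rw [(holdsU X).sq i hi, (hall i hi).1.1]; simp)
      have := hnorm i hi hdi h hh
      rw [hinv] at this ⊢
      exact this
    | one => intro h hh; simpa using hh
    | mul a b _ _ iha ihb =>
      intro h hh
      rw [show (a * b)⁻¹ * h * (a * b) = b⁻¹ * (a⁻¹ * h * a) * b by group]
      exact ihb _ (iha h hh)
    | inv a ha iha =>
      intro h hh
      haveI : Finite ↥X.E.fix := Finite.of_injective Subtype.val Subtype.val_injective
      have hbij : Function.Bijective (fun h : H => (⟨a⁻¹ * h * a, iha h h.2⟩ : H)) :=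
        (Finite.injective_iff_bijective).1 fun p r e => Subtype.ext (by
          simpa using congrArg Subtype.val e)
      obtain ⟨h', e⟩ := hbij.2 ⟨h, hh⟩
      have e' : a⁻¹ * (h' : ↥X.E.fix) * a = h := congrArg Subtype.val e
      rw [← e']
      convert h'.2 using 1
      group
  have hdec : ∀ w : List ℕ, (∀ q ∈ w, q < 36) →
      ∃ e ∈ E0, ∃ h ∈ H, Pres.ev (xg X) w = e * h := by
    intro w hw
    induction w with
    | nil => exact ⟨1, one_mem _, 1, one_mem _, by simp⟩
    | cons i w ih =>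
      obtain ⟨e, he, h, hh, e1⟩ := ih fun q hq => hw q (List.mem_cons_of_mem _ hq)
      cases hd : cdom n i with
      | false =>
        refine ⟨xg X i * e, mul_mem (Subgroup.subset_closure ⟨i, ⟨hw i List.mem_cons_self, hd⟩, rfl⟩) he,
          h, hh, by rw [Pres.ev_cons, e1, mul_assoc]⟩
      | true =>
        refine ⟨e, he, e⁻¹ * xg X i * e * h,
          mul_mem (hnormE e he _ (Subgroup.subset_closure ⟨i, hd, rfl⟩)) hh, ?_⟩
        rw [Pres.ev_cons, e1]; group
  obtain ⟨e, he, h, hh, e1⟩ := hdec v hv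
  rw [e1] at hu' ⊢
  suffices e = 1 by rw [this, one_mul]; exact hh
  have hpos : cjE X n * e * (cjE X n)⁻¹ ∈ UG X := by
    have := mul_mem hu' (inv_mem (dom_conj_mem X hn hh))
    rwa [show cjE X n * (e * h) * (cjE X n)⁻¹ * (cjE X n * h * (cjE X n)⁻¹)⁻¹ =
      cjE X n * e * (cjE X n)⁻¹ by group] at this
  have hneg : ((cjE X n * e * (cjE X n)⁻¹ : ↥X.E.fix) : GL chevE6.Idx K) ∈
      chevE6.negUnipotent K := by
    have h1 : E0 ≤ ((chevE6.negUnipotent K).subgroupOf X.E.fix).comap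
        (MulAut.conj (cjE X n)).toMonoidHom := by
      rw [Subgroup.closure_le]
      rintro _ ⟨i, ⟨hi, hdi⟩, rfl⟩
      obtain ⟨hroots, -⟩ := (hcase n hn4 i hi).resolve_left (by simp [hdi])
      show ((cjE X n * xg X i * (cjE X n)⁻¹ : ↥X.E.fix) : GL chevE6.Idx K) ∈ chevE6.negUnipotent K
      rw [Subgroup.coe_mul, Subgroup.coe_mul, Subgroup.coe_inv, coe_xg X hi]
      have hc : (cjE X n : GL chevE6.Idx K) = nW chevE6 K (clsW.getD n []) := by
        rw [cjE, dif_pos hn4]
      have key : ∀ w : List (ℕ × ℕ), (∀ p ∈ w, p.1 < 36 ∧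
          rword tabE6 (clsW.getD n []) (prRoot p.1) < tabE6.half) →
          (cjE X n : GL chevE6.Idx K) * mev X.o w * (cjE X n : GL chevE6.Idx K)⁻¹ ∈
            chevE6.negUnipotent K := by
        intro w hw
        induction w with
        | nil => simp
        | cons p w ih =>
          rw [mev_cons, show ∀ c a b : GL chevE6.Idx K, c * (a * b) * c⁻¹ =
            (c * a * c⁻¹) * (c * b * c⁻¹) from fun c a b => by group]
          refine mul_mem ?_ (ih fun q hq => hw q (List.mem_cons_of_mem _ hq))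
          obtain ⟨hp, hlt⟩ := hw p List.mem_cons_self
          rw [hc, Xm, nW_conj_X X _ (clsW_ok hn4) (prRoot_lt hp), certE6.negUnipotent_eq]
          exact X_mem_gen _ (show _ ∈ {r | r < tabE6.half} from hlt) _
      exact key _ fun p hp => ⟨((gens_spec hi).2.1 p hp).1.1, hroots p hp⟩
    exact h1 he
  have h3 : ((cjE X n * e * (cjE X n)⁻¹ : ↥X.E.fix) : GL chevE6.Idx K) ∈
      chevE6.borelSubgroup K ⊓ chevE6.negUnipotent K :=
    Subgroup.mem_inf.2 ⟨Subgroup.mem_sup_left ((mem_UG X).1 hpos), hneg⟩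
  rw [certE6.borel_inf_negUnipotent, Subgroup.mem_bot] at h3
  exact mul_eq_left.1 (mul_inv_eq_one.1 (Subtype.ext h3 : cjE X n * e * (cjE X n)⁻¹ = 1))

theorem invAt_cjE {n : ℕ} (hn : n < 6) : InvAt X (cjE X n) := by
  intro a b a' b' hab ha hb
  refine invAt_dom X hn hab (mem_dom X hn (range_mem X a) ?_) (mem_dom X hn (range_mem X b) ?_) ha hb
  · rw [← ha]; exact range_mem X a'
  · rw [← hb]; exact range_mem X b'

/-- Two fusions compose through the unipotent group. -/
lemma InvAt.comp {g₁ g₂ : ↥X.E.fix} (h₁ : InvAt X g₁) (h₂ : InvAt X g₂) {a b a' b' : ↥(GU X)}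
    (hab : proU X a * proU X b = proU X b * proU X a)
    (ha1 : g₁ * proU X a * g₁⁻¹ ∈ UG X) (hb1 : g₁ * proU X b * g₁⁻¹ ∈ UG X)
    (ha : proU X a' = g₂ * g₁ * proU X a * (g₂ * g₁)⁻¹)
    (hb : proU X b' = g₂ * g₁ * proU X b * (g₂ * g₁)⁻¹) : ⁅a', b'⁆ = ⁅a, b⁆ := by
  rw [← proU_range] at ha1 hb1
  obtain ⟨c, hc⟩ := ha1
  obtain ⟨d, hd⟩ := hb1
  have hcd : proU X c * proU X d = proU X d * proU X c := by
    rw [hc, hd]
    calc g₁ * proU X a * g₁⁻¹ * (g₁ * proU X b * g₁⁻¹)
        = g₁ * (proU X a * proU X b) * g₁⁻¹ := by group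
      _ = _ := by rw [hab]; group
  rw [h₂ c d a' b' hcd (by rw [hc, ha]; group) (by rw [hd, hb]; group), h₁ a b c d hab hc hd]

lemma diag_normal {u : ↥X.E.fix} (hu : u ∈ UG X) : cjE X 4 * u * (cjE X 4)⁻¹ ∈ UG X := by
  obtain ⟨v, -, hv, rfl⟩ := exists_word X hu
  have hc := chkDoms_eq
  simp only [chkDoms, Bool.and_eq_true, List.all_eq_true, List.mem_range] at hc
  refine dom_conj_mem X (by omega) (Subgroup.list_prod_mem _ fun a ha => ?_)
  obtain ⟨i, hi, rfl⟩ := List.mem_map.1 ha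
  exact Subgroup.subset_closure ⟨i, (hc.1 i (hv i hi)).1.2, rfl⟩

lemma diag_pow_normal (k : ℕ) {u : ↥X.E.fix} (hu : u ∈ UG X) :
    cjE X 4 ^ k * u * (cjE X 4 ^ k)⁻¹ ∈ UG X := by
  induction k with
  | zero => simpa using hu
  | succ k ih =>
    rw [pow_succ', show cjE X 4 * cjE X 4 ^ k * u * (cjE X 4 * cjE X 4 ^ k)⁻¹ =
      cjE X 4 * (cjE X 4 ^ k * u * (cjE X 4 ^ k)⁻¹) * (cjE X 4)⁻¹ by group]
    exact diag_normal X ih

lemma invAt_pow (k : ℕ) : InvAt X (cjE X 4 ^ k) := by
  induction k with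
  | zero =>
    rw [pow_zero]
    exact invAt_unip X (one_mem _)
  | succ k ih =>
    intro a b a' b' hab ha hb
    rw [pow_succ'] at ha hb
    exact InvAt.comp X ih (invAt_cjE X (by omega)) hab (diag_pow_normal X k (range_mem X a))
      (diag_pow_normal X k (range_mem X b)) ha hb

/-- The torus consists of the powers of one element. -/
lemma dia_eq_pow {d : ↥X.E.fix} (hd : (d : GL chevE6.Idx K) ∈ chevE6.diagonalSubgroup K) :
    ∃ k : ℕ, d = cjE X 4 ^ k := by
  haveI : Finite ↥X.E.fix := Finite.of_injective Subtype.val Subtype.val_injective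
  have h := card_diagE6 X.f X.hf X.hK
  rw [← Nat.card_congr (Subgroup.subgroupOfEquivOfLe (inf_le_left :
    X.E.fix ⊓ chevE6.diagonalSubgroup K ≤ X.E.fix)).toEquiv, Subgroup.inf_subgroupOf_left] at h
  norm_num at h
  have hmem : ((cjE X 4 : ↥X.E.fix) : GL chevE6.Idx K) ∈ chevE6.diagonalSubgroup K := by
    rw [cjE, dif_neg (by omega)]
    exact certE6.range_torusHom.le ⟨_, rfl⟩
  let T : Subgroup ↥X.E.fix := (chevE6.diagonalSubgroup K).subgroupOf X.E.fix
  have hne : (⟨cjE X 4, hmem⟩ : T) ≠ 1 := by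
    intro e
    have e' : cjE X 4 = 1 := congrArg Subtype.val e
    have h0 : cdom 4 0 = true := by decide +kernel
    have h1 := (conj_xg X (show 4 < 6 by omega) h0).2
    rw [e', show cimg 4 0 = [0, 1] by decide +kernel, Pres.ev_cons] at h1
    have h2 : Pres.ev (xg X) [1] = 1 := by simpa using h1
    exact List.cons_ne_nil _ _ (word_inj X (List.pairwise_singleton _ _) (by simp) h2)
  haveI : Fact (Nat.Prime 3) := ⟨Nat.prime_three⟩
  have hT3 : Nat.card T = 3 := by
    show Nat.card ↥((chevE6.diagonalSubgroup K).subgroupOf X.E.fix) = 3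
    omega
  have hz := zpowers_eq_top_of_prime_card (G := T) (p := 3) hT3 hne
  have hd' : (⟨d, hd⟩ : T) ∈ Subgroup.zpowers (⟨cjE X 4, hmem⟩ : T) := hz ▸ Subgroup.mem_top _
  rw [← mem_powers_iff_mem_zpowers] at hd'
  obtain ⟨k, hk⟩ := hd'
  exact ⟨k, (congrArg Subtype.val hk).symm⟩

lemma invAt_diag {d : ↥X.E.fix} (hd : (d : GL chevE6.Idx K) ∈ chevE6.diagonalSubgroup K) :
    InvAt X d := by
  obtain ⟨k, rfl⟩ := dia_eq_pow X hd
  exact invAt_pow X k

/-- The monomial elements. -/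
theorem invAt_mon : ∀ (k : ℕ) (m : ↥X.E.fix) (w : List ℕ), WordOK tabE6 w → X.E.Comm w →
    (m : GL chevE6.Idx K) ∈ chevE6.monomialSubgroup K →
    (∀ r < tabE6.n, Maps chevE6 (m : GL chevE6.Idx K) r (rword tabE6 w r)) →
    tabE6.negCount w = k → InvAt X m := by
  intro k
  induction k using Nat.strong_induction_on with
  | _ k ih =>
    intro m w hw hwc hm hM hk
    have hC := (dataOK_E6 X.f).cls
    by_cases hpos : ∀ i < tabE6.l, tabE6.half ≤ rword tabE6 w (tabE6.simple i)
    · refine invAt_diag X (certE6.mem_diagonal_of_perm hm fun i hi s hs hMs => ?_)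
      have hp := certE6.simple_lt hi
      have := certE6.Maps_unique (lt_trans hs (by decide +kernel : tabE6.half < tabE6.n))
        (certE6.rword_lt hw hp) hMs (hM _ hp)
      have := hpos i hi
      omega
    push Not at hpos
    obtain ⟨i, hi, hneg⟩ := hpos
    obtain ⟨j, hj, hij, hlt⟩ := X.E.descent_step hC hw hwc hi hneg
    have hc' : dataTwE6.CL[j] ∈ dataTwE6.CL := List.getElem_mem hj
    set v := (dataTwE6.CL[j]).word with hvdef
    have hv : WordOK tabE6 v := hC.wordOK X.E hc'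
    have hj4 : j < 4 := hj
    have hjv : clsW.getD j [] = v := by
      have h0 : ∀ t < 4, clsW.getD t [] = (dataTwE6.CL.getD t ⟨[], []⟩).word := by decide +kernel
      rw [hvdef, h0 j hj4, List.getD_eq_getElem _ _ hj]
    have hwv : WordOK tabE6 (w ++ v) := fun a ha => (List.mem_append.1 ha).elim (hw a) (hv a)
    have hnM : ∀ r < tabE6.n, Maps chevE6 (cjE X j : GL chevE6.Idx K) r (rword tabE6 v r) := by
      intro r hr
      rw [cjE, dif_pos hj4, ← hjv]
      exact certE6.Maps_nW (clsW_ok hj4) hr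
    -- the remaining factor
    have hM' : ∀ r < tabE6.n, Maps chevE6 ((m * (cjE X j)⁻¹ : ↥X.E.fix) : GL chevE6.Idx K) r
        (rword tabE6 (w ++ v) r) := by
      intro r hr
      rw [Subgroup.coe_mul, Subgroup.coe_inv, rword_append]
      have h1 := Maps_inv (hnM _ (certE6.rword_lt hv hr))
      rw [hC.invol _ hc' r hr] at h1
      exact Maps_mul h1 (hM _ (certE6.rword_lt hv hr))
    have hmon : ((m * (cjE X j)⁻¹ : ↥X.E.fix) : GL chevE6.Idx K) ∈ chevE6.monomialSubgroup K := by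
      rw [Subgroup.coe_mul, Subgroup.coe_inv, cjE, dif_pos hj4]
      exact mul_mem hm (inv_mem (certE6.nW_mem_monomial (clsW_ok hj4)))
    have hrec := ih _ (hk ▸ hlt) (m * (cjE X j)⁻¹) (w ++ v) hwv
      (Endo.Comm.append X.E (h := certE6) hv hwc (hC.comm _ hc')) hmon hM' rfl
    have hall : ∀ a ∈ (dataTwE6.CL[j]).mem, a < tabE6.l → rword tabE6 w (tabE6.simple a) < tabE6.half := by
      intro a ha _
      obtain ⟨t, ht⟩ := hC.cyc _ hc' i hij a ha
      have hpil : ∀ n, X.E.π^[n] i < tabE6.l := fun n => by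
        induction n with
        | zero => exact hi
        | succ n ih => rw [Function.iterate_succ_apply']; exact X.E.sym.pi_lt _ ih
      have : ∀ n, rword tabE6 w (tabE6.simple (X.E.π^[n] i)) < tabE6.half := fun n => by
        induction n with
        | zero => exact hneg
        | succ n ih =>
          rw [Function.iterate_succ_apply']
          exact (X.E.pos_iff_of_comm hw hwc (hpil n)).2 ih
      exact ht ▸ this t
    have hmid : ∀ a : ↥(GU X), m * proU X a * m⁻¹ ∈ UG X → cjE X j * proU X a * (cjE X j)⁻¹ ∈ UG X := by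
      intro a ha
      have hx := keep_pos hw hM ((mem_UG X).1 (range_mem X a)) (by
        simpa using (mem_UG X).1 ha)
      refine (mem_UG X).2 ?_
      rw [Subgroup.coe_mul, Subgroup.coe_mul, Subgroup.coe_inv, certE6.posUnipotent_eq]
      refine conj_gen_le (S' := posSet tabE6) (fun r hr => ⟨_, ⟨?_, certE6.rword_lt hv hr.1.2⟩,
        hnM r hr.1.2⟩) hx
      by_contra hcon
      exact absurd hr.2 (not_le.2 (Endo.neg_of_class (h := certE6) hw hall hr.1.1 hr.1.2
        (hC.supp _ hc' r hr.1.2 hr.1.1 (not_le.1 hcon))))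
    intro a b a' b' hab ha hb
    refine InvAt.comp X (invAt_cjE X (show j < 6 by omega)) hrec hab (hmid a ?_) (hmid b ?_) ?_ ?_
    · rw [← ha]; exact range_mem X a'
    · rw [← hb]; exact range_mem X b'
    · rw [inv_mul_cancel_right]; exact ha
    · rw [inv_mul_cancel_right]; exact hb

/-- All fusion. -/
theorem invAt_all (g : ↥X.E.fix) : InvAt X g := by
  have hC := (dataOK_E6 X.f).cls
  obtain ⟨w, hw, hwc, m, -, hmf, hmn, hmM, b, hb, u, hu, e⟩ :=
    X.E.bruhat_fix hC (std_fixE6 X.f X.hf X.hK Nat.prime_two.isPrimePow).reps g.2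
  obtain ⟨p, hp, d, hd, rfl⟩ := certE6.mem_borel_iff.1 hb.2
  have hpd : p ∈ X.E.fix ∧ d ∈ X.E.fix := by
    obtain ⟨hgrp, hact⟩ := X.E.mem_fix.1 hb.1
    have hpg := certE6.posUnipotent_le_group hp
    have hdg := certE6.diagonal_le_group hd
    rw [X.E.act_mul hpg hdg] at hact
    have h2 : X.E.act d ∈ chevE6.diagonalSubgroup K := X.E.act_diagonal hd
    have h1 : X.E.act p ∈ chevE6.posUnipotent K := by
      rw [certE6.posUnipotent_eq] at hp ⊢
      refine X.E.act_mem_gen (fun r hr => hr.2) (fun r hr => ?_) hp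
      exact ⟨(X.E.sym.pos r hr.2).2 hr.1, X.E.sym.lt r hr.2⟩
    have e3 : p⁻¹ * X.E.act p = d * (X.E.act d)⁻¹ := by
      rw [eq_mul_inv_iff_mul_eq, mul_assoc, hact, inv_mul_cancel_left]
    have e4 : p⁻¹ * X.E.act p ∈ chevE6.posUnipotent K ⊓ chevE6.diagonalSubgroup K :=
      Subgroup.mem_inf.2 ⟨mul_mem (inv_mem hp) h1, e3 ▸ mul_mem hd (inv_mem h2)⟩
    rw [certE6.posUnipotent_inf_diagonal, Subgroup.mem_bot, inv_mul_eq_one] at e4
    refine ⟨X.E.mem_fix.2 ⟨hpg, e4.symm⟩, X.E.mem_fix.2 ⟨hdg, ?_⟩⟩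
    rw [← e4] at hact
    exact mul_left_cancel hact
  have hue : (⟨u, hu.1⟩ : ↥X.E.fix) ∈ UG X :=
    (mem_UG X).2 (Endo.cellUnipotent_le_pos (h := certE6) hw hmM hu.2)
  have hpe : (⟨p, hpd.1⟩ : ↥X.E.fix) ∈ UG X := (mem_UG X).2 hp
  set P : ↥X.E.fix := ⟨p, hpd.1⟩
  set D : ↥X.E.fix := ⟨d, hpd.2⟩
  set M : ↥X.E.fix := ⟨m, hmf⟩
  set W : ↥X.E.fix := ⟨u, hu.1⟩
  have eg : g = P * (D * (M * W)) := Subtype.ext (by simp [P, D, M, W, e, mul_assoc])
  obtain ⟨k, hk⟩ := dia_eq_pow X (d := D) hd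
  have hconjU : ∀ {g x : ↥X.E.fix}, g ∈ UG X → x ∈ UG X → g * x * g⁻¹ ∈ UG X := fun hg hx =>
    mul_mem (mul_mem hg hx) (inv_mem hg)
  have hinvD : ∀ {x : ↥X.E.fix}, x ∈ UG X → D⁻¹ * x * D ∈ UG X := by
    intro x hx
    obtain ⟨k', hk'⟩ := dia_eq_pow X (d := D⁻¹) (inv_mem hd)
    have := diag_pow_normal X k' hx
    rwa [← hk', inv_inv] at this
  intro a b a' b' hab ha hb
  have hback : ∀ (x y : ↥(GU X)), proU X y = g * proU X x * g⁻¹ →
      (M * W) * proU X x * (M * W)⁻¹ ∈ UG X := by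
    intro x y hy
    have h1 : P⁻¹ * proU X y * P ∈ UG X :=
      mul_mem (mul_mem (inv_mem hpe) (range_mem X y)) hpe
    have h2 := hinvD h1
    rw [hy, eg] at h2
    convert h2 using 1
    group
  have hMW : ∀ c d c' d' : ↥(GU X), proU X c * proU X d = proU X d * proU X c →
      proU X c' = M * W * proU X c * (M * W)⁻¹ → proU X d' = M * W * proU X d * (M * W)⁻¹ →
      ⁅c', d'⁆ = ⁅c, d⁆ := fun c d c' d' hcd hc hd' =>
    InvAt.comp X (invAt_unip X hue) (invAt_mon X _ M w hw hwc hmn hmM rfl) hcd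
      (hconjU hue (range_mem X c)) (hconjU hue (range_mem X d)) hc hd'
  have hPD : InvAt X (P * D) := fun c d c' d' hcd hc hd' => by
    have hdk : ∀ x : ↥(GU X), D * proU X x * D⁻¹ ∈ UG X := fun x => by
      rw [hk]; exact diag_pow_normal X k (range_mem X x)
    exact InvAt.comp X (invAt_diag X (d := D) hd) (invAt_unip X hpe) hcd (hdk c) (hdk d) hc hd'
  rw [eg, ← mul_assoc] at ha hb
  exact InvAt.comp X hMW hPD hab (hback a a' (by rw [eg, ← mul_assoc]; exact ha))
    (hback b b' (by rw [eg, ← mul_assoc]; exact hb)) ha hb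

end CfsgLib.E6Two
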