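import Cfsg.Agent.Lib.Chev.E6Two.Model
import Cfsg.Agent.Lib.Chev.TwistE6Mult

/-!
The generators of the unipotent group of `²E₆(2)` and the uniqueness of their normal words.
-/

set_option autoImplicit false
set_option maxRecDepth 100000
set_option linter.unusedSectionVars false

namespace CfsgLib.E6Two

open Cfsg.Lie CfsgLib.Chev Matrix
open CfsgLib.Chev.E6Root (layersE6 lay_len lay0_eqE6)

variable {K : Type*} [Field K] [Fintype K]

/-- The data: the field of four elements with its Frobenius map and a cube root of unity. -/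
structure Ctx4 (K : Type*) [Field K] [Fintype K] where
  /-- the Frobenius map -/
  f : K →+* K
  hf : ∀ t, f t = t ^ 2
  hK : Fintype.card K = 2 ^ 2
  /-- the root of unity -/
  o : Om K

theorem exists_ctx (hK : Fintype.card K = 4) : Nonempty (Ctx4 K) := by
  classical
  haveI : Fact (Nat.Prime 2) := ⟨Nat.prime_two⟩
  haveI : CharP K 2 := by
    obtain ⟨p, hp⟩ := CharP.exists K
    haveI := hp
    obtain ⟨n, hpr, hcard⟩ := FiniteField.card K p
    have h : p ∣ 4 := by rw [← hK, hcard]; exact dvd_pow_self p n.ne_zero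
    obtain rfl : p = 2 := (Nat.prime_dvd_prime_iff_eq hpr Nat.prime_two).1
      (hpr.dvd_of_dvd_pow (show p ∣ 2 ^ 2 by simpa using h))
    exact hp
  have h2 : (2 : K) = 0 := CharTwo.two_eq_zero
  obtain ⟨w, hw⟩ : ∃ w : K, w ∉ ({0, 1} : Finset K) := by
    by_contra hc
    push Not at hc
    have := Finset.card_le_card (fun x _ => hc x : (Finset.univ : Finset K) ⊆ {0, 1})
    rw [Finset.card_univ, hK] at this
    have h2' : ({0, 1} : Finset K).card ≤ 2 := Finset.card_le_two
    omega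
  simp only [Finset.mem_insert, Finset.mem_singleton, not_or] at hw
  have h4 : w ^ 4 = w := by rw [← hK]; exact FiniteField.pow_card w
  have h5 : w * (w - 1) * (w * w + w + 1) = 0 := by linear_combination h4
  have h6 : w * w + w + 1 = 0 := by
    rcases mul_eq_zero.1 h5 with h | h
    · rcases mul_eq_zero.1 h with h | h
      · exact absurd h hw.1
      · exact absurd (sub_eq_zero.1 h) hw.2
    · exact h
  exact ⟨⟨frobenius K 2, fun t => rfl, by rw [hK]; norm_num, ⟨w, h6, h2⟩⟩⟩

variable (X : Ctx4 K)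

/-- The twist. -/
noncomputable abbrev Ctx4.E : Endo certE6 K := endoE6 X.f

lemma exists_fv (t : K) : ∃ a < 4, fv X.o a = t := by
  classical
  have h : (List.range 4).map (fv X.o) = [0, 1, X.o.w, X.o.w + 1] := by
    simp [List.range_succ]
  have hw0 : X.o.w ≠ 0 := fun e => by have := X.o.eq; simp [e] at this
  have hw1 : X.o.w ≠ 1 := fun e => by
    have := X.o.eq
    rw [e] at this
    exact one_ne_zero (α := K) (by linear_combination this - X.o.two)
  have hs0 : X.o.w + 1 ≠ 0 := fun e => hw1 (by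
    rw [eq_neg_of_add_eq_zero_left e, neg_self X.o])
  have hcard : ({0, 1, X.o.w, X.o.w + 1} : Finset K).card = 4 := by
    rw [Finset.card_insert_of_notMem (by simp [hw0.symm, hs0.symm]),
      Finset.card_insert_of_notMem (by simp [hw1.symm, hw0]),
      Finset.card_insert_of_notMem (by simp), Finset.card_singleton]
  have huniv : ({0, 1, X.o.w, X.o.w + 1} : Finset K) = Finset.univ :=
    Finset.eq_univ_of_card _ (by rw [hcard, X.hK]; norm_num)
  have ht := Finset.mem_univ t
  rw [← huniv] at ht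
  simp only [Finset.mem_insert, Finset.mem_singleton] at ht
  rcases ht with rfl | rfl | rfl | rfl
  · exact ⟨0, by omega, rfl⟩
  · exact ⟨1, by omega, rfl⟩
  · exact ⟨2, by omega, rfl⟩
  · exact ⟨3, by omega, rfl⟩

/-- The first root of a generator. -/
def gRoot (i : ℕ) : ℕ := prRoot ((gw i).getD 0 (0, 0)).1

/-- The check of the generators. -/
noncomputable def chkGens : Bool :=
  (List.range 36).all fun i =>
    decide (genLayer.getD i 0 < 24 ∧ gRoot i = (Endo.orbL dataTwE6.L (genLayer.getD i 0)).root) &&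
    ((gw i).all fun p => decide (p.1 < 36 ∧ p.2 < 4) &&
      (Endo.sfxL twistE6.rt dataTwE6.L (genLayer.getD i 0)).contains (prRoot p.1)) &&
    match gw i with
    | [(a, t)] => decide (t = 1 ∧ prRoot a < tabE6.n ∧ twistE6.rt (prRoot a) = prRoot a ∧
        (twistE6.ep (prRoot a) = 1 ∨ twistE6.ep (prRoot a) = -1) ∧ twistE6.dg (prRoot a) = 1)
    | [(a, t), (b, s)] => decide (fmul t t = s ∧ prRoot b ≠ prRoot a ∧
        prRoot a < tabE6.n ∧ twistE6.rt (prRoot a) = prRoot b ∧
        (twistE6.ep (prRoot a) = 1 ∨ twistE6.ep (prRoot a) = -1) ∧ twistE6.dg (prRoot a) = 1 ∧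
        prRoot b < tabE6.n ∧ twistE6.rt (prRoot b) = prRoot a ∧
        (twistE6.ep (prRoot b) = 1 ∨ twistE6.ep (prRoot b) = -1) ∧ twistE6.dg (prRoot b) = 1 ∧
        chkCommute tabE6 (prRoot a) (prRoot b) = true)
    | _ => false

theorem chkGens_eq : chkGens = true := by decide +kernel

lemma gens_spec {i : ℕ} (hi : i < 36) :
    (genLayer.getD i 0 < 24 ∧ gRoot i = (Endo.orbL dataTwE6.L (genLayer.getD i 0)).root) ∧
    (∀ p ∈ gw i, (p.1 < 36 ∧ p.2 < 4) ∧
      prRoot p.1 ∈ Endo.sfxL twistE6.rt dataTwE6.L (genLayer.getD i 0)) ∧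
    ((∃ a t, gw i = [(a, t)] ∧ t = 1 ∧ (prRoot a < tabE6.n ∧ twistE6.rt (prRoot a) = prRoot a ∧
        (twistE6.ep (prRoot a) = 1 ∨ twistE6.ep (prRoot a) = -1) ∧ twistE6.dg (prRoot a) = 1)) ∨
      ∃ a t b s, gw i = [(a, t), (b, s)] ∧ fmul t t = s ∧ prRoot b ≠ prRoot a ∧
        (prRoot a < tabE6.n ∧ twistE6.rt (prRoot a) = prRoot b ∧
          (twistE6.ep (prRoot a) = 1 ∨ twistE6.ep (prRoot a) = -1) ∧ twistE6.dg (prRoot a) = 1) ∧
        (prRoot b < tabE6.n ∧ twistE6.rt (prRoot b) = prRoot a ∧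
          (twistE6.ep (prRoot b) = 1 ∨ twistE6.ep (prRoot b) = -1) ∧ twistE6.dg (prRoot b) = 1) ∧
        chkCommute tabE6 (prRoot a) (prRoot b) = true) := by
  have h := chkGens_eq
  simp only [chkGens, List.all_eq_true, List.mem_range, Bool.and_eq_true, decide_eq_true_eq,
    List.contains_iff_mem] at h
  obtain ⟨⟨h1, h2⟩, h3⟩ := h i hi
  refine ⟨h1, h2, ?_⟩
  split at h3
  · next a t e =>
    simp only [decide_eq_true_eq] at h3
    exact Or.inl ⟨a, t, e, h3.1, h3.2⟩
  · next a t b s e =>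
    simp only [decide_eq_true_eq] at h3
    exact Or.inr ⟨a, t, b, s, e, h3.1, h3.2.1,
      ⟨h3.2.2.1, h3.2.2.2.1, h3.2.2.2.2.1, h3.2.2.2.2.2.1⟩,
      ⟨h3.2.2.2.2.2.2.1, h3.2.2.2.2.2.2.2.1, h3.2.2.2.2.2.2.2.2.1, h3.2.2.2.2.2.2.2.2.2.1⟩,
      h3.2.2.2.2.2.2.2.2.2.2⟩
  · exact absurd h3 Bool.false_ne_true

lemma τ_two {r : ℕ} (hr : (twistE6.ep r = 1 ∨ twistE6.ep r = -1) ∧ twistE6.dg r = 1) (t : K) :
    X.E.τ r t = t ^ 2 := by
  show (twistE6.ep r : K) * X.f t ^ twistE6.dg r = _
  rw [hr.2, X.hf, pow_one]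
  rcases hr.1 with e | e <;> rw [e] <;> simp [neg_self X.o]

lemma single_fix {r : ℕ} (hr : r < tabE6.n ∧ twistE6.rt r = r ∧
    (twistE6.ep r = 1 ∨ twistE6.ep r = -1) ∧ twistE6.dg r = 1) {t : K} (ht : t ^ 2 = t) :
    CfsgLib.Chev.X chevE6 r t ∈ X.E.fix := by
  refine X.E.mem_fix.2 ⟨certE6.X_mem_group hr.1 t, ?_⟩
  rw [X.E.act_X hr.1, τ_two X hr.2.2, ht]
  exact congrArg (fun x => CfsgLib.Chev.X chevE6 x t) hr.2.1

lemma pair_fix {r s : ℕ} (hr : r < tabE6.n ∧ twistE6.rt r = s ∧
    (twistE6.ep r = 1 ∨ twistE6.ep r = -1) ∧ twistE6.dg r = 1)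
    (hs : s < tabE6.n ∧ twistE6.rt s = r ∧
      (twistE6.ep s = 1 ∨ twistE6.ep s = -1) ∧ twistE6.dg s = 1)
    (hc : chkCommute tabE6 r s = true) (t : K) :
    CfsgLib.Chev.X chevE6 r t * CfsgLib.Chev.X chevE6 s (t ^ 2) ∈ X.E.fix := by
  refine X.E.mem_fix.2 ⟨mul_mem (certE6.X_mem_group hr.1 t) (certE6.X_mem_group hs.1 _), ?_⟩
  rw [X.E.act_mul (certE6.X_mem_group hr.1 t) (certE6.X_mem_group hs.1 _),
    X.E.act_X hr.1, X.E.act_X hs.1, τ_two X hr.2.2, τ_two X hs.2.2, ← pow_mul,
    show 2 * 2 = Fintype.card K by rw [X.hK]; norm_num, FiniteField.pow_card]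
  show CfsgLib.Chev.X chevE6 (twistE6.rt r) _ * CfsgLib.Chev.X chevE6 (twistE6.rt s) _ = _
  rw [hr.2.1, hs.2.1]
  exact (certE6.commute_X hc t _).eq.symm

lemma gw_fix {i : ℕ} (hi : i < 36) : mev X.o (gw i) ∈ X.E.fix := by
  obtain ⟨-, hlt, h⟩ := gens_spec hi
  rcases h with ⟨a, t, e, rfl, ha⟩ | ⟨a, t, b, s, e, rfl, -, ha, hb, hc⟩
  · rw [e, mev_cons, mev_nil, mul_one, Xm]
    exact single_fix X ha (by simp)
  · have ht : t < 4 := (hlt _ (by rw [e]; exact List.mem_cons_self)).1.2
    rw [e, mev_cons, mev_cons, mev_nil, mul_one, Xm, Xm, fv_mul X.o ht ht, ← sq]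
    exact pair_fix X ha hb hc _

/-- The generators. -/
noncomputable def xg (i : ℕ) : ↥X.E.fix :=
  if h : i < 36 then ⟨_, gw_fix X h⟩ else 1

lemma coe_xg {i : ℕ} (hi : i < 36) : (xg X i : GL chevE6.Idx K) = mev X.o (gw i) := by
  rw [xg, dif_pos hi]

lemma coe_ev (w : List ℕ) (hw : ∀ i ∈ w, i < 36) :
    ((Pres.ev (xg X) w : ↥X.E.fix) : GL chevE6.Idx K) = mev X.o (w.flatMap gw) := by
  induction w with
  | nil => simp
  | cons a w ih =>
    rw [Pres.ev_cons, Subgroup.coe_mul, coe_xg X (hw a List.mem_cons_self),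
      ih fun i hi => hw i (List.mem_cons_of_mem _ hi), List.flatMap_cons, mev_append]

/-- The check of the relations. -/
def chkRels : Bool :=
  (List.range 36).all fun h => (List.range (h + 1)).all fun g =>
    sameNF (gw h ++ gw g)
      ((if g = h then [] else gw g ++ gw h) ++ (PU.rel h g).flatMap gw)

theorem chkRels_eq : chkRels = true := by decide +kernel

theorem aboveU : PU.Above := Pres.above_of_chk PU (by decide +kernel)

theorem holdsU : PU.Holds (xg X) (fun _ => 1) := by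
  have h := chkRels_eq
  simp only [chkRels, List.all_eq_true, List.mem_range] at h
  have key : ∀ hh < 36, ∀ g ≤ hh, xg X hh * xg X g =
      (if g = hh then 1 else xg X g * xg X hh) * Pres.ev (xg X) (PU.rel hh g) := by
    intro hh hhl g hg
    refine Subtype.ext ?_
    have e := sameNF_sound X.o (h hh hhl g (by omega))
    rw [Subgroup.coe_mul, Subgroup.coe_mul, coe_xg X hhl, coe_xg X (by omega),
      coe_ev X _ fun i hi => (aboveU hh hhl g hg i hi).2]
    rw [mev_append, mev_append] at e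
    rw [e]
    congr 1
    split_ifs with hc
    · simp
    · rw [mev_append, Subgroup.coe_mul, coe_xg X hhl, coe_xg X (by omega)]
  refine ⟨fun g hg => ?_, fun hh hhl g hg => ?_, fun _ => one_mem _⟩
  · rw [mul_one, key g hg g le_rfl, if_pos rfl, one_mul]
  · rw [mul_one, key hh hhl g hg.le, if_neg (by omega)]

/-- The unipotent group. -/
noncomputable abbrev UG : Subgroup ↥X.E.fix := X.E.lay dataTwE6.L 0

lemma xg_lay {i : ℕ} (hi : i < 36) :
    xg X i ∈ X.E.lay dataTwE6.L (genLayer.getD i 0) := by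
  rw [Endo.mem_lay, coe_xg X hi]
  refine Subgroup.list_prod_mem _ fun x hx => ?_
  obtain ⟨p, hp, rfl⟩ := List.mem_map.1 hx
  exact X_mem_gen _ (show prRoot p.1 ∈ {r | r ∈ Endo.sfxL X.E.ρ dataTwE6.L (genLayer.getD i 0)}
    from ((gens_spec hi).2.1 p hp).2) _

lemma xg_mem (i : ℕ) : xg X i ∈ UG X := by
  by_cases hi : i < 36
  · exact X.E.lay_anti _ (Nat.zero_le _) (xg_lay X hi)
  · rw [xg, dif_neg hi]; exact one_mem _

lemma crd_xg {i : ℕ} (hi : i < 36) :
    X.E.crd dataTwE6.L (genLayer.getD i 0) (xg X i) = fv X.o ((gw i).getD 0 (0, 0)).2 := by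
  obtain ⟨⟨hk, hroot⟩, hmem, h⟩ := gens_spec hi
  have hlen : genLayer.getD i 0 < dataTwE6.L.length := by rw [lay_len]; exact hk
  refine X.E.crd_eq (layersE6 X.f) hlen ?_
  show Endo.InC _ _ _ ((xg X i : ↥X.E.fix) : GL chevE6.Idx K) _
  rw [coe_xg X hi]
  have h1 := Endo.inC_word (h := certE6) (X.E.free_root (layersE6 X.f) hlen)
    ((gw i).map fun p => (prRoot p.1, fv X.o p.2)) (fun p hp => by
      obtain ⟨q, hq, rfl⟩ := List.mem_map.1 hp
      exact (hmem q hq).2)
  rw [← hroot] at h1 ⊢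
  rcases h with ⟨a, t, e, -, -⟩ | ⟨a, t, b, s, e, -, hne, -⟩
  · simpa [mev, e, gRoot, Xm] using h1
  · simpa [mev, e, gRoot, Xm, hne] using h1

/-- The check of the layers. -/
noncomputable def chkLayWords : Bool :=
  (List.range 24).all fun k => (List.range 4).all fun a =>
    (decide ((Endo.orbL dataTwE6.L k).size = 1) &&
      decide ((twistE6.ep (Endo.orbL dataTwE6.L k).root = 1 ∨
        twistE6.ep (Endo.orbL dataTwE6.L k).root = -1) ∧
        twistE6.dg (Endo.orbL dataTwE6.L k).root = 1) && decide (2 ≤ a)) ||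
    ([[], [0], [1], [0, 1]] : List (List ℕ)).any fun m =>
      let w := m.map fun j => ((List.range 36).filter fun i => genLayer.getD i 0 == k).getD j 99
      (w.all fun i => decide (i < 36 ∧ genLayer.getD i 0 = k)) &&
        decide ((w.map fun i => ((gw i).getD 0 (0, 0)).2).foldr fadd 0 = a)

theorem chkLayWords_eq : chkLayWords = true := by decide +kernel

lemma crd_ev {k : ℕ} (hk : k < 24) : ∀ w : List ℕ, (∀ i ∈ w, i < 36 ∧ genLayer.getD i 0 = k) →
    Pres.ev (xg X) w ∈ X.E.lay dataTwE6.L k ∧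
      (w.map fun i => ((gw i).getD 0 (0, 0)).2).foldr fadd 0 < 4 ∧
      X.E.crd dataTwE6.L k (Pres.ev (xg X) w) =
        fv X.o ((w.map fun i => ((gw i).getD 0 (0, 0)).2).foldr fadd 0)
  | [], _ => by
    have hlen : k < dataTwE6.L.length := by rw [lay_len]; exact hk
    exact ⟨one_mem _, by simp, by simp [X.E.crd_one (layersE6 X.f) hlen]⟩
  | i :: w, hw => by
    have hlen : k < dataTwE6.L.length := by rw [lay_len]; exact hk
    obtain ⟨hi, rfl⟩ := hw i List.mem_cons_self
    obtain ⟨h1, h2, h3⟩ := crd_ev hk w fun j hj => hw j (List.mem_cons_of_mem _ hj)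
    have h0 : ((gw i).getD 0 (0, 0)).2 < 4 := by
      obtain ⟨-, hlt, h⟩ := gens_spec hi
      rcases h with ⟨a, t, e, -⟩ | ⟨a, t, b, s, e, -⟩ <;>
        · rw [e]; exact (hlt _ (by rw [e]; exact List.mem_cons_self)).1.2
    have hf := fmul_lt
    simp only [List.all_eq_true, List.mem_range, decide_eq_true_eq] at hf
    refine ⟨mul_mem (xg_lay X hi) h1, (hf _ h0 _ h2).2, ?_⟩
    rw [Pres.ev_cons, X.E.crd_mul (layersE6 X.f) hlen (xg_lay X hi) h1, crd_xg X hi, h3,
      List.map_cons, List.foldr_cons, fv_add X.o h0 h2]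

/-- The generators generate the unipotent group. -/
theorem closure_gens : UG X ≤ Subgroup.closure (xg X '' {j | j < 36}) := by
  suffices ∀ n k, k + n = 24 → X.E.lay dataTwE6.L k ≤ Subgroup.closure (xg X '' {j | j < 36}) from
    this 24 0 rfl
  intro n
  induction n with
  | zero =>
    intro k hk
    rw [X.E.lay_of_length_le dataTwE6.L (by rw [lay_len]; omega)]
    exact bot_le
  | succ n ih =>
    intro k hk g hg
    have hk' : k < 24 := by omega
    have hlen : k < dataTwE6.L.length := by rw [lay_len]; exact hk'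
    obtain ⟨a, ha, hat⟩ := exists_fv X (X.E.crd dataTwE6.L k g)
    have hc := chkLayWords_eq
    simp only [chkLayWords, List.all_eq_true, List.any_eq_true, List.mem_range, Bool.or_eq_true,
      Bool.and_eq_true, decide_eq_true_eq] at hc
    rcases hc k hk' a ha with ⟨⟨h1, hep⟩, ha2⟩ | ⟨m, -, hm, hma⟩
    · exfalso
      have hadm := X.E.crd_adm (layersE6 X.f) hlen hg
      rw [Endo.Adm, Set.mem_ofPred_eq, h1, ← hat] at hadm
      have key : ∀ t : K, X.E.τn 1 (Endo.orbL dataTwE6.L k).root t = t ^ 2 :=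
        fun t => τ_two X hep t
      rw [key] at hadm
      have h0 : fv X.o a * (fv X.o a - 1) = 0 := by linear_combination hadm
      have e := X.o.eq
      rcases mul_eq_zero.1 h0 with h | h
      all_goals interval_cases a
      all_goals simp only [fv_two, fv_three] at h
      · simp [h] at e
      · rw [eq_neg_of_add_eq_zero_left h, neg_self X.o] at e
        exact one_ne_zero (α := K) (by linear_combination e - X.o.two)
      · rw [sub_eq_zero.1 h] at e
        exact one_ne_zero (α := K) (by linear_combination e - X.o.two)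
      · have h' : X.o.w = 0 := by linear_combination h
        simp [h'] at e
    · obtain ⟨h1, -, h3⟩ := crd_ev X hk' _ hm
      rw [hma, hat] at h3
      have hnext := X.E.crd_congr (layersE6 X.f) hlen h1 hg h3
      have hev : ∀ w : List ℕ, (∀ i ∈ w, i < 36) →
          Pres.ev (xg X) w ∈ Subgroup.closure (xg X '' {j | j < 36}) := by
        intro w hw
        refine Subgroup.list_prod_mem _ fun x hx => ?_
        obtain ⟨i, hi, rfl⟩ := List.mem_map.1 hx
        exact Subgroup.subset_closure ⟨i, hw i hi, rfl⟩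
      have := mul_mem (hev _ fun i hi => (hm i hi).1) (ih (k + 1) (by omega) hnext)
      rwa [mul_inv_cancel_left] at this

theorem card_UG : Nat.card ↥(UG X) = 2 ^ 36 := by
  rw [UG, lay0_eqE6, Endo.posG, ← Subgroup.inf_subgroupOf_left,
    Nat.card_congr (Subgroup.subgroupOfEquivOfLe inf_le_left).toEquiv,
    card_posE6 X.f X.hf X.hK Nat.prime_two.isPrimePow]

/-- Every element of the unipotent group is a normal word. -/
theorem exists_word {g : ↥X.E.fix} (hg : g ∈ UG X) :
    ∃ v : List ℕ, v.Pairwise (· < ·) ∧ (∀ a ∈ v, a < 36) ∧ g = Pres.ev (xg X) v := by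
  obtain ⟨v, hv, hvi, z, hz, e⟩ := Pres.exists_normal aboveU (holdsU X) ⊥ bot_le
    (fun _ _ _ _ => rfl) 0 g (Subgroup.mem_sup_left (by
      simpa [show PU.n = 36 from rfl] using closure_gens X hg))
  rw [Subgroup.mem_bot.1 hz, mul_one] at e
  exact ⟨v, hv, fun a ha => (hvi a ha).2, e⟩

/-- Normal words are unique. -/
theorem word_inj {v : List ℕ} (hv : v.Pairwise (· < ·)) (hlt : ∀ a ∈ v, a < 36)
    (h1 : Pres.ev (xg X) v = 1) : v = [] := by
  classical
  have hev : ∀ w : List ℕ, Pres.ev (xg X) w ∈ UG X := fun w =>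
    Subgroup.list_prod_mem _ fun x hx => by
      obtain ⟨i, -, rfl⟩ := List.mem_map.1 hx
      exact xg_mem X i
  let lst : (Fin 36 → Bool) → List ℕ := fun b =>
    (List.range 36).filter fun i => if h : i < 36 then b ⟨i, h⟩ else false
  let φ : (Fin 36 → Bool) → ↥(UG X) := fun b => ⟨Pres.ev (xg X) (lst b), hev _⟩
  have hsorted : ∀ {w : List ℕ}, w.Pairwise (· < ·) → (∀ a ∈ w, a < 36) →
      lst (fun i => decide ((i : ℕ) ∈ w)) = w := by
    intro w hw hwl
    refine List.Perm.eq_of_pairwise (le := (· < ·)) (fun a b _ _ h h' => absurd h' (lt_asymm h))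
      ((List.pairwise_lt_range (n := 36)).filter _) hw ?_
    refine (List.perm_ext_iff_of_nodup ((List.nodup_range (n := 36)).filter _)
      (hw.imp fun h => ne_of_lt h)).2 fun a => ?_
    constructor
    · intro h
      obtain ⟨ha, hb⟩ := List.mem_filter.1 h
      rw [dif_pos (List.mem_range.1 ha)] at hb
      exact of_decide_eq_true hb
    · intro h
      exact List.mem_filter.2 ⟨List.mem_range.2 (hwl a h), by rw [dif_pos (hwl a h)]; simp [h]⟩
  have hsurj : Function.Surjective φ := by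
    rintro ⟨g, hg⟩
    obtain ⟨w, hw, hwl, e⟩ := exists_word X hg
    exact ⟨fun i => decide ((i : ℕ) ∈ w), Subtype.ext (by
      show Pres.ev (xg X) _ = g
      rw [hsorted hw hwl, e])⟩
  haveI : Finite ↥(UG X) := Finite.of_surjective φ hsurj
  have hbij : Function.Bijective φ := Function.Surjective.bijective_of_nat_card_le hsurj (by
    rw [card_UG X, Nat.card_eq_fintype_card, Fintype.card_fun, Fintype.card_bool, Fintype.card_fin])
  have heq : φ (fun i => decide ((i : ℕ) ∈ v)) = φ (fun i => decide ((i : ℕ) ∈ ([] : List ℕ))) :=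
    Subtype.ext (by
      show Pres.ev (xg X) _ = Pres.ev (xg X) _
      rw [hsorted hv hlt, hsorted List.Pairwise.nil (by simp), h1, Pres.ev_nil])
  have hinj : Function.Injective φ := hbij.injective
  have := hinj (a₁ := fun i => decide ((i : ℕ) ∈ v)) (a₂ := fun i => decide ((i : ℕ) ∈ ([] : List ℕ))) heq
  refine List.eq_nil_iff_forall_not_mem.2 fun a ha => ?_
  have h2 := congrFun this ⟨a, hlt a ha⟩
  simp [ha] at h2

end CfsgLib.E6Two
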