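import Cfsg.Agent.Lib.Chev.E6Two.Data
import Cfsg.Agent.Lib.Chev.TwistE6

/-!
Symbolic collection in the unipotent group of `E₆(4)`, with the field modelled on `0, 1, 2, 3`.
-/

set_option autoImplicit false
set_option linter.unusedSectionVars false

namespace CfsgLib.E6Two

open Cfsg.Lie CfsgLib.Chev

/-- Addition of the field with four elements. -/
def fadd (a b : ℕ) : ℕ :=
  (([[0, 1, 2, 3], [1, 0, 3, 2], [2, 3, 0, 1], [3, 2, 1, 0]] : List (List ℕ)).getD a []).getD b 0

/-- Multiplication of the field with four elements. -/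
def fmul (a b : ℕ) : ℕ :=
  (([[0, 0, 0, 0], [0, 1, 2, 3], [0, 2, 3, 1], [0, 3, 1, 2]] : List (List ℕ)).getD a []).getD b 0

/-- One term of the commutator of two root elements. -/
def corr (j r u t : ℕ) : List (ℕ × ℕ) :=
  if sumIx j r < 36 then [(sumIx j r, fmul u t)] else []

/-- Collection of root elements. -/
def mcoll : ℕ → List (ℕ × ℕ) → List (ℕ × ℕ) → Option (List (ℕ × ℕ))
  | 0, _, _ => none
  | _ + 1, [], v => some v.reverse
  | k + 1, (r, t) :: st, [] =>
    if r < 36 ∧ t < 4 then (if t = 0 then mcoll k st [] else mcoll k st [(r, t)]) else none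
  | k + 1, (r, t) :: st, (j, u) :: v =>
    if r < 36 ∧ t < 4 then
      if t = 0 then mcoll k st ((j, u) :: v)
      else if j < r then mcoll k st ((r, t) :: (j, u) :: v)
      else if j = r then mcoll k ((r, fadd u t) :: st) v
      else mcoll k ((r, t) :: (j, u) :: corr j r u t ++ st) v
    else none

/-- Collection of a word. -/
def mnf (w : List (ℕ × ℕ)) : Option (List (ℕ × ℕ)) := mcoll 600 w []

/-- Two words with the same collected form. -/
def sameNF (a b : List (ℕ × ℕ)) : Bool :=
  match mnf a, mnf b with
  | some x, some y => x == y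
  | _, _ => false

/-- A cube root of unity. -/
structure Om (K : Type*) [Field K] where
  /-- the root -/
  w : K
  eq : w * w + w + 1 = 0
  two : (2 : K) = 0

variable {K : Type*} [Field K]

/-- The field element of a code. -/
def fv (o : Om K) (a : ℕ) : K :=
  if a = 0 then 0 else if a = 1 then 1 else if a = 2 then o.w else o.w + 1

variable (o : Om K)

@[simp] lemma fv_zero : fv o 0 = 0 := rfl
@[simp] lemma fv_one : fv o 1 = 1 := rfl
@[simp] lemma fv_two : fv o 2 = o.w := rfl
@[simp] lemma fv_three : fv o 3 = o.w + 1 := rfl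

lemma fv_add {a b : ℕ} (ha : a < 4) (hb : b < 4) : fv o (fadd a b) = fv o a + fv o b := by
  interval_cases a <;> interval_cases b <;>
    simp only [fadd, List.getD_cons_zero, List.getD_cons_succ, fv_zero, fv_one, fv_two, fv_three] <;>
    first
      | ring1
      | linear_combination o.two
      | linear_combination -o.two
      | linear_combination o.w * o.two
      | linear_combination -o.w * o.two
      | linear_combination (o.w + 1) * o.two
      | linear_combination -(o.w + 1) * o.two

lemma fv_mul {a b : ℕ} (ha : a < 4) (hb : b < 4) : fv o (fmul a b) = fv o a * fv o b := by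
  interval_cases a <;> interval_cases b <;>
    simp only [fmul, List.getD_cons_zero, List.getD_cons_succ, fv_zero, fv_one, fv_two, fv_three] <;>
    first
      | ring1
      | linear_combination o.eq - (o.w + 1) * o.two
      | linear_combination -o.eq + (o.w + 1) * o.two
      | linear_combination o.eq
      | linear_combination -o.eq
      | linear_combination o.eq - o.two
      | linear_combination -o.eq + o.two
      | linear_combination o.eq - o.w * o.two
      | linear_combination -o.eq + o.w * o.two

theorem fmul_lt : ((List.range 4).all fun a => (List.range 4).all fun b =>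
    decide (fmul a b < 4 ∧ fadd a b < 4)) = true := by decide +kernel

/-- The check of the tables of roots. -/
noncomputable def chkSums : Bool :=
  ((List.range 36).all fun r => decide (prRoot r < tabE6.n)) &&
  (List.range 36).all fun j => (List.range j).all fun r =>
    decide (prRoot j ≠ prRoot r ∧ prRoot j ≠ tabE6.neg (prRoot r)) &&
      (if sumIx j r < 36 then
        decide ((tabE6.commTerms (prRoot r) (prRoot j)).length = 1) &&
          (tabE6.commTerms (prRoot r) (prRoot j)).all fun q =>
            decide (q.1 = prRoot (sumIx j r) ∧ (q.2.1 = 1 ∨ q.2.1 = -1) ∧ q.2.2 = (1, 1))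
      else (tabE6.commTerms (prRoot r) (prRoot j)).isEmpty)

theorem chkSums_eq : chkSums = true := by decide +kernel

lemma prRoot_lt {r : ℕ} (hr : r < 36) : prRoot r < tabE6.n := by
  have h := chkSums_eq
  simp only [chkSums, Bool.and_eq_true, List.all_eq_true, List.mem_range, decide_eq_true_eq] at h
  exact h.1 r hr

/-- The root element at a position. -/
noncomputable def Xm (r a : ℕ) : GL chevE6.Idx K := X chevE6 (prRoot r) (fv o a)

/-- The value of a word of root elements. -/
noncomputable def mev (w : List (ℕ × ℕ)) : GL chevE6.Idx K := (w.map fun p => Xm o p.1 p.2).prod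

@[simp] lemma mev_nil : mev o [] = 1 := rfl
@[simp] lemma mev_cons (p : ℕ × ℕ) (w : List (ℕ × ℕ)) :
    mev o (p :: w) = Xm o p.1 p.2 * mev o w := by simp [mev]
@[simp] lemma mev_append (v w : List (ℕ × ℕ)) : mev o (v ++ w) = mev o v * mev o w := by simp [mev]

lemma Xm_zero {r : ℕ} (hr : r < 36) : Xm o r 0 = 1 := by
  rw [Xm, fv_zero, certE6.X_zero (prRoot_lt hr)]

lemma Xm_add {r : ℕ} (hr : r < 36) {a b : ℕ} (ha : a < 4) (hb : b < 4) :
    Xm o r a * Xm o r b = Xm o r (fadd a b) := by
  rw [Xm, Xm, Xm, certE6.X_add (prRoot_lt hr), fv_add o ha hb]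

include o in
lemma neg_self (a : K) : -a = a := by linear_combination (-a) * o.two

lemma Xm_swap {j r u t : ℕ} (hj : j < 36) (hr : r < j) (hu : u < 4) (ht : t < 4) :
    Xm o j u * Xm o r t = Xm o r t * (Xm o j u * mev o (corr j r u t)) := by
  have h := chkSums_eq
  simp only [chkSums, Bool.and_eq_true, List.all_eq_true, List.mem_range, decide_eq_true_eq] at h
  obtain ⟨⟨hne, hneg⟩, hterm⟩ := h.2 j hj r hr
  have e := certE6.X_conj (F := K) (prRoot_lt (hr.trans hj)) (prRoot_lt hj) hne hneg (fv o t) (fv o u)
  rw [← certE6.X_inv (prRoot_lt (hr.trans hj)), mul_assoc, inv_mul_eq_iff_eq_mul] at e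
  have e' : Xm o j u * Xm o r t = Xm o r t * (Xm o j u *
      ((tabE6.commTerms (prRoot r) (prRoot j)).map fun c => X chevE6 c.1
        ((c.2.1 : K) * (-fv o t) ^ c.2.2.1 * fv o u ^ c.2.2.2)).prod) := e
  rw [e']
  congr 2
  by_cases hs : sumIx j r < 36
  · rw [if_pos hs] at hterm
    simp only [Bool.and_eq_true, List.all_eq_true, decide_eq_true_eq] at hterm
    obtain ⟨hlen, hall⟩ := hterm
    obtain ⟨q, hq⟩ := List.length_eq_one_iff.1 hlen
    obtain ⟨h1, h2, h3⟩ := hall q (by rw [hq]; exact List.mem_singleton_self q)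
    rw [hq, corr, if_pos hs, List.map_singleton, List.prod_singleton, mev_cons, mev_nil, mul_one,
      Xm, h1, h3]
    congr 1
    rw [fv_mul o hu ht]
    rcases h2 with h2 | h2 <;> rw [h2] <;>
      simp only [pow_one, Int.cast_one, Int.cast_neg, neg_self o] <;> ring
  · rw [if_neg hs, List.isEmpty_iff] at hterm
    rw [hterm, corr, if_neg hs]
    simp

/-- Collection preserves the value. -/
theorem mcoll_sound : ∀ (k : ℕ) (st v : List (ℕ × ℕ)) {r : List (ℕ × ℕ)},
    (∀ p ∈ v, p.1 < 36 ∧ p.2 < 4) → mcoll k st v = some r →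
    mev o v.reverse * mev o st = mev o r
  | 0, st, v, r, _, e => by simp [mcoll] at e
  | k + 1, [], v, r, _, e => by
    simp only [mcoll, Option.some.injEq] at e
    subst e; simp
  | k + 1, (a, t) :: st, [], r, hv, e => by
    simp only [mcoll] at e
    split_ifs at e with h1 h2
    · subst h2
      rw [← mcoll_sound k st [] hv e, mev_cons, Xm_zero o h1.1, one_mul]
    · rw [← mcoll_sound k st [(a, t)] (fun p hp => by rw [List.mem_singleton.1 hp]; exact h1) e]
      simp
  | k + 1, (a, t) :: st, (j, u) :: v, r, hv, e => by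
    obtain ⟨hj, hu⟩ := hv (j, u) List.mem_cons_self
    have hv' : ∀ p ∈ v, p.1 < 36 ∧ p.2 < 4 := fun p hp => hv p (List.mem_cons_of_mem _ hp)
    simp only [mcoll] at e
    split_ifs at e with h1 h2 h3 h4
    · subst h2
      rw [← mcoll_sound k st ((j, u) :: v) hv e, mev_cons o (a, 0), Xm_zero o h1.1, one_mul]
    · rw [← mcoll_sound k st ((a, t) :: (j, u) :: v)
        (fun p hp => (List.mem_cons.1 hp).elim (fun e' => e' ▸ h1) (hv p)) e]
      simp [mul_assoc]
    · subst h4
      rw [← mcoll_sound k ((j, fadd u t) :: st) v hv' e]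
      simp only [List.reverse_cons, mev_append, mev_cons, mev_nil, mul_one]
      rw [← Xm_add o hj hu h1.2]
      group
    · rw [← mcoll_sound k ((a, t) :: (j, u) :: corr j a u t ++ st) v hv' e]
      simp only [List.reverse_cons, mev_append, mev_cons, mev_nil, mul_one]
      rw [mul_assoc, ← mul_assoc (Xm o j u), Xm_swap o hj (by omega) hu h1.2]

theorem mnf_sound {w r : List (ℕ × ℕ)} (e : mnf w = some r) : mev o w = mev o r := by
  simpa using mcoll_sound o 600 w [] (fun p hp => absurd hp List.not_mem_nil) e

theorem sameNF_sound {a b : List (ℕ × ℕ)} (h : sameNF a b = true) : mev o a = mev o b := by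
  rw [sameNF] at h
  split at h
  · next x y ex ey =>
    rw [mnf_sound o ex, mnf_sound o ey, eq_of_beq h]
  · exact absurd h Bool.false_ne_true

end CfsgLib.E6Two
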