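import Mathlib

/-!
A central extension induced from a central extension of a subgroup of odd index, and the commutator
of two commuting elements in it.
-/

set_option autoImplicit false
set_option linter.unusedSectionVars false
set_option linter.style.haveILetI false

open scoped commutatorElement

namespace CfsgLib.E6Two.Transfer

universe u

variable {G : Type u} [Group G] {Γ : Type u} [Group Γ] (π : Γ →* G)

/-- The cosets of the image. -/
abbrev Cos : Type u := G ⧸ π.range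

/-- The action on the functions. -/
def shiftHom : G →* MulAut (Cos π → Γ) where
  toFun g :=
    { toFun := fun f q => f (g⁻¹ • q)
      invFun := fun f q => f (g • q)
      left_inv := fun f => funext fun q => by simp
      right_inv := fun f => funext fun q => by simp
      map_mul' := fun f f' => rfl }
  map_one' := MulEquiv.ext fun f => funext fun q => by simp
  map_mul' g g' := MulEquiv.ext fun f => funext fun q => by
    simp [mul_smul]

@[simp] lemma shiftHom_apply (g : G) (f : Cos π → Γ) (q : Cos π) :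
    shiftHom π g f q = f (g⁻¹ • q) := rfl

/-- The ambient product. -/
abbrev Amb : Type u := (Cos π → Γ) ⋊[shiftHom π] G

/-- The lifts of the monomial images. -/
noncomputable def ext : Subgroup (Amb π) where
  carrier := {w | ∀ q, π (w.left q) = q.out⁻¹ * w.right * (w.right⁻¹ • q).out}
  one_mem' q := by simp
  mul_mem' := by
    intro a b ha hb q
    rw [SemidirectProduct.mul_left, SemidirectProduct.mul_right, Pi.mul_apply, map_mul,
      shiftHom_apply, ha q, hb (a.right⁻¹ • q), mul_inv_rev, mul_smul]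
    group
  inv_mem' := by
    intro a ha q
    rw [SemidirectProduct.inv_left, SemidirectProduct.inv_right, shiftHom_apply, inv_inv,
      Pi.inv_apply, map_inv, ha, inv_smul_smul]
    group

lemma exists_lift (g : G) :
    ∃ f : Cos π → Γ, ∀ q, π (f q) = q.out⁻¹ * g * (g⁻¹ • q).out := by
  have : ∀ q : Cos π, q.out⁻¹ * g * (g⁻¹ • q).out ∈ π.range := by
    intro q
    rw [mul_assoc, ← QuotientGroup.eq]
    conv_lhs => rw [QuotientGroup.out_eq', ← smul_inv_smul g q]
    rw [← QuotientGroup.out_eq' (g⁻¹ • q), MulAction.Quotient.smul_mk]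
    simp
  choose f hf using this
  exact ⟨f, hf⟩

/-- The projection. -/
noncomputable def proj : ↥(ext π) →* G := SemidirectProduct.rightHom.comp (ext π).subtype

lemma proj_surj : Function.Surjective (proj π) := fun g => by
  obtain ⟨f, hf⟩ := exists_lift π g
  exact ⟨⟨⟨f, g⟩, hf⟩, rfl⟩

lemma left_mem_ker {w : ↥(ext π)} (hw : proj π w = 1) (q : Cos π) :
    (w : Amb π).left q ∈ π.ker := by
  have h : (w : Amb π).right = 1 := hw
  rw [MonoidHom.mem_ker, w.2 q, h]
  simp

section Comm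

variable {π} {x y : G} {fx fy : Cos π → Γ}

/-- The defect of two commuting lifts at a coset. -/
def cdef (x y : G) (fx fy : Cos π → Γ) (q : Cos π) : Γ :=
  fx q * fy (x⁻¹ • q) * (fy q * fx (y⁻¹ • q))⁻¹

variable (hk : π.ker ≤ Subgroup.center Γ) (hxy : x * y = y * x) (hy : y * y = 1)
  (hfx : ∀ q, π (fx q) = q.out⁻¹ * x * (x⁻¹ • q).out)
  (hfy : ∀ q, π (fy q) = q.out⁻¹ * y * (y⁻¹ • q).out)
include hk hxy hy hfx hfy

lemma cdef_ker (q : Cos π) : cdef x y fx fy q ∈ π.ker := by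
  have e : y⁻¹ • x⁻¹ • q = x⁻¹ • y⁻¹ • q := by
    rw [← mul_smul, ← mul_smul, ← mul_inv_rev, ← mul_inv_rev, hxy]
  rw [MonoidHom.mem_ker, cdef, map_mul, map_inv, map_mul, map_mul, hfx, hfy, hfy, hfx, e,
    mul_inv_eq_one]
  calc q.out⁻¹ * x * (x⁻¹ • q).out * ((x⁻¹ • q).out⁻¹ * y * (x⁻¹ • y⁻¹ • q).out)
      = q.out⁻¹ * (x * y) * (x⁻¹ • y⁻¹ • q).out := by group
    _ = _ := by rw [hxy]; group

lemma fy_pair (q : Cos π) : ∀ a b : Γ, a * (fy q * fy (y⁻¹ • q)) * b = (fy q * fy (y⁻¹ • q)) * (a * b) := by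
  have h1 : fy q * fy (y⁻¹ • q) ∈ π.ker := by
    have e : y⁻¹ • y⁻¹ • q = q := by rw [← mul_smul, ← mul_inv_rev, hy, inv_one, one_smul]
    rw [MonoidHom.mem_ker, map_mul, hfy, hfy, e]
    calc q.out⁻¹ * y * (y⁻¹ • q).out * ((y⁻¹ • q).out⁻¹ * y * q.out)
        = q.out⁻¹ * (y * y) * q.out := by group
      _ = 1 := by rw [hy]; group
  intro a b
  rw [Subgroup.mem_center_iff.1 (hk h1) a, mul_assoc]

/-- The defects at a pair exchanged by `y` cancel. -/
lemma cdef_pair (q : Cos π) :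
    cdef x y fx fy q * cdef x y fx fy (y⁻¹ • q) =
      fy (x⁻¹ • q) * fy (y⁻¹ • x⁻¹ • q) * (fy q * fy (y⁻¹ • q))⁻¹ := by
  have e : y⁻¹ • y⁻¹ • q = q := by rw [← mul_smul, ← mul_inv_rev, hy, inv_one, one_smul]
  have e' : x⁻¹ • y⁻¹ • q = y⁻¹ • x⁻¹ • q := by
    rw [← mul_smul, ← mul_smul, ← mul_inv_rev, ← mul_inv_rev, hxy]
  have hm := fy_pair hk hxy hy hfx hfy
  have hd : cdef x y fx fy (y⁻¹ • q) ∈ Subgroup.center Γ := hk (cdef_ker hk hxy hy hfx hfy _)
  have h2 : cdef x y fx fy q * cdef x y fx fy (y⁻¹ • q) =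
      fx q * fy (x⁻¹ • q) * (fx (y⁻¹ • q))⁻¹ * cdef x y fx fy (y⁻¹ • q) * (fy q)⁻¹ := by
    rw [mul_assoc _ (cdef x y fx fy (y⁻¹ • q)) (fy q)⁻¹,
      ← Subgroup.mem_center_iff.1 hd (fy q)⁻¹]
    simp only [cdef]; group
  rw [h2, cdef, e, e']
  have hmid := hm (x⁻¹ • q) (fx q) ((fx q)⁻¹ * (fy (y⁻¹ • q))⁻¹ * (fy q)⁻¹)
  calc fx q * fy (x⁻¹ • q) * (fx (y⁻¹ • q))⁻¹ *
        (fx (y⁻¹ • q) * fy (y⁻¹ • x⁻¹ • q) * (fy (y⁻¹ • q) * fx q)⁻¹) * (fy q)⁻¹
      = fx q * (fy (x⁻¹ • q) * fy (y⁻¹ • x⁻¹ • q)) *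
          ((fx q)⁻¹ * (fy (y⁻¹ • q))⁻¹ * (fy q)⁻¹) := by group
    _ = _ := by rw [hmid]; group

/-- At a coset fixed by `y`. -/
lemma cdef_fixed {q : Cos π} (hq : y⁻¹ • q = q) :
    cdef x y fx fy q = fx q * fy (x⁻¹ • q) * (fx q)⁻¹ * (fy q)⁻¹ := by
  rw [cdef, hq]; group

lemma cdef_step {q : Cos π} (hq : y⁻¹ • q = q) (a : Γ) (u : Cos π)
    (ha : a * fy u * a⁻¹ * (fy (x⁻¹ • q))⁻¹ ∈ π.ker) :
    cdef x y fx fy q * (a * fy u * a⁻¹ * (fy (x⁻¹ • q))⁻¹) =
      fx q * a * fy u * (fx q * a)⁻¹ * (fy q)⁻¹ := by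
  have hd : cdef x y fx fy q ∈ Subgroup.center Γ := hk (cdef_ker hk hxy hy hfx hfy _)
  rw [← Subgroup.mem_center_iff.1 hd, cdef_fixed hk hxy hy hfx hfy hq]
  set w := a * fy u * a⁻¹ * (fy (x⁻¹ • q))⁻¹ with hw
  calc w * (fx q * fy (x⁻¹ • q) * (fx q)⁻¹ * (fy q)⁻¹)
      = w * fx q * fy (x⁻¹ • q) * (fx q)⁻¹ * (fy q)⁻¹ := by group
    _ = fx q * w * fy (x⁻¹ • q) * (fx q)⁻¹ * (fy q)⁻¹ := by
        rw [Subgroup.mem_center_iff.1 (hk ha) (fx q)]
    _ = _ := by rw [hw]; group

/-- The product of the lifts along a path. -/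
def pathProd (x : G) (fx : Cos π → Γ) : ℕ → Cos π → Γ
  | 0, _ => 1
  | k + 1, q => fx q * pathProd x fx k (x⁻¹ • q)

/-- The end of a path. -/
def pathEnd (x : G) : ℕ → Cos π → Cos π
  | 0, q => q
  | k + 1, q => pathEnd x k (x⁻¹ • q)

/-- The product of the defects along a path. -/
def pathDef (x y : G) (fx fy : Cos π → Γ) : ℕ → Cos π → Γ
  | 0, _ => 1
  | k + 1, q => cdef x y fx fy q * pathDef x y fx fy k (x⁻¹ • q)

omit hk hxy hy hfy in
lemma π_path : ∀ (k : ℕ) (q : Cos π),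
    π (pathProd x fx k q) = q.out⁻¹ * x ^ k * (pathEnd x k q).out
  | 0, q => by simp [pathProd, pathEnd]
  | k + 1, q => by
    rw [pathProd, map_mul, hfx, π_path k, pathEnd, pow_succ']
    group

lemma path_telescope : ∀ (k : ℕ) (q : Cos π), y⁻¹ • q = q →
    pathDef x y fx fy k q =
      pathProd x fx k q * fy (pathEnd x k q) * (pathProd x fx k q)⁻¹ * (fy q)⁻¹ ∧
    pathDef x y fx fy k q ∈ π.ker
  | 0, q, _ => by simp [pathDef, pathProd, pathEnd]
  | k + 1, q, hq => by
    have hq' : y⁻¹ • x⁻¹ • q = x⁻¹ • q := by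
      rw [← mul_smul, ← mul_inv_rev, hxy, mul_inv_rev, mul_smul, hq]
    obtain ⟨h1, h2⟩ := path_telescope k (x⁻¹ • q) hq'
    refine ⟨?_, mul_mem (cdef_ker hk hxy hy hfx hfy q) h2⟩
    rw [pathDef, h1, pathProd, pathEnd]
    exact cdef_step hk hxy hy hfx hfy hq _ _ (h1 ▸ h2)

end Comm

/-- A product over points of two commuting permutations reduces to the fixed points. -/
lemma prod_fixed {Q H : Type*} [Fintype Q] [DecidableEq Q] [CommGroup H] (a b : Q → Q)
    (hab : ∀ q, a (b q) = b (a q)) (hb : ∀ q, b (b q) = q) (ha : ∀ q, a (a (a (a q))) = q)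
    (f : Q → H) (z : H) (h1 : ∀ q, b q ≠ q → f q * f (b q) = 1)
    (h2 : ∀ q, b q = q → a (a q) = q → f q * f (a q) = 1 ∨ a q = q)
    (h4 : ∀ q, b q = q → a (a q) ≠ q → f q * (f (a q) * (f (a (a q)) * f (a (a (a q))))) = 1)
    (h0 : ∀ q, b q = q → a q = q → f q = z) :
    ∏ q, f q = z ^ (Finset.univ.filter fun q => b q = q ∧ a q = q).card := by
  classical
  have hinj : Function.Injective a := Function.LeftInverse.injective
    (g := fun q => a (a (a q))) ha
  rw [← Finset.prod_filter_mul_prod_filter_not Finset.univ fun q => b q = q ∧ a q = q]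
  have e1 : ∏ q ∈ Finset.univ.filter (fun q => b q = q ∧ a q = q), f q =
      z ^ (Finset.univ.filter fun q => b q = q ∧ a q = q).card := by
    rw [← Finset.prod_const]
    exact Finset.prod_congr rfl fun q hq =>
      h0 q (Finset.mem_filter.1 hq).2.1 (Finset.mem_filter.1 hq).2.2
  rw [e1, ← Finset.prod_filter_mul_prod_filter_not
    (Finset.univ.filter fun q => ¬ (b q = q ∧ a q = q)) fun q => b q = q,
    Finset.filter_filter, Finset.filter_filter]
  refine mul_eq_left.2 ?_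
  have hmoved : ∏ q ∈ Finset.univ.filter (fun q => ¬ (b q = q ∧ a q = q) ∧ ¬ b q = q), f q = 1 := by
    refine Finset.prod_involution (fun q _ => b q) (fun q hq => h1 q ?_) (fun q hq _ => ?_)
      (fun q hq => ?_) fun q _ => hb q
    · exact (Finset.mem_filter.1 hq).2.2
    · exact (Finset.mem_filter.1 hq).2.2
    · have h := (Finset.mem_filter.1 hq).2.2
      refine Finset.mem_filter.2 ⟨Finset.mem_univ _, fun e => ?_, ?_⟩
      · exact h (by rw [← e.1, hb])
      · rw [hb]; exact Ne.symm h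
  rw [hmoved, mul_one]
  set T := Finset.univ.filter fun q => ¬ (b q = q ∧ a q = q) ∧ b q = q
  have hT : ∀ q, q ∈ T ↔ a q ≠ q ∧ b q = q := fun q => by
    simp only [T, Finset.mem_filter, Finset.mem_univ, true_and]
    tauto
  rw [← Finset.prod_filter_mul_prod_filter_not T fun q => a (a q) = q]
  have e2 : ∏ q ∈ T.filter (fun q => a (a q) = q), f q = 1 := by
    refine Finset.prod_involution (fun q _ => a q) (fun q hq => ?_) (fun q hq _ => ?_)
      (fun q hq => ?_) fun q hq => (Finset.mem_filter.1 hq).2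
    · obtain ⟨hq, h⟩ := Finset.mem_filter.1 hq
      exact (h2 q ((hT q).1 hq).2 h).resolve_right ((hT q).1 hq).1
    · exact ((hT q).1 (Finset.mem_filter.1 hq).1).1
    · obtain ⟨hq, h⟩ := Finset.mem_filter.1 hq
      obtain ⟨hne, hbq⟩ := (hT q).1 hq
      refine Finset.mem_filter.2 ⟨(hT _).2 ⟨?_, by rw [← hab, hbq]⟩, by rw [h]⟩
      rw [h]; exact Ne.symm hne
  rw [e2, one_mul]
  set T4 := T.filter fun q => ¬ a (a q) = q
  let o : Q → Finset Q := fun q => {q, a q, a (a q), a (a (a q))}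
  rw [← Finset.prod_fiberwise_of_maps_to (t := T4.image o)
    (fun q hq => Finset.mem_image_of_mem o hq)]
  refine Finset.prod_eq_one fun s hs => ?_
  obtain ⟨p, hp, rfl⟩ := Finset.mem_image.1 hs
  obtain ⟨hpT, hp2⟩ := Finset.mem_filter.1 hp
  obtain ⟨hp1, hpb⟩ := (hT p).1 hpT
  have hstep : ∀ q, o (a q) = o q := fun q => by
    ext w; simp only [o, Finset.mem_insert, Finset.mem_singleton, ha]; tauto
  have hin : ∀ q, q ∈ T4 → a q ∈ T4 := fun q hq => by
    obtain ⟨hq, h⟩ := Finset.mem_filter.1 hq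
    obtain ⟨hne, hbq⟩ := (hT q).1 hq
    refine Finset.mem_filter.2 ⟨(hT _).2 ⟨fun e => hne (hinj e), ?_⟩, fun e => h (hinj e)⟩
    rw [← hab, hbq]
  have hfib : T4.filter (fun q => o q = o p) = o p := by
    ext q
    simp only [Finset.mem_filter]
    constructor
    · rintro ⟨-, e⟩
      rw [← e]; simp [o]
    · intro hq
      simp only [o, Finset.mem_insert, Finset.mem_singleton] at hq
      rcases hq with rfl | rfl | rfl | rfl
      exacts [⟨hp, rfl⟩, ⟨hin _ hp, hstep p⟩, ⟨hin _ (hin _ hp), by rw [hstep, hstep]⟩,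
        ⟨hin _ (hin _ (hin _ hp)), by rw [hstep, hstep, hstep]⟩]
  rw [hfib]
  have d1 : p ≠ a p := Ne.symm hp1
  have d2 : p ≠ a (a p) := Ne.symm hp2
  have d3 : p ≠ a (a (a p)) := fun e => hp1 (by conv_lhs => rw [e, ha])
  have d4 : a p ≠ a (a p) := fun e => d1 (hinj e)
  have d5 : a p ≠ a (a (a p)) := fun e => d2 (hinj e)
  have d6 : a (a p) ≠ a (a (a p)) := fun e => d4 (hinj e)
  simp only [o]
  rw [Finset.prod_insert (by simp [d1, d2, d3]), Finset.prod_insert (by simp [d4, d5]),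
    Finset.prod_insert (by simp [d6]), Finset.prod_singleton]
  exact h4 p hpb hp2

variable [Finite G]

/-- The induced extension with the value of the commutator. -/
theorem exists_induced [Finite Γ] (hk : π.ker ≤ Subgroup.center Γ) (hodd : ¬ 2 ∣ π.range.index)
    (hexp : ∀ z ∈ π.ker, z * z = 1) :
    ∃ (E : Type u) (_ : Group E) (_ : Finite E) (σ : E →* G) (ι : ↥π.ker →* E),
      Function.Surjective σ ∧ σ.ker ≤ Subgroup.center E ∧ ι.range = σ.ker ∧ Function.Injective ι ∧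
      ∀ (x y : G), x * y = y * x → y * y = 1 → x * x * (x * x) = 1 → ∀ z : ↥π.ker,
        (∀ (g : G) (a b : Γ), π a = g * x * g⁻¹ → π b = g * y * g⁻¹ → ⁅a, b⁆ = z) →
        (∀ (g : G) (a b : Γ), π a = g * (x * x) * g⁻¹ → π b = g * y * g⁻¹ → ⁅a, b⁆ = 1) →
        ∀ ex ey : E, σ ex = x → σ ey = y → ⁅ex, ey⁆ = ι z := by
  classical
  haveI : Fintype (Cos π) := Fintype.ofFinite _
  letI : CommGroup ↥π.ker :=
    { (inferInstance : Group ↥π.ker) with
      mul_comm := fun a b => Subtype.ext (Subgroup.mem_center_iff.1 (hk b.2) a) }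
  -- the sum of the central coordinates
  let S : ↥(proj π).ker →* ↥π.ker :=
    { toFun := fun w => ∏ q, ⟨(w.1 : Amb π).left q, left_mem_ker π w.2 q⟩
      map_one' := Finset.prod_eq_one fun q _ => Subtype.ext rfl
      map_mul' := fun a b => by
        rw [← Finset.prod_mul_distrib]
        refine Finset.prod_congr rfl fun q _ => Subtype.ext ?_
        show ((a.1 : Amb π) * b.1).left q = _
        have h : (a.1 : Amb π).right = 1 := a.2
        rw [SemidirectProduct.mul_left, Pi.mul_apply, shiftHom_apply, h, inv_one, one_smul]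
        rfl }
  let N : Subgroup ↥(ext π) := S.ker.map (proj π).ker.subtype
  have hN : ∀ {w : ↥(ext π)} (hw : proj π w = 1), w ∈ N ↔ S ⟨w, hw⟩ = 1 := by
    intro w hw
    constructor
    · rintro ⟨v, hv, rfl⟩; exact hv
    · exact fun h => ⟨⟨w, hw⟩, h, rfl⟩
  -- conjugation permutes the coordinates
  have hSconj : ∀ (g w : ↥(ext π)) (hw : proj π w = 1) (hw' : proj π (g * w * g⁻¹) = 1),
      S ⟨g * w * g⁻¹, hw'⟩ = S ⟨w, hw⟩ := by
    intro g w hw hw'
    show (∏ q, _ : ↥π.ker) = ∏ q, _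
    refine Fintype.prod_equiv (MulAction.toPerm (g : Amb π).right⁻¹) _ _ fun q => Subtype.ext ?_
    show ((g : Amb π) * w * (g : Amb π)⁻¹).left q = (w : Amb π).left ((g : Amb π).right⁻¹ • q)
    have h : (w : Amb π).right = 1 := hw
    simp only [SemidirectProduct.mul_left, SemidirectProduct.mul_right, SemidirectProduct.inv_left,
      Pi.mul_apply, shiftHom_apply, h, mul_one, inv_inv, Pi.inv_apply, smul_inv_smul]
    rw [Subgroup.mem_center_iff.1 (hk (left_mem_ker π hw _)) ((g : Amb π).left q),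
      mul_inv_cancel_right]
  haveI hNn : N.Normal := ⟨by
    rintro _ ⟨v, hv, rfl⟩ g
    have hw' : proj π (g * (v : ↥(ext π)) * g⁻¹) = 1 := by
      rw [map_mul, map_mul, show proj π (v : ↥(ext π)) = 1 from v.2, mul_one, ← map_mul,
        mul_inv_cancel, map_one]
    refine (hN hw').2 ?_
    rw [hSconj g v v.2 hw']
    exact hv⟩
  haveI : Finite ↥(ext π) := by
    haveI : Finite (Amb π) := Finite.of_equiv _ SemidirectProduct.equivProd.symm
    infer_instance
  let σ : ↥(ext π) ⧸ N →* G := QuotientGroup.lift N (proj π) (by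
    rintro _ ⟨v, -, rfl⟩; exact v.2)
  have hσ : ∀ w : ↥(ext π), σ (QuotientGroup.mk w) = proj π w := fun w => rfl
  -- two kernel elements agree modulo `N` when their sums agree
  have hmk : ∀ {v w : ↥(ext π)} (hv : proj π v = 1) (hw : proj π w = 1),
      S ⟨v, hv⟩ = S ⟨w, hw⟩ → (QuotientGroup.mk v : ↥(ext π) ⧸ N) = QuotientGroup.mk w := by
    intro v w hv hw e
    refine QuotientGroup.eq.2 ((hN (by rw [map_mul, map_inv, hv, hw, inv_one, one_mul])).2 ?_)
    rw [show (⟨v⁻¹ * w, _⟩ : ↥(proj π).ker) = (⟨v, hv⟩ : ↥(proj π).ker)⁻¹ * ⟨w, hw⟩ from rfl,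
      map_mul, map_inv, e, inv_mul_cancel]
  let q0 : Cos π := QuotientGroup.mk 1
  let emb : ↥π.ker →* ↥(ext π) :=
    { toFun := fun z => ⟨⟨Pi.mulSingle q0 (z : Γ), 1⟩, fun q => by
        by_cases hq : q = q0
        · subst hq; simp [MonoidHom.mem_ker.1 z.2]
        · simp [Pi.mulSingle_eq_of_ne hq]⟩
      map_one' := Subtype.ext (SemidirectProduct.ext (by simp) rfl)
      map_mul' := fun a b => Subtype.ext (SemidirectProduct.ext (by
        funext q
        simp [Pi.mulSingle_mul]) (by simp)) }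
  have hemb : ∀ z : ↥π.ker, proj π (emb z) = 1 := fun z => rfl
  have hSemb : ∀ z : ↥π.ker, S ⟨emb z, hemb z⟩ = z := by
    intro z
    show (∏ q, _ : ↥π.ker) = z
    rw [Finset.prod_eq_single q0 (fun q _ hq => Subtype.ext (by simp [emb, Pi.mulSingle_eq_of_ne hq]))
      (fun h => absurd (Finset.mem_univ _) h)]
    exact Subtype.ext (by simp [emb])
  let ι : ↥π.ker →* ↥(ext π) ⧸ N := (QuotientGroup.mk' N).comp emb
  refine ⟨↥(ext π) ⧸ N, inferInstance, inferInstance, σ, ι, ?_, ?_, ?_, ?_, ?_⟩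
  · intro g
    obtain ⟨w, rfl⟩ := proj_surj π g
    exact ⟨QuotientGroup.mk w, rfl⟩
  · intro e he
    refine Subgroup.mem_center_iff.2 fun d => ?_
    induction e using QuotientGroup.induction_on with
    | H w =>
      induction d using QuotientGroup.induction_on with
      | H g =>
        have hw : proj π w = 1 := he
        have hw' : proj π (g * w * g⁻¹) = 1 := by
          rw [map_mul, map_mul, hw, mul_one, ← map_mul, mul_inv_cancel, map_one]
        have h := hmk hw' hw (hSconj g w hw hw')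
        rw [QuotientGroup.mk_mul, QuotientGroup.mk_mul, QuotientGroup.mk_inv,
          mul_inv_eq_iff_eq_mul] at h
        exact h
  · ext e
    constructor
    · rintro ⟨z, rfl⟩; exact hemb z
    · intro he
      induction e using QuotientGroup.induction_on with
      | H w => exact ⟨S ⟨w, he⟩, hmk (hemb _) he (hSemb _)⟩
  · refine (injective_iff_map_eq_one ι).2 fun z hz => ?_
    rw [← hSemb z]
    exact (hN (hemb z)).1 ((QuotientGroup.eq_one_iff _).1 hz)
  intro x y hxy hy hx4 z H1 H2 ex ey hex hey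
  have hcen : σ.ker ≤ Subgroup.center (↥(ext π) ⧸ N) := by
    intro e he
    refine Subgroup.mem_center_iff.2 fun d => ?_
    induction e using QuotientGroup.induction_on with
    | H w =>
      induction d using QuotientGroup.induction_on with
      | H g =>
        have hw : proj π w = 1 := he
        have hw' : proj π (g * w * g⁻¹) = 1 := by
          rw [map_mul, map_mul, hw, mul_one, ← map_mul, mul_inv_cancel, map_one]
        have h := hmk hw' hw (hSconj g w hw hw')
        rw [QuotientGroup.mk_mul, QuotientGroup.mk_mul, QuotientGroup.mk_inv,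
          mul_inv_eq_iff_eq_mul] at h
        exact h
  have hyinv : y⁻¹ = y := inv_eq_of_mul_eq_one_right hy
  have hyy : ∀ q : Cos π, y⁻¹ • y⁻¹ • q = q := fun q => by
    rw [← mul_smul, ← mul_inv_rev, hy, inv_one, one_smul]
  have hxy' : ∀ q : Cos π, x⁻¹ • y⁻¹ • q = y⁻¹ • x⁻¹ • q := fun q => by
    rw [← mul_smul, ← mul_smul, ← mul_inv_rev, ← mul_inv_rev, hxy]
  have hx4' : ∀ q : Cos π, x⁻¹ • x⁻¹ • x⁻¹ • x⁻¹ • q = q := fun q => by
    rw [← mul_smul, ← mul_smul, ← mul_smul,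
      show x⁻¹ * x⁻¹ * x⁻¹ * x⁻¹ = (x * x * (x * x))⁻¹ by group, hx4, inv_one, one_smul]
  -- a lift of `y` which is inverse to itself along the moved pairs
  obtain ⟨fx, hfx⟩ := exists_lift π x
  obtain ⟨f0, hf0⟩ := exists_lift π y
  let r : Cos π → ℕ := fun q => (Fintype.equivFin (Cos π) q : ℕ)
  let fy : Cos π → Γ := fun q => if r (y⁻¹ • q) < r q then (f0 (y⁻¹ • q))⁻¹ else f0 q
  have hfy : ∀ q, π (fy q) = q.out⁻¹ * y * (y⁻¹ • q).out := by
    intro q
    simp only [fy]
    split_ifs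
    · rw [map_inv, hf0, hyy, mul_inv_rev, mul_inv_rev, inv_inv, hyinv, mul_assoc]
    · exact hf0 q
  have hfy1 : ∀ q, y⁻¹ • q ≠ q → fy q * fy (y⁻¹ • q) = 1 := by
    intro q hq
    have hne : r (y⁻¹ • q) ≠ r q := fun e => hq ((Fintype.equivFin (Cos π)).injective (Fin.ext e))
    simp only [fy, hyy]
    rcases lt_or_gt_of_ne hne with h | h
    · rw [if_pos h, if_neg (by omega), inv_mul_cancel]
    · rw [if_neg (by omega), if_pos h, mul_inv_cancel]
  let wx : ↥(ext π) := ⟨⟨fx, x⟩, hfx⟩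
  let wy : ↥(ext π) := ⟨⟨fy, y⟩, hfy⟩
  -- commutators do not see central factors
  have hind : ⁅ex, ey⁆ = ⁅(QuotientGroup.mk wx : ↥(ext π) ⧸ N), QuotientGroup.mk wy⁆ := by
    set a : ↥(ext π) ⧸ N := QuotientGroup.mk wx
    set b : ↥(ext π) ⧸ N := QuotientGroup.mk wy
    have k1 : a⁻¹ * ex ∈ Subgroup.center _ := hcen (by
      rw [MonoidHom.mem_ker, map_mul, map_inv, hex]; exact inv_mul_cancel x)
    have k2 : b⁻¹ * ey ∈ Subgroup.center _ := hcen (by
      rw [MonoidHom.mem_ker, map_mul, map_inv, hey]; exact inv_mul_cancel y)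
    rw [show ex = a * (a⁻¹ * ex) by group, show ey = b * (b⁻¹ * ey) by group]
    generalize a⁻¹ * ex = u, b⁻¹ * ey = v at k1 k2
    have cu := Subgroup.mem_center_iff.1 k1
    have cv := Subgroup.mem_center_iff.1 k2
    simp only [commutatorElement_def, mul_inv_rev]
    calc a * u * (b * v) * (u⁻¹ * a⁻¹) * (v⁻¹ * b⁻¹)
        = a * (u * (b * v)) * u⁻¹ * a⁻¹ * v⁻¹ * b⁻¹ := by group
      _ = a * b * (v * a⁻¹) * v⁻¹ * b⁻¹ := by rw [← cu (b * v)]; group
      _ = _ := by rw [← cv a⁻¹]; group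
  rw [hind]
  have hcom : proj π ⁅wx, wy⁆ = 1 := by
    rw [map_commutatorElement]
    show x * y * x⁻¹ * y⁻¹ = 1
    rw [hxy]; group
  have hleft : ∀ q, (⁅wx, wy⁆ : ↥(ext π)).1.left q = cdef x y fx fy q := by
    intro q
    have h1 : (⁅wx, wy⁆ : ↥(ext π)).1.right = 1 := hcom
    have e : ((wx : Amb π) * wy).left q = ((⁅wx, wy⁆ : ↥(ext π)).1 * (wy * wx)).left q := by
      refine congrFun (congrArg SemidirectProduct.left ?_) q
      show ((wx * wy : ↥(ext π)) : Amb π) = ((⁅wx, wy⁆ * (wy * wx) : ↥(ext π)) : Amb π)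
      rw [commutatorElement_def]
      congr 1
      group
    simp only [SemidirectProduct.mul_left, Pi.mul_apply, shiftHom_apply, h1, inv_one, one_smul] at e
    have e' : fx q * fy (x⁻¹ • q) =
        (⁅wx, wy⁆ : ↥(ext π)).1.left q * (fy q * fx (y⁻¹ • q)) := e
    rw [cdef, e']
    generalize (⁅wx, wy⁆ : ↥(ext π)).1.left q = A
    group
  let F : Cos π → ↥π.ker := fun q => ⟨cdef x y fx fy q, cdef_ker hk hxy hy hfx hfy q⟩
  have e1 : S ⟨⁅wx, wy⁆, hcom⟩ = ∏ q, F q :=
    Finset.prod_congr rfl fun q _ => Subtype.ext (hleft q)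
  have hpi : ∀ q, y⁻¹ • q = q → π (fy q) = q.out⁻¹ * y * (q.out⁻¹)⁻¹ := fun q hq => by
    rw [hfy, hq, inv_inv]
  have hpath : ∀ k q, y⁻¹ • q = q → pathEnd x k q = q →
      pathDef x y fx fy k q = ⁅pathProd x fx k q, fy q⁆ ∧
        π (pathProd x fx k q) = q.out⁻¹ * x ^ k * (q.out⁻¹)⁻¹ := by
    intro k q hq he
    refine ⟨?_, ?_⟩
    · rw [(path_telescope hk hxy hy hfx hfy k q hq).1, he, commutatorElement_def]
    · rw [π_path hfx k q, he, inv_inv]
  have hF : ∏ q, F q =
      z ^ (Finset.univ.filter fun q : Cos π => y⁻¹ • q = q ∧ x⁻¹ • q = q).card := by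
    refine prod_fixed (fun q => x⁻¹ • q) (fun q => y⁻¹ • q) hxy' hyy hx4' F z ?_ ?_ ?_ ?_
    · intro q hq
      refine Subtype.ext ?_
      show cdef x y fx fy q * cdef x y fx fy (y⁻¹ • q) = 1
      rw [cdef_pair hk hxy hy hfx hfy q, hfy1 q hq, hfy1 (x⁻¹ • q) (fun e => hq (by
        rw [← hxy'] at e; exact MulAction.injective _ e)), inv_one, mul_one]
    · intro q hq h2
      refine Or.inl (Subtype.ext ?_)
      show cdef x y fx fy q * cdef x y fx fy (x⁻¹ • q) = 1
      obtain ⟨h3, h5⟩ := hpath 2 q hq h2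
      simp only [pathDef, mul_one] at h3
      rw [h3]
      exact H2 q.out⁻¹ _ _ (by rw [h5, pow_two]) (hpi q hq)
    · intro q hq _
      refine Subtype.ext ?_
      show cdef x y fx fy q * (cdef x y fx fy _ * (cdef x y fx fy _ * cdef x y fx fy _)) = 1
      obtain ⟨h3, h5⟩ := hpath 4 q hq (hx4' q)
      simp only [pathDef, mul_one] at h3
      rw [h3]
      have hP : pathProd x fx 4 q ∈ Subgroup.center Γ := hk (by
        rw [MonoidHom.mem_ker, h5, show x ^ 4 = 1 by rw [show x ^ 4 = x * x * (x * x) by simp only [pow_succ, pow_zero, one_mul, mul_assoc]]; exact hx4]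
        group)
      rw [commutatorElement_def, ← Subgroup.mem_center_iff.1 hP (fy q)]
      group
    · intro q hq h1
      refine Subtype.ext ?_
      show cdef x y fx fy q = z
      obtain ⟨h3, h5⟩ := hpath 1 q hq h1
      simp only [pathDef, mul_one] at h3
      rw [h3]
      exact H1 q.out⁻¹ _ _ (by rw [h5, pow_one]) (hpi q hq)
  -- an odd number of common fixed points
  have hodd' : Odd (Finset.univ.filter fun q : Cos π => y⁻¹ • q = q ∧ x⁻¹ • q = q).card := by
    have h := prod_fixed (fun q : Cos π => x⁻¹ • q) (fun q => y⁻¹ • q) hxy' hyy hx4'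
      (fun _ => (-1 : ℤˣ)) (-1) (fun _ _ => by decide) (fun _ _ _ => Or.inl (by decide))
      (fun _ _ _ => by decide) (fun _ _ _ => rfl)
    rw [Finset.prod_const, Finset.card_univ] at h
    have hn : Odd (Fintype.card (Cos π)) := by
      rw [Nat.odd_iff, ← Nat.card_eq_fintype_card]
      have : Nat.card (Cos π) = π.range.index := rfl
      omega
    rw [hn.neg_one_pow] at h
    by_contra hc
    rw [(Nat.not_odd_iff_even.1 hc).neg_one_pow] at h
    exact absurd h (by decide)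
  have hz : z * z = 1 := Subtype.ext (hexp _ z.2)
  obtain ⟨m, hm⟩ := hodd'
  have key : S ⟨⁅wx, wy⁆, hcom⟩ = z := by
    rw [e1, hF, hm, pow_succ, pow_mul, pow_two, hz, one_pow, one_mul]
  show (QuotientGroup.mk ⁅wx, wy⁆ : ↥(ext π) ⧸ N) = ι z
  exact hmk hcom (hemb z) (key.trans (hSemb z).symm)

end CfsgLib.E6Two.Transfer
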