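import Cfsg.Agent.Lib.Chev.E6Two.Bound
import Cfsg.Agent.Lib.Chev.E6Two.Fusion
import Cfsg.Agent.Lib.Chev.E6Two.Transfer
import Cfsg.Agent.Lib.Chev.TwistE6Cover

/-!
The multiplier of `²E₆(2)` is of order twelve.
-/

set_option autoImplicit false
set_option maxRecDepth 100000
set_option linter.unusedSectionVars false
set_option linter.style.haveILetI false

open scoped commutatorElement

namespace CfsgLib.E6Two

open Cfsg.Lie CfsgLib.Chev

universe u

variable {K : Type u} [Field K] [Fintype K] (X : Ctx4 K)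

lemma UG_index : ¬ 2 ∣ (UG X).index := by
  haveI : Finite ↥X.E.fix := Finite.of_injective Subtype.val Subtype.val_injective
  intro hdvd
  have h := (UG X).card_mul_index
  have h2 := card_twistE6 X.f X.hf X.hK Nat.prime_two.isPrimePow
  rw [← h, card_UG] at h2
  obtain ⟨w, hw⟩ := hdvd
  rw [hw] at h2
  norm_num at h2
  omega

/-- The check of the pairs of commuting elements. -/
def chkPairs : Bool :=
  match PU.collW ([7, 9, 17] ++ [0, 4]), PU.collW ([0, 4] ++ [7, 9, 17]),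
    PU.collW ([6, 8, 17] ++ [0, 4]), PU.collW ([0, 4] ++ [6, 8, 17]),
    PU.collW ([7, 9, 17, 7, 9, 17] ++ [0, 4]), PU.collW ([0, 4] ++ [7, 9, 17, 7, 9, 17]),
    PU.collW ([6, 8, 17, 6, 8, 17] ++ [0, 4]), PU.collW ([0, 4] ++ [6, 8, 17, 6, 8, 17]) with
  | some a, some a', some b, some b', some c, some c', some d, some d' =>
    let p := fun (s : Bool) (r r' : List ℕ × List ℕ) =>
      ((r.2.countP fun k => (defBits s).testBit k) + (r'.2.countP fun k => (defBits s).testBit k)) % 2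
    decide (a.1 = a'.1 ∧ b.1 = b'.1 ∧ c.1 = c'.1 ∧ d.1 = d'.1 ∧ p false a a' = 1 ∧ p true a a' = 0 ∧
      p false b b' = 0 ∧ p true b b' = 1 ∧ p false c c' = 0 ∧ p true c c' = 0 ∧
      p false d d' = 0 ∧ p true d d' = 0)
  | _, _, _, _, _, _, _, _ => false

theorem chkPairs_eq : chkPairs = true := by decide +kernel

/-- The check of the orders. -/
def chkOrders : Bool :=
  ([[0, 4, 0, 4], [7, 9, 17, 7, 9, 17, 7, 9, 17, 7, 9, 17],
      [6, 8, 17, 6, 8, 17, 6, 8, 17, 6, 8, 17]] : List (List ℕ)).all fun w =>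
    match PU.collW w with
    | some r => r.1 == []
    | none => false

theorem chkOrders_eq : chkOrders = true := by decide +kernel

lemma ev_one_fun {G : Type*} [Group G] (d : List ℕ) : Pres.ev (fun _ => (1 : G)) d = 1 :=
  List.prod_eq_one fun x hx => by
    obtain ⟨i, -, rfl⟩ := List.mem_map.1 hx
    rfl

lemma ev_xg_one {w : List ℕ} (hw : ∀ a ∈ w, a < 36)
    (h : ∃ r, PU.collW w = some r ∧ r.1 = []) : Pres.ev (xg X) w = 1 := by
  obtain ⟨r, hr, h1⟩ := h
  rw [Pres.collW_sound aboveU (holdsU X) hw hr, h1, ev_one_fun]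
  simp

lemma zfl_pow (n : ℕ) : zfl ^ n = if n % 2 = 0 then 1 else zfl := by
  conv_lhs => rw [← Nat.mod_add_div n 2, pow_add, pow_mul, pow_two, zfl_sq, one_pow, mul_one]
  rcases Nat.mod_two_eq_zero_or_one n with e | e <;> simp [e]

/-- The commutator of two normal words. -/
lemma comm_value {u v : List ℕ} (hu : ∀ a ∈ u, a < 36) (hv : ∀ a ∈ v, a < 36)
    {r r' : List ℕ × List ℕ} (hr : PU.collW (u ++ v) = some r) (hr' : PU.collW (v ++ u) = some r')
    (heq : r.1 = r'.1) {p q : ℕ}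
    (hp : ((r.2.countP fun k => (defBits false).testBit k) +
      (r'.2.countP fun k => (defBits false).testBit k)) % 2 = p)
    (hq : ((r.2.countP fun k => (defBits true).testBit k) +
      (r'.2.countP fun k => (defBits true).testBit k)) % 2 = q) :
    Pres.ev (xg X) u * Pres.ev (xg X) v = Pres.ev (xg X) v * Pres.ev (xg X) u ∧
    ⁅Pres.ev (xh X) u, Pres.ev (xh X) v⁆ = ((1 : ↥X.E.fix), (zfl ^ p, zfl ^ q)) := by
  have hlt : ∀ a ∈ u ++ v, a < PU.n := fun a ha => (List.mem_append.1 ha).elim (hu a) (hv a)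
  have hlt' : ∀ a ∈ v ++ u, a < PU.n := fun a ha => (List.mem_append.1 ha).elim (hv a) (hu a)
  refine ⟨?_, ?_⟩
  · rw [← Pres.ev_append, ← Pres.ev_append, Pres.collW_sound aboveU (holdsU X) hlt hr,
      Pres.collW_sound aboveU (holdsU X) hlt' hr', ev_one_fun, ev_one_fun, heq]
  · have e1 := Pres.collW_sound aboveU (holdsH X) hlt hr
    have e2 := Pres.collW_sound aboveU (holdsH X) hlt' hr'
    rw [Pres.ev_append] at e1 e2
    rw [commutatorElement_def, mul_assoc _ (Pres.ev (xh X) u)⁻¹, ← mul_inv_rev, e1, e2, heq,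
      mul_inv_rev]
    have hc : Pres.ev (ch X) r'.2 ∈ Subgroup.center X.Amb := Subgroup.list_prod_mem _ fun a ha => by
      obtain ⟨k, -, rfl⟩ := List.mem_map.1 ha
      exact ch_central X k
    rw [show Pres.ev (xh X) r'.1 * Pres.ev (ch X) r.2 *
        ((Pres.ev (ch X) r'.2)⁻¹ * (Pres.ev (xh X) r'.1)⁻¹) =
      Pres.ev (ch X) r.2 * (Pres.ev (ch X) r'.2)⁻¹ by
        have hr2 : Pres.ev (ch X) r.2 ∈ Subgroup.center X.Amb := Subgroup.list_prod_mem _ fun a ha => by
          obtain ⟨k, -, rfl⟩ := List.mem_map.1 ha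
          exact ch_central X k
        rw [← mul_assoc, mul_assoc (Pres.ev (xh X) r'.1),
          Subgroup.mem_center_iff.1 (mul_mem hr2 (inv_mem hc)) (Pres.ev (xh X) r'.1),
          mul_inv_cancel_right]]
    have hinv : ∀ n : ℕ, (zfl ^ n)⁻¹ = zfl ^ n := fun n =>
      inv_eq_of_mul_eq_one_right (by rw [← pow_add, ← two_mul, pow_mul, pow_two, zfl_sq, one_pow])
    have hm : ∀ a b : ℕ, zfl ^ (a % 2) * zfl ^ (b % 2) = zfl ^ ((a + b) % 2) := fun a b => by
      rw [← pow_add, zfl_pow (a % 2 + b % 2), zfl_pow ((a + b) % 2)]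
      congr 1
      simp [Nat.add_mod]
    rw [ev_ch, ev_ch, ev_rd, ev_rd, ev_gdef, ev_gdef, ev_gdef, ev_gdef]
    simp only [Prod.inv_mk, inv_one, Prod.mk_mul_mk, mul_one, hinv, hm, hp, hq]

lemma mem_Zamb_iff {z : X.Amb} : z ∈ Zamb X ↔
    z.1 = 1 ∧ (z.2.1 = 1 ∨ z.2.1 = zfl) ∧ (z.2.2 = 1 ∨ z.2.2 = zfl) := by
  constructor
  · rintro ⟨h1, h2, h3⟩
    exact ⟨Subgroup.mem_bot.1 h1, zfl_cases h2, zfl_cases h3⟩
  · rintro ⟨h1, h2, h3⟩
    refine ⟨Subgroup.mem_bot.2 h1, ?_, ?_⟩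
    · rcases h2 with e | e <;> rw [e]
      exacts [one_mem _, Subgroup.mem_zpowers _]
    · rcases h3 with e | e <;> rw [e]
      exacts [one_mem _, Subgroup.mem_zpowers _]

/-- A stem extension with kernel of order divisible by four. -/
theorem exists_fourfold (hperf : commutator ↥X.E.fix = ⊤) :
    ∃ (Γ : Type u) (_ : Group Γ) (_ : Finite Γ) (σ : Γ →* ↥X.E.fix),
      Cfsg.IsStemExtension σ ∧ 4 ∣ Nat.card σ.ker := by
  classical
  haveI : Finite ↥X.E.fix := Finite.of_injective Subtype.val Subtype.val_injective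
  obtain ⟨E, _, _, σ, ι, hs, hc, hr, hinj, hval⟩ := Transfer.exists_induced (proU X) (proU_ker X)
    (by rw [proU_range]; exact UG_index X) (proU_sq X)
  have hdet : ∀ (u : List ℕ) (p q : ℕ), (∀ a ∈ u, a < 36) →
      (∃ r r', PU.collW (u ++ [0, 4]) = some r ∧ PU.collW ([0, 4] ++ u) = some r' ∧ r.1 = r'.1 ∧
        ((r.2.countP fun k => (defBits false).testBit k) +
          (r'.2.countP fun k => (defBits false).testBit k)) % 2 = p ∧
        ((r.2.countP fun k => (defBits true).testBit k) +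
          (r'.2.countP fun k => (defBits true).testBit k)) % 2 = q) →
      (∃ r r', PU.collW ((u ++ u) ++ [0, 4]) = some r ∧ PU.collW ([0, 4] ++ (u ++ u)) = some r' ∧
        r.1 = r'.1 ∧
        ((r.2.countP fun k => (defBits false).testBit k) +
          (r'.2.countP fun k => (defBits false).testBit k)) % 2 = 0 ∧
        ((r.2.countP fun k => (defBits true).testBit k) +
          (r'.2.countP fun k => (defBits true).testBit k)) % 2 = 0) →
      (∃ r, PU.collW ((u ++ u) ++ (u ++ u)) = some r ∧ r.1 = []) →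
      (∃ r, PU.collW ([0, 4] ++ [0, 4]) = some r ∧ r.1 = []) →
      ∃ w ∈ commutator E, ∀ z : ↥(proU X).ker,
        (z.1.1 : X.Amb) = ((1 : ↥X.E.fix), (zfl ^ p, zfl ^ q)) → ι z = w := by
    intro u p q hu ⟨r, r', hr1, hr2, heq, hp, hq⟩ ⟨s, s', hs1, hs2, seq, sp, sq'⟩ h4 h2
    have hy : ∀ a ∈ ([0, 4] : List ℕ), a < 36 := by decide
    have huu : ∀ a ∈ u ++ u, a < 36 := fun a ha => (List.mem_append.1 ha).elim (hu a) (hu a)
    obtain ⟨hcom, hv⟩ := comm_value X hu hy hr1 hr2 heq hp hq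
    obtain ⟨hcom2, hv2⟩ := comm_value X huu hy hs1 hs2 seq sp sq'
    let A : ↥(GU X) := ⟨_, evh_mem X hu⟩
    let B : ↥(GU X) := ⟨_, evh_mem X hy⟩
    have hA : proU X A = Pres.ev (xg X) u := by show (Pres.ev (xh X) u).1 = _; rw [ev_xh]
    have hB : proU X B = Pres.ev (xg X) [0, 4] := by show (Pres.ev (xh X) [0, 4]).1 = _; rw [ev_xh]
    have hAB : ⁅A, B⁆ ∈ (proU X).ker := by
      rw [MonoidHom.mem_ker, map_commutatorElement, hA, hB, commutatorElement_eq_one_iff_commute]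
      exact hcom
    obtain ⟨ex, hex⟩ := hs (Pres.ev (xg X) u)
    obtain ⟨ey, hey⟩ := hs (Pres.ev (xg X) [0, 4])
    refine ⟨⁅ex, ey⁆, Subgroup.commutator_mem_commutator (Subgroup.mem_top _) (Subgroup.mem_top _),
      fun z hz => ?_⟩
    obtain rfl : z = ⟨⁅A, B⁆, hAB⟩ := Subtype.ext (Subtype.ext (by rw [hz]; exact hv.symm))
    refine (hval _ _ hcom ?_ ?_ _ ?_ ?_ ex ey hex hey).symm
    · rw [← Pres.ev_append]
      exact ev_xg_one X (fun a ha => (List.mem_append.1 ha).elim (hy a) (hy a)) h2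
    · simp only [← Pres.ev_append]
      exact ev_xg_one X (fun a ha => (List.mem_append.1 ha).elim (huu a) (huu a)) h4
    · intro g a b ha hb
      exact invAt_all X g A B a b (by rw [hA, hB]; exact hcom) (by rw [hA]; exact ha)
        (by rw [hB]; exact hb)
    · intro g a b ha hb
      have hAA : proU X (A * A) = Pres.ev (xg X) u * Pres.ev (xg X) u := by rw [map_mul, hA]
      rw [invAt_all X g (A * A) B a b (by rw [hAA, hB, ← Pres.ev_append]; exact hcom2)
        (by rw [hAA]; exact ha) (by rw [hB]; exact hb)]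
      refine Subtype.ext ?_
      show ⁅Pres.ev (xh X) u * Pres.ev (xh X) u, Pres.ev (xh X) [0, 4]⁆ = 1
      rw [← Pres.ev_append, hv2]
      simp
  have hc := chkPairs_eq
  rw [chkPairs] at hc
  split at hc
  next a a' b b' c c' d d' ea ea' eb eb' ec ec' ed ed' =>
    simp only [decide_eq_true_eq] at hc
    obtain ⟨h1, h2, h3, h4, pa, qa, pb, qb, pc, qc, pd, qd⟩ := hc
    have ho := chkOrders_eq
    simp only [chkOrders, List.all_cons, List.all_nil, Bool.and_true, Bool.and_eq_true] at ho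
    have horder : ∀ w : List ℕ, (match PU.collW w with | some r => r.1 == [] | none => false) = true →
        ∃ r, PU.collW w = some r ∧ r.1 = [] := by
      intro w hw
      split at hw
      · next r e => exact ⟨r, e, beq_iff_eq.1 hw⟩
      · exact absurd hw Bool.false_ne_true
    obtain ⟨oy, ox, ox'⟩ := ho
    obtain ⟨wa, hwa, hwa'⟩ := hdet [7, 9, 17] 1 0 (by decide) ⟨a, a', ea, ea', h1, pa, qa⟩
      ⟨c, c', ec, ec', h3, pc, qc⟩ (horder _ ox) (horder _ oy)
    obtain ⟨wb, hwb, hwb'⟩ := hdet [6, 8, 17] 0 1 (by decide) ⟨b, b', eb, eb', h2, pb, qb⟩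
      ⟨d, d', ed, ed', h4, pd, qd⟩ (horder _ ox') (horder _ oy)
    -- the kernel lies in the derived group
    have hker : σ.ker ≤ commutator E := by
      rw [← hr]
      rintro _ ⟨z, rfl⟩
      obtain ⟨h1', h2', h3'⟩ := (mem_Zamb_iff X).1 (ker_mem X z.1.2 z.2)
      have hmk : ∀ p q : ℕ, ∃ t : ↥(proU X).ker,
          (t.1.1 : X.Amb) = ((1 : ↥X.E.fix), (zfl ^ p, zfl ^ q)) := fun p q =>
        ⟨⟨⟨_, Subgroup.mem_sup_right ((mem_Zamb_iff X).2 ⟨rfl,
          by dsimp only; rw [zfl_pow]; split_ifs <;> simp,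
          by dsimp only; rw [zfl_pow]; split_ifs <;> simp⟩)⟩,
          MonoidHom.mem_ker.2 rfl⟩, rfl⟩
      obtain ⟨za, hza⟩ := hmk 1 0
      obtain ⟨zb, hzb⟩ := hmk 0 1
      have ha := hwa' za hza
      have hb := hwb' zb hzb
      have hz : z = 1 ∨ z = za ∨ z = zb ∨ z = za * zb := by
        rcases h2' with e2 | e2 <;> rcases h3' with e3 | e3
        · exact Or.inl (Subtype.ext (Subtype.ext (Prod.ext h1' (Prod.ext e2 e3))))
        · refine Or.inr (Or.inr (Or.inl (Subtype.ext (Subtype.ext ?_))))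
          rw [hzb]
          exact Prod.ext h1' (Prod.ext (by simp [e2]) (by simp [e3]))
        · refine Or.inr (Or.inl (Subtype.ext (Subtype.ext ?_)))
          rw [hza]
          exact Prod.ext h1' (Prod.ext (by simp [e2]) (by simp [e3]))
        · refine Or.inr (Or.inr (Or.inr (Subtype.ext (Subtype.ext ?_))))
          show _ = za.1.1 * zb.1.1
          rw [hza, hzb]
          exact Prod.ext (by simp [h1']) (Prod.ext (by simp [e2]) (by simp [e3]))
      rcases hz with rfl | rfl | rfl | rfl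
      · rw [map_one]; exact one_mem _
      · rw [ha]; exact hwa
      · rw [hb]; exact hwb
      · rw [map_mul, ha, hb]; exact mul_mem hwa hwb
    obtain ⟨hD, hDs⟩ := OmegaSevenMult.derived_perfect hs hc hperf
    refine ⟨↥(commutator E), inferInstance, inferInstance, σ.comp (commutator E).subtype,
      ⟨hDs, fun w hw => Subgroup.mem_center_iff.2 fun y =>
        Subtype.ext (Subgroup.mem_center_iff.1 (hc hw) y.1), by rw [hD]; exact le_top⟩, ?_⟩
    let j : ↥(Zamb X) →* ↥(σ.comp (commutator E).subtype).ker :=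
      MonoidHom.mk' (fun z =>
        ⟨⟨ι ⟨⟨z.1, Subgroup.mem_sup_right z.2⟩, ((mem_Zamb_iff X).1 z.2).1⟩,
            hker (hr ▸ ⟨_, rfl⟩)⟩,
          show ι _ ∈ σ.ker from hr ▸ ⟨_, rfl⟩⟩)
        fun z z' => Subtype.ext (Subtype.ext (by
          show ι _ = ι _ * ι _
          rw [← map_mul]
          rfl))
    have hj : Function.Injective j := fun z z' e => by
      have e1 := hinj (congrArg (fun t => t.1.1) e)
      exact Subtype.ext (congrArg (fun t => t.1.1) e1)
    have hcard : Nat.card ↥(Zamb X) = 4 := by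
      have hz : Nat.card ↥(Subgroup.zpowers zfl) = 2 := by
        rw [Nat.card_zpowers]
        exact orderOf_eq_prime (by rw [pow_two, zfl_sq]) zfl_ne
      rw [Zamb, Nat.card_congr (Subgroup.prodEquiv _ _).toEquiv, Nat.card_prod,
        Nat.card_congr (Subgroup.prodEquiv _ _).toEquiv, Nat.card_prod, hz]
      simp
    exact hcard ▸ Subgroup.card_dvd_of_injective j hj
  next => exact absurd hc Bool.false_ne_true

/-- Kernels of stem extensions are images of the multiplier. -/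
theorem exists_onto {Δ : Type u} [Group Δ] [Finite Δ] (σ : Δ →* ↥X.E.fix)
    (hσ : Cfsg.IsStemExtension σ) :
    ∃ π : Multiplicative (ZMod 3 × ZMod 2 × ZMod 2) →* σ.ker, Function.Surjective π := by
  classical
  obtain ⟨a, b, ha, hb, hac, hbc, hab⟩ := two_bound X σ hσ
  obtain ⟨hs, hc, hd⟩ := hσ
  letI : CommGroup ↥σ.ker :=
    { (inferInstance : Group ↥σ.ker) with
      mul_comm := fun p q => Subtype.ext (Subgroup.mem_center_iff.1 (hc q.2) p) }
  -- the two-part of the kernel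
  let P2 : Subgroup ↥σ.ker :=
    { carrier := {w | ∃ m : ℕ, w ^ 2 ^ m = 1}
      one_mem' := ⟨0, one_pow _⟩
      mul_mem' := fun {p q} ⟨m, hm⟩ ⟨n, hn⟩ => ⟨m + n, by
        rw [mul_pow, pow_add, pow_mul, hm, one_pow, one_mul, mul_comm, pow_mul, hn, one_pow]⟩
      inv_mem' := fun {p} ⟨m, hm⟩ => ⟨m, by rw [inv_pow, hm, inv_one]⟩ }
  let N : Subgroup Δ := P2.map σ.ker.subtype
  have hNk : N ≤ σ.ker := by rintro _ ⟨w, -, rfl⟩; exact w.2
  haveI : N.Normal := ⟨fun w hw g => by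
    rw [Subgroup.mem_center_iff.1 (hc (hNk hw)) g, mul_inv_cancel_right]; exact hw⟩
  let σ' : Δ ⧸ N →* ↥X.E.fix := QuotientGroup.lift N σ fun w hw => hNk hw
  have hσ' : Cfsg.IsStemExtension σ' := by
    refine ⟨fun g => ?_, fun e he => ?_, fun e he => ?_⟩
    · obtain ⟨w, rfl⟩ := hs g; exact ⟨QuotientGroup.mk w, rfl⟩
    · induction e using QuotientGroup.induction_on with
      | H w =>
        refine Subgroup.mem_center_iff.2 fun d => ?_
        induction d using QuotientGroup.induction_on with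
        | H v =>
          rw [← QuotientGroup.mk_mul, ← QuotientGroup.mk_mul,
            Subgroup.mem_center_iff.1 (hc (show w ∈ σ.ker from he)) v]
    · induction e using QuotientGroup.induction_on with
      | H w =>
        have h := Subgroup.mem_map_of_mem (QuotientGroup.mk' N) (hd (show w ∈ σ.ker from he))
        rw [commutator_def, Subgroup.map_commutator] at h
        exact Subgroup.commutator_mono le_top le_top h
  have hodd : ¬ 2 ∣ Nat.card σ'.ker := by
    intro hdvd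
    obtain ⟨⟨e, he⟩, ho⟩ := exists_prime_orderOf_dvd_card' 2 hdvd
    induction e using QuotientGroup.induction_on with
    | H w =>
      have hw : w ∈ σ.ker := he
      have h2 : (QuotientGroup.mk w : Δ ⧸ N) ^ 2 = 1 := by
        have := pow_orderOf_eq_one (⟨QuotientGroup.mk w, he⟩ : σ'.ker)
        rw [ho] at this
        exact congrArg Subtype.val this
      rw [← QuotientGroup.mk_pow, QuotientGroup.eq_one_iff] at h2
      obtain ⟨v, ⟨m, hm⟩, hv⟩ := h2
      have hwN : w ∈ N := by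
        refine ⟨⟨w, hw⟩, ⟨m + 1, ?_⟩, rfl⟩
        rw [pow_succ', pow_mul, ← show v = (⟨w, hw⟩ : σ.ker) ^ 2 from Subtype.ext hv, hm]
      have : (⟨QuotientGroup.mk w, he⟩ : σ'.ker) = 1 := Subtype.ext ((QuotientGroup.eq_one_iff w).2 hwN)
      rw [this, orderOf_one] at ho
      omega
  have hle : Nat.card σ'.ker ≤ 3 := by
    have := E6Root.card_ker_le_of_coprime X.f X.hf X.hK Nat.prime_two.isPrimePow Nat.prime_two
      dvd_rfl σ' hσ' hodd
    simpa using this
  -- elements of order three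
  let O3 : Subgroup ↥σ.ker :=
    { carrier := {w | w ^ 3 = 1}
      one_mem' := one_pow _
      mul_mem' := fun {p q} (hp : p ^ 3 = 1) (hq : q ^ 3 = 1) => by
        show (p * q) ^ 3 = 1; rw [mul_pow, hp, hq, one_mul]
      inv_mem' := fun {p} (hp : p ^ 3 = 1) => by show p⁻¹ ^ 3 = 1; rw [inv_pow, hp, inv_one] }
  let proj' : ↥σ.ker →* ↥σ'.ker :=
    ((QuotientGroup.mk' N).comp σ.ker.subtype).codRestrict _ fun w => w.2
  have hO3 : Nat.card O3 ≤ 3 := by
    refine le_trans (Nat.card_le_card_of_injective (fun w : O3 => proj' w) fun p q e => ?_) hle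
    have e' : proj' (p : ↥σ.ker) = proj' (q : ↥σ.ker) := e
    have h : proj' ((p : ↥σ.ker)⁻¹ * q) = 1 := by rw [map_mul, map_inv, e', inv_mul_cancel]
    have h' : ((((p : ↥σ.ker)⁻¹ * q : ↥σ.ker)) : Δ) ∈ N :=
      (QuotientGroup.eq_one_iff _).1 (congrArg Subtype.val h)
    obtain ⟨v, ⟨m, hm⟩, hv⟩ := h'
    obtain rfl : v = (p : ↥σ.ker)⁻¹ * q := Subtype.ext hv
    have h3 : ((p : ↥σ.ker)⁻¹ * q) ^ 3 = 1 := (mul_mem (inv_mem p.2) q.2 : _ ∈ O3)
    have h1 := Nat.Coprime.pow_left (m) (show Nat.Coprime 2 3 by norm_num)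
    have h0 := pow_gcd_eq_one.2 ⟨hm, h3⟩
    rw [show Nat.gcd (2 ^ m) 3 = 1 from h1, pow_one] at h0
    exact Subtype.ext (inv_mul_eq_one.1 h0)
  obtain ⟨c, hc3, hgen⟩ : ∃ c : ↥σ.ker, c ^ 3 = 1 ∧ ∀ w : ↥σ.ker, w ^ 3 = 1 → w ∈ Subgroup.zpowers c := by
    by_cases h : ∀ w : ↥σ.ker, w ^ 3 = 1 → w = 1
    · exact ⟨1, one_pow _, fun w hw => by rw [h w hw]; exact one_mem _⟩
    push Not at h
    obtain ⟨c, hc3, hne⟩ := h
    refine ⟨c, hc3, fun w hw => ?_⟩
    have hle' : Subgroup.zpowers c ≤ O3 := (Subgroup.zpowers_le).2 hc3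
    have he : Subgroup.zpowers c = O3 := Subgroup.eq_of_le_of_card_ge hle' (by
      rw [Nat.card_zpowers, orderOf_eq_prime hc3 hne]; exact hO3)
    rw [he]; exact hw
  have hak : ∃ a' b' : ↥σ.ker, a' ^ 2 = 1 ∧ b' ^ 2 = 1 ∧
      ∀ w : ↥σ.ker, (∃ m : ℕ, w ^ 2 ^ m = 1) → ∃ i j : ℕ, w = a' ^ i * b' ^ j := by
    -- replace the generators by elements of the kernel
    by_cases h : ∀ w : ↥σ.ker, (∃ m : ℕ, w ^ 2 ^ m = 1) → w = 1
    · exact ⟨1, 1, one_pow _, one_pow _, fun w hw => ⟨0, 0, by simp [h w hw]⟩⟩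
    have hsq : ∀ w : ↥σ.ker, (∃ m : ℕ, w ^ 2 ^ m = 1) → w ^ 2 = 1 := by
      intro w ⟨m, hm⟩
      obtain ⟨i, j, e⟩ := hab w w.2 ⟨m, congrArg Subtype.val hm⟩
      refine Subtype.ext ?_
      rw [SubmonoidClass.coe_pow, e, (show Commute (a ^ i) (b ^ j) from
        Subgroup.mem_center_iff.1 (pow_mem hbc j) _).mul_pow, ← pow_mul, ← pow_mul, mul_comm i,
        mul_comm j, pow_mul, pow_mul, ha, hb]
      simp
    have hcard : Nat.card P2 ≤ 4 := by
      have hdec : ∀ w : P2, ∃ ij : Fin 2 × Fin 2, ((w : ↥σ.ker) : Δ) = a ^ ij.1.val * b ^ ij.2.val := by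
        intro w
        obtain ⟨m, hm⟩ := w.2
        obtain ⟨i, j, e⟩ := hab _ w.1.2 ⟨m, congrArg Subtype.val hm⟩
        have hmod : ∀ (x : Δ) (n : ℕ), x ^ 2 = 1 → x ^ n = x ^ (n % 2) := fun x n hx => by
          conv_lhs => rw [← Nat.mod_add_div n 2, pow_add, pow_mul, hx, one_pow, mul_one]
        exact ⟨(⟨i % 2, Nat.mod_lt _ two_pos⟩, ⟨j % 2, Nat.mod_lt _ two_pos⟩),
          by rw [e, hmod a i ha, hmod b j hb]⟩
      choose φ hφ using hdec
      refine (Nat.card_le_card_of_injective φ fun p q e => Subtype.ext (Subtype.ext ?_)).trans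
        (by simp)
      rw [hφ p, hφ q, e]
    push Not at h
    obtain ⟨a', ha', hane⟩ := h
    by_cases h2 : ∀ w : ↥σ.ker, (∃ m : ℕ, w ^ 2 ^ m = 1) → w = 1 ∨ w = a'
    · refine ⟨a', 1, hsq a' ha', one_pow _, fun w hw => ?_⟩
      rcases h2 w hw with rfl | rfl
      · exact ⟨0, 0, by simp⟩
      · exact ⟨1, 0, by simp⟩
    push Not at h2
    obtain ⟨b', hb', hb1, hb2⟩ := h2
    refine ⟨a', b', hsq a' ha', hsq b' hb', fun w hw => ?_⟩
    have hpa := hsq a' ha'
    have hpb := hsq b' hb'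
    have hne : a' * b' ≠ 1 := fun e => hb2 (by
      have : b' = a'⁻¹ := eq_inv_of_mul_eq_one_right e
      rw [this, inv_eq_of_mul_eq_one_right (by rw [← pow_two, hpa])])
    let f : Fin 2 × Fin 2 → P2 := fun ij =>
      ⟨a' ^ ij.1.val * b' ^ ij.2.val, mul_mem (pow_mem (show a' ∈ P2 from ha') _)
        (pow_mem (show b' ∈ P2 from hb') _)⟩
    have hf : Function.Injective f := by
      rintro ⟨i, j⟩ ⟨i', j'⟩ e
      have e' := congrArg Subtype.val e
      simp only [f] at e'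
      fin_cases i <;> fin_cases j <;> fin_cases i' <;> fin_cases j' <;>
        simp [pow_one] at e' <;>
        first
          | rfl
          | exact absurd e' hane
          | exact absurd e'.symm hane
          | exact absurd e' hb1
          | exact absurd e'.symm hb1
          | exact absurd e' hne
          | exact absurd e'.symm hne
          | exact absurd e' hb2
          | exact absurd e'.symm hb2
    have hbij : Function.Bijective f := hf.bijective_of_nat_card_le (hcard.trans (by simp))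
    obtain ⟨ij, e⟩ := hbij.2 ⟨w, hw⟩
    exact ⟨_, _, (congrArg Subtype.val e).symm⟩
  obtain ⟨a', b', ha', hb', hab'⟩ := hak
  let hom3 : ∀ {n : ℕ} (x : ↥σ.ker), x ^ n = 1 → (Multiplicative (ZMod n) →* ↥σ.ker) := fun {n} x hx =>
    (AddMonoidHom.toMultiplicativeLeft (ZMod.lift n
      ⟨zmultiplesHom (Additive ↥σ.ker) (Additive.ofMul x), by
        rw [zmultiplesHom_apply, natCast_zsmul, ← ofMul_pow, hx, ofMul_one]⟩))
  have hom3one : ∀ {n : ℕ} (x : ↥σ.ker) (hx : x ^ n = 1) (k : ℤ),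
      hom3 x hx (Multiplicative.ofAdd (k : ZMod n)) = x ^ k := fun x hx k => by
    simp [hom3, ← ofMul_zpow]
  let π : Multiplicative (ZMod 3 × ZMod 2 × ZMod 2) →* ↥σ.ker :=
    { toFun := fun v => hom3 c hc3 (Multiplicative.ofAdd v.toAdd.1) *
        (hom3 a' ha' (Multiplicative.ofAdd v.toAdd.2.1) * hom3 b' hb' (Multiplicative.ofAdd v.toAdd.2.2))
      map_one' := by simp
      map_mul' := fun u v => by
        simp only [toAdd_mul, Prod.fst_add, Prod.snd_add, ofAdd_add, map_mul]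
        rw [mul_mul_mul_comm (hom3 a' ha' _) _ (hom3 b' hb' _) _]
        exact mul_mul_mul_comm _ _ _ _ }
  refine ⟨π, fun w => ?_⟩
  have h6 : w ^ 6 = 1 := by
    have hq : proj' (w ^ 3) = 1 ∨ True := Or.inr trivial
    have hord : proj' w ^ Nat.card σ'.ker = 1 := pow_card_eq_one'
    have h1 : proj' (w ^ 3) = 1 := by
      rw [map_pow]
      have hpos : 0 < Nat.card σ'.ker := Nat.card_pos
      rcases (show Nat.card σ'.ker = 1 ∨ Nat.card σ'.ker = 3 by omega) with e | e <;> rw [e] at hord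
      · rw [pow_one] at hord; rw [hord, one_pow]
      · exact hord
    obtain ⟨v, hv, e⟩ := (QuotientGroup.eq_one_iff _).1 (congrArg Subtype.val h1)
    obtain rfl : v = w ^ 3 := Subgroup.subtype_injective _ e
    obtain ⟨i, j, e'⟩ := hab' _ hv
    rw [show 6 = 3 * 2 by norm_num, pow_mul, e', mul_pow, ← pow_mul, ← pow_mul, mul_comm i,
      mul_comm j, pow_mul, pow_mul, ha', hb', one_pow, one_pow, one_mul]
  obtain ⟨i, j, e⟩ := hab' (w ^ 3) ⟨1, by rw [pow_one, ← pow_mul]; exact h6⟩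
  obtain ⟨k, hk⟩ := Subgroup.mem_zpowers_iff.1 (hgen (w ^ 4) (by
    rw [← pow_mul, show 4 * 3 = 6 * 2 by norm_num, pow_mul, h6, one_pow]))
  refine ⟨Multiplicative.ofAdd (((k : ℤ) : ZMod 3), ((i : ℤ) : ZMod 2), ((j : ℤ) : ZMod 2)), ?_⟩
  show hom3 c hc3 _ * (hom3 a' ha' _ * hom3 b' hb' _) = w
  simp only [toAdd_ofAdd]
  rw [hom3one c hc3, hom3one a' ha', hom3one b' hb', zpow_natCast, zpow_natCast, hk, ← e, ← pow_add,
    show 4 + 3 = 6 + 1 by norm_num, pow_add, h6, one_mul, pow_one]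

/-- The multiplier. -/
theorem hasMultiplier :
    Cfsg.HasSchurMultiplier ↥X.E.fix (Multiplicative (ZMod 3 × ZMod 2 × ZMod 2)) := by
  classical
  haveI : Finite ↥X.E.fix := Finite.of_injective Subtype.val Subtype.val_injective
  have hperf := perfect_fixE6 X.f X.hf X.hK Nat.prime_two.isPrimePow
  refine ⟨?_, fun Δ _ _ σ hσ => exists_onto X σ hσ⟩
  obtain ⟨Γ₁, _, _, σ₁, h₁, c₁⟩ := exists_fourfold X hperf
  obtain ⟨Γ₂, _, _, σ₂, h₂, c₂⟩ :=
    E6Root.exists_threefold X.f X.hf X.hK Nat.prime_two.isPrimePow (by norm_num)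
  obtain ⟨D, _, _, τ, hτ, d₁, d₂⟩ := StemExt.exists_dominating hperf h₁ h₂
  refine ⟨D, inferInstance, inferInstance, τ, hτ, ?_⟩
  obtain ⟨π, hπ⟩ := exists_onto X τ hτ
  have h12 : 12 ∣ Nat.card τ.ker :=
    Nat.Coprime.mul_dvd_of_dvd_of_dvd (show Nat.Coprime 4 3 by norm_num) (c₁.trans d₁) (c₂.trans d₂)
  have hA : Nat.card (Multiplicative (ZMod 3 × ZMod 2 × ZMod 2)) = 12 := by
    simp
  have hbij : Function.Bijective π := hπ.bijective_of_nat_card_le (by
    rw [hA]; exact Nat.le_of_dvd Nat.card_pos h12)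
  exact ⟨(MulEquiv.ofBijective π hbij).symm⟩

end CfsgLib.E6Two
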