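import Mathlib

/-!
Collection in a group with a system of generators whose squares and commutators are words in later
generators, up to central defects.
-/

set_option autoImplicit false
set_option linter.unusedSectionVars false

namespace CfsgLib.E6Two

/-- A polycyclic presentation of exponent two: for `g ≤ h` a word in the letters above `h`. -/
structure Pres where
  /-- number of generators -/
  n : ℕ
  /-- the word of `(h, g)` -/
  rel : ℕ → ℕ → List ℕ
  /-- the number of the defect of `(h, g)` -/
  idx : ℕ → ℕ → ℕ

namespace Pres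

variable (P : Pres)

/-- Collection of a stack of letters behind a reversed normal word, recording the defects. -/
def coll : ℕ → List ℕ → List ℕ → List ℕ → Option (List ℕ × List ℕ)
  | 0, _, _, _ => none
  | _ + 1, [], v, d => some (v.reverse, d)
  | k + 1, g :: st, [], d => coll k st [g] d
  | k + 1, g :: st, h :: v, d =>
    if h < g then coll k st (g :: h :: v) d
    else if h = g then coll k (P.rel h g ++ st) v (P.idx h g :: d)
    else coll k (g :: h :: P.rel h g ++ st) v (P.idx h g :: d)

/-- Collection of a word. -/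
def collW (w : List ℕ) : Option (List ℕ × List ℕ) := P.coll 400 w [] []

variable {Γ : Type*} [Group Γ]

/-- The value of a word. -/
def ev (x : ℕ → Γ) (w : List ℕ) : Γ := (w.map x).prod

@[simp] lemma ev_nil (x : ℕ → Γ) : ev x [] = 1 := rfl
@[simp] lemma ev_cons (x : ℕ → Γ) (a : ℕ) (w : List ℕ) : ev x (a :: w) = x a * ev x w := by
  simp [ev]
@[simp] lemma ev_append (x : ℕ → Γ) (v w : List ℕ) : ev x (v ++ w) = ev x v * ev x w := by
  simp [ev]

/-- The elements `x` and central defects `c` satisfy the relations. -/
structure Holds (x c : ℕ → Γ) : Prop where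
  sq : ∀ g < P.n, x g * x g = ev x (P.rel g g) * c (P.idx g g)
  swap : ∀ h < P.n, ∀ g < h, x h * x g = x g * x h * ev x (P.rel h g) * c (P.idx h g)
  central : ∀ k, c k ∈ Subgroup.center Γ

/-- The words stay above. -/
def Above : Prop := ∀ h < P.n, ∀ g ≤ h, ∀ k ∈ P.rel h g, h < k ∧ k < P.n

/-- The check of the words. -/
def chkAbove : Bool :=
  (List.range P.n).all fun h => (List.range (h + 1)).all fun g =>
    (P.rel h g).all fun k => decide (h < k ∧ k < P.n)

lemma above_of_chk (hc : P.chkAbove = true) : P.Above := by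
  intro h hh g hg k hk
  simp only [chkAbove, List.all_eq_true, List.mem_range, decide_eq_true_eq] at hc
  exact hc h hh g (by omega) k hk

variable {P} {x c : ℕ → Γ}

lemma comm_c (H : P.Holds x c) (k : ℕ) (a : Γ) : a * c k = c k * a :=
  Subgroup.mem_center_iff.1 (H.central k) a

lemma dprod_central (H : P.Holds x c) (d : List ℕ) (a : Γ) :
    a * ev c d = ev c d * a := by
  induction d with
  | nil => simp
  | cons k d ih => rw [ev_cons, ← mul_assoc, comm_c H, mul_assoc, ih, mul_assoc]

/-- Collection preserves the value up to the recorded defects. -/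
theorem coll_sound (hA : P.Above) (H : P.Holds x c) : ∀ (k : ℕ) (st v d : List ℕ) {r : List ℕ × List ℕ},
    (∀ a ∈ st, a < P.n) → (∀ a ∈ v, a < P.n) → P.coll k st v d = some r →
    ev x v.reverse * ev x st * ev c d = ev x r.1 * ev c r.2
  | 0, st, v, d, r, _, _, e => by simp [coll] at e
  | k + 1, [], v, d, r, _, _, e => by
    simp only [coll, Option.some.injEq] at e
    subst e; simp
  | k + 1, g :: st, [], d, r, hst, hv, e => by
    simp only [coll] at e
    have := coll_sound hA H k st [g] d (fun a ha => hst a (List.mem_cons_of_mem _ ha))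
      (fun a ha => by rw [List.mem_singleton.1 ha]; exact hst g List.mem_cons_self) e
    simpa [mul_assoc] using this
  | k + 1, g :: st, h :: v, d, r, hst, hv, e => by
    have hg := hst g List.mem_cons_self
    have hh := hv h List.mem_cons_self
    have hst' : ∀ a ∈ st, a < P.n := fun a ha => hst a (List.mem_cons_of_mem _ ha)
    have hv' : ∀ a ∈ v, a < P.n := fun a ha => hv a (List.mem_cons_of_mem _ ha)
    simp only [coll] at e
    split_ifs at e with h1 h2
    · have := coll_sound hA H k st (g :: h :: v) d hst' (fun a ha =>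
        (List.mem_cons.1 ha).elim (fun e' => e' ▸ hg) (hv a)) e
      simpa [mul_assoc] using this
    · subst h2
      have := coll_sound hA H k (P.rel h h ++ st) v (P.idx h h :: d) (fun a ha =>
        (List.mem_append.1 ha).elim (fun ha => (hA h hh h le_rfl a ha).2) (hst' a)) hv' e
      rw [← this]
      simp only [List.reverse_cons, ev_append, ev_cons, ev_nil, mul_one]
      calc ev x v.reverse * x h * (x h * ev x st) * ev c d
          = ev x v.reverse * (x h * x h) * ev x st * ev c d := by group
        _ = ev x v.reverse * ev x (P.rel h h) * (c (P.idx h h) * ev x st) * ev c d := by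
            rw [H.sq h hh]; group
        _ = _ := by rw [← comm_c H]; group
    · have hlt : g < h := by omega
      have := coll_sound hA H k (g :: h :: P.rel h g ++ st) v (P.idx h g :: d) (fun a ha => by
        rcases List.mem_append.1 ha with ha | ha
        · rcases List.mem_cons.1 ha with rfl | ha
          · exact hg
          rcases List.mem_cons.1 ha with rfl | ha
          · exact hh
          · exact (hA h hh g hlt.le a ha).2
        · exact hst' a ha) hv' e
      rw [← this]
      simp only [List.reverse_cons, ev_append, ev_cons, ev_nil, mul_one]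
      calc ev x v.reverse * x h * (x g * ev x st) * ev c d
          = ev x v.reverse * (x h * x g) * ev x st * ev c d := by group
        _ = ev x v.reverse * (x g * x h * ev x (P.rel h g)) * (c (P.idx h g) * ev x st) * ev c d := by
            rw [H.swap h hh g hlt]; group
        _ = _ := by rw [← comm_c H]; group

theorem collW_sound (hA : P.Above) (H : P.Holds x c) {w : List ℕ} {r : List ℕ × List ℕ}
    (hw : ∀ a ∈ w, a < P.n) (e : P.collW w = some r) : ev x w = ev x r.1 * ev c r.2 := by
  simpa using coll_sound hA H 400 w [] [] hw (fun a ha => absurd ha List.not_mem_nil) e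

/-- The generators from the position `i` on. -/
def genFrom (x : ℕ → Γ) (n i : ℕ) (Z : Subgroup Γ) : Subgroup Γ :=
  Subgroup.closure (x '' {j | i ≤ j ∧ j < n}) ⊔ Z

/-- Every element generated is a normal word times a defect. -/
theorem exists_normal (hA : P.Above) (H : P.Holds x c) (Z : Subgroup Γ)
    (hZ : Z ≤ Subgroup.center Γ) (hc : ∀ h < P.n, ∀ g ≤ h, c (P.idx h g) ∈ Z) (i : ℕ) :
    ∀ s ∈ genFrom x P.n i Z, ∃ v : List ℕ, v.Pairwise (· < ·) ∧ (∀ a ∈ v, i ≤ a ∧ a < P.n) ∧
      ∃ z ∈ Z, s = ev x v * z := by
  induction hk : P.n - i generalizing i with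
  | zero =>
    intro s hs
    have he : {j | i ≤ j ∧ j < P.n} = (∅ : Set ℕ) :=
      Set.eq_empty_iff_forall_notMem.2 fun j hj => by
        have : i ≤ j ∧ j < P.n := hj
        omega
    rw [genFrom, he, Set.image_empty, Subgroup.closure_empty, bot_sup_eq] at hs
    exact ⟨[], List.Pairwise.nil, by simp, s, hs, by simp⟩
  | succ k ih =>
    have hi : i < P.n := by omega
    set S := genFrom x P.n (i + 1) Z with hS
    have hnormal := ih (i + 1) (by omega)
    have hxS : ∀ j, i < j → j < P.n → x j ∈ S := fun j h1 h2 =>
      Subgroup.mem_sup_left (Subgroup.subset_closure ⟨j, ⟨h1, h2⟩, rfl⟩)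
    have hwS : ∀ w : List ℕ, (∀ a ∈ w, i < a ∧ a < P.n) → ev x w ∈ S := by
      intro w hw
      induction w with
      | nil => simp
      | cons a w ih' =>
        rw [ev_cons]
        exact mul_mem (hxS a (hw a List.mem_cons_self).1 (hw a List.mem_cons_self).2)
          (ih' fun b hb => hw b (List.mem_cons_of_mem _ hb))
    have hZS : Z ≤ S := le_sup_right
    have hsq : x i * x i ∈ S := by
      rw [H.sq i hi]
      exact mul_mem (hwS _ fun a ha => hA i hi i le_rfl a ha) (hZS (hc i hi i le_rfl))
    have hsub : S ≤ S.comap (MulAut.conj (x i)⁻¹).toMonoidHom := by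
      rw [hS, genFrom, sup_le_iff, Subgroup.closure_le]
      refine ⟨?_, fun z hz => ?_⟩
      · rintro _ ⟨j, ⟨hj1, hj2⟩, rfl⟩
        show (x i)⁻¹ * x j * (x i)⁻¹⁻¹ ∈ S
        rw [inv_inv, mul_assoc, H.swap j hj2 i hj1, ← mul_assoc, ← mul_assoc, ← mul_assoc,
          inv_mul_cancel, one_mul]
        exact mul_mem (mul_mem (hxS j hj1 hj2) (hwS _ fun a ha =>
          ⟨by have := hA j hj2 i (Nat.le_of_succ_le hj1) a ha; omega, (hA j hj2 i (Nat.le_of_succ_le hj1) a ha).2⟩))
          (hZS (hc j hj2 i (Nat.le_of_succ_le hj1)))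
      · show (x i)⁻¹ * z * (x i)⁻¹⁻¹ ∈ S
        rw [Subgroup.mem_center_iff.1 (hZ hz) (x i)⁻¹, mul_inv_cancel_right]
        exact hZS hz
    have hconj : ∀ s ∈ S, (x i)⁻¹ * s * x i ∈ S := fun s hs => by
      have h1 : (x i)⁻¹ * s * (x i)⁻¹⁻¹ ∈ S := hsub hs
      rwa [inv_inv] at h1
    have hconj' : ∀ s ∈ S, x i * s * (x i)⁻¹ ∈ S := fun s hs => by
      have h1 := hconj _ (mul_mem (mul_mem hsq hs) (inv_mem hsq))
      convert h1 using 1
      group
    let H' : Subgroup Γ :=
      { carrier := {s | s ∈ S ∨ (x i)⁻¹ * s ∈ S}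
        one_mem' := Or.inl (one_mem S)
        mul_mem' := by
          rintro a b (ha | ha) (hb | hb)
          · exact Or.inl (mul_mem ha hb)
          · refine Or.inr ?_
            convert mul_mem (hconj a ha) hb using 1
            group
          · refine Or.inr ?_
            convert mul_mem ha hb using 1
            group
          · refine Or.inl ?_
            convert mul_mem (mul_mem (hconj' _ ha) hsq) hb using 1
            group
        inv_mem' := by
          rintro a (ha | ha)
          · exact Or.inl (inv_mem ha)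
          · refine Or.inr ?_
            convert mul_mem (inv_mem hsq) (hconj' _ (inv_mem ha)) using 1
            group }
    have hle : genFrom x P.n i Z ≤ H' := by
      rw [genFrom, sup_le_iff, Subgroup.closure_le]
      refine ⟨?_, fun z hz => Or.inl (hZS hz)⟩
      rintro _ ⟨j, ⟨hj1, hj2⟩, rfl⟩
      rcases eq_or_lt_of_le hj1 with rfl | h
      · exact Or.inr (by simp)
      · exact Or.inl (hxS j h hj2)
    intro s hs
    rcases hle hs with h | h
    · obtain ⟨v, hv, hvi, z, hz, e⟩ := hnormal s h
      exact ⟨v, hv, fun a ha => ⟨by have := hvi a ha; omega, (hvi a ha).2⟩, z, hz, e⟩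
    · obtain ⟨v, hv, hvi, z, hz, e⟩ := hnormal _ h
      refine ⟨i :: v, List.pairwise_cons.2 ⟨fun a ha => (hvi a ha).1, hv⟩, fun a ha => ?_, z, hz, ?_⟩
      · rcases List.mem_cons.1 ha with rfl | ha
        · omega
        · exact ⟨by have := hvi a ha; omega, (hvi a ha).2⟩
      · rw [ev_cons, mul_assoc, ← e, mul_inv_cancel_left]

/-- The kernel meets the generated group in the defects when normal words stay distinct below. -/
theorem ker_le_defects {U : Type*} [Group U] (hA : P.Above) (H : P.Holds x c) (Z : Subgroup Γ)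
    (hZ : Z ≤ Subgroup.center Γ) (hc : ∀ h < P.n, ∀ g ≤ h, c (P.idx h g) ∈ Z) (π : Γ →* U)
    (hπ : Z ≤ π.ker) (hinj : ∀ v : List ℕ, v.Pairwise (· < ·) → (∀ a ∈ v, a < P.n) →
      ev (π ∘ x) v = 1 → v = []) :
    Subgroup.closure (x '' {j | j < P.n}) ⊓ π.ker ≤ Z := by
  rintro s ⟨hs, hk⟩
  obtain ⟨v, hv, hvi, z, hz, rfl⟩ := exists_normal hA H Z hZ hc 0 s
    (Subgroup.mem_sup_left (by simpa using hs))
  have h1 : π (ev x v) = 1 := by
    simpa [MonoidHom.mem_ker.1 (hπ hz)] using MonoidHom.mem_ker.1 hk
  obtain rfl := hinj v hv (fun a ha => (hvi a ha).2) (by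
    rw [← h1, ev, ev, map_list_prod, List.map_map])
  simpa using hz

end Pres

end CfsgLib.E6Two
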